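import Mathlib.GroupTheory.Abelianization.Defs
import Mathlib.Data.Nat.Choose.Dvd
import Cfsg.Prelude.Def_Transfer
import Cfsg.Agent.Coprime.Action
import Cfsg.Agent.Solvable.Frattini

/-!
The Hall–Higman reduction: a minimal non-trivial coprime action on a `p`-group.
-/

open Pointwise
open scoped commutatorElement

namespace CfsgLib.HallHigman

variable {X : Type*} [Group X]

/-- Whatever normalises two subgroups normalises their commutator. -/
theorem le_normalizer_commutator {B P A : Subgroup X} (hP : B ≤ Subgroup.normalizer (P : Set X))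
    (hA : B ≤ Subgroup.normalizer (A : Set X)) :
    B ≤ Subgroup.normalizer ((⁅P, A⁆ : Subgroup X) : Set X) := by
  intro b hb
  rw [Subgroup.mem_normalizer_iff_map_conj_eq, Subgroup.map_commutator,
    Subgroup.mem_normalizer_iff_map_conj_eq.mp (hP hb),
    Subgroup.mem_normalizer_iff_map_conj_eq.mp (hA hb)]

/-- Whatever normalises `P` normalises a characteristic subgroup of `P`. -/
theorem le_normalizer_map_char {B P : Subgroup X} (hP : B ≤ Subgroup.normalizer (P : Set X))
    (K : Subgroup ↥P) [hK : K.Characteristic] :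
    B ≤ Subgroup.normalizer ((K.map P.subtype : Subgroup X) : Set X) := by
  intro b hb
  have hbP := Subgroup.mem_normalizer_iff_map_conj_eq.mp (hP hb)
  let e : ↥P ≃* ↥P :=
    ((MulAut.conj b).subgroupMap P).trans (MulEquiv.subgroupCongr hbP)
  rw [Subgroup.mem_normalizer_iff_map_conj_eq]
  conv_rhs => rw [← Subgroup.characteristic_iff_map_eq.mp hK e]
  rw [Subgroup.map_map, Subgroup.map_map]
  rfl

variable [Finite X] {p : ℕ} {A P : Subgroup X}

theorem coprime_card_of_coprime_prime [Fact p.Prime] (hP : IsPGroup p P)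
    (hA : (Nat.card A).Coprime p) : (Nat.card A).Coprime (Nat.card P) := by
  obtain ⟨n, hn⟩ := IsPGroup.iff_card.mp hP
  rw [hn]
  exact hA.pow_right n

/-- If `[P, A] = P` under coprime action, then the fixed points of `A` lie in `P'`. -/
theorem inf_centralizer_le_commutator (hAP : A ≤ Subgroup.normalizer (P : Set X))
    (hcop : (Nat.card A).Coprime (Nat.card P)) (h : ⁅P, A⁆ = P) :
    P ⊓ Subgroup.centralizer (A : Set X) ≤ ⁅P, P⁆ := by
  classical
  haveI := Fintype.ofFinite ↥A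
  let c : ↥A → ↥P →* ↥P := fun a =>
    { toFun := fun x => ⟨(a : X) * x * (a : X)⁻¹,
        (Subgroup.mem_normalizer_iff.mp (hAP a.2) x).mp x.2⟩
      map_one' := by ext; simp
      map_mul' := fun x y => by ext; simp [mul_assoc] }
  let N : ↥P →* Abelianization ↥P := ∏ a : ↥A, Abelianization.of.comp (c a)
  have hN : ∀ (x : ↥P) (b : ↥A), N (c b x) = N x := by
    intro x b
    simp only [N, MonoidHom.finsetProd_apply]
    refine Fintype.prod_equiv (Equiv.mulRight b) _ _ fun a => ?_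
    show Abelianization.of (c a (c b x)) = Abelianization.of (c (a * b) x)
    congr 1
    ext
    simp [c, mul_assoc]
  have hker : P ≤ N.ker.map P.subtype := by
    conv_lhs => rw [← h]
    rw [Subgroup.commutator_le]
    intro x hx a ha
    refine ⟨(⟨x, hx⟩ : ↥P) * c ⟨a, ha⟩ (⟨x, hx⟩ : ↥P)⁻¹, ?_, ?_⟩
    · rw [SetLike.mem_coe, MonoidHom.mem_ker, map_mul, hN, ← map_mul, mul_inv_cancel, map_one]
    · simp [c, commutatorElement_def, mul_assoc]
  rintro x ⟨hxP, hxA⟩
  obtain ⟨y, hy, hyx⟩ := hker hxP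
  obtain rfl : y = ⟨x, hxP⟩ := Subtype.ext hyx
  have h1 : N ⟨x, hxP⟩ = (Abelianization.of ⟨x, hxP⟩) ^ Nat.card ↥A := by
    simp only [N, MonoidHom.finsetProd_apply, MonoidHom.comp_apply]
    rw [Finset.prod_eq_pow_card (b := Abelianization.of ⟨x, hxP⟩), Finset.card_univ,
      Nat.card_eq_fintype_card]
    intro a _
    congr 1
    ext
    show (a : X) * x * (a : X)⁻¹ = x
    rw [Subgroup.mem_centralizer_iff.mp hxA a a.2, mul_inv_cancel_right]
  rw [MonoidHom.mem_ker.mp hy] at h1
  have h2 : orderOf (Abelianization.of (⟨x, hxP⟩ : ↥P)) ∣ Nat.card ↥P :=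
    (orderOf_map_dvd _ _).trans (orderOf_dvd_natCard _)
  have h3 : Abelianization.of (⟨x, hxP⟩ : ↥P) = 1 := by
    rw [← orderOf_eq_one_iff, ← Nat.dvd_one, ← hcop]
    exact Nat.dvd_gcd (orderOf_dvd_of_pow_eq_one h1.symm) h2
  rw [← Subgroup.map_subtype_commutator]
  refine ⟨⟨x, hxP⟩, ?_, rfl⟩
  exact (QuotientGroup.eq_one_iff _).mp h3

/-- In a finite nontrivial `p`-group, the Frattini subgroup (seen in `X`) is proper. -/
theorem map_frattini_lt (hP : P ≠ ⊥) : (frattini ↥P).map P.subtype < P := by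
  refine lt_of_le_of_ne (Subgroup.map_subtype_le _) fun h => ?_
  have htop : frattini ↥P = ⊤ := Subgroup.map_subtype_inj.mp
    (h.trans (by rw [← MonoidHom.range_eq_map, P.range_subtype]))
  have hbot : (⊥ : Subgroup ↥P) = ⊤ := frattini_nongenerating (by rw [bot_sup_eq, htop])
  apply hP
  rw [← P.range_subtype, MonoidHom.range_eq_map, ← hbot, Subgroup.map_bot]

theorem commutatorElement_pow_class_two {H : Type*} [Group H] {x y : H}
    (hc : ⁅y, x⁆ ∈ Subgroup.center H) (n : ℕ) : ⁅y ^ n, x⁆ = ⁅y, x⁆ ^ n := by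
  induction n with
  | zero => simp
  | succ n ih =>
    rw [pow_succ', commutatorElement_mul_left_eq_conj_mul, ih, pow_succ]
    have hz := Subgroup.mem_center_iff.mp (Subgroup.pow_mem _ hc n) y
    rw [hz, mul_inv_cancel_right]

/-- The power formula in class two. -/
theorem mul_pow_class_two {H : Type*} [Group H] (x y : H) (hc : ⁅y, x⁆ ∈ Subgroup.center H) :
    ∀ n : ℕ, (x * y) ^ n = x ^ n * y ^ n * ⁅y, x⁆ ^ (n.choose 2) := by
  intro n
  induction n with
  | zero => simp
  | succ n ih =>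
    have hcom := commutatorElement_pow_class_two hc n
    have hz : ∀ k : ℕ, ∀ g : H, g * ⁅y, x⁆ ^ k = ⁅y, x⁆ ^ k * g := fun k g =>
      Subgroup.mem_center_iff.mp (Subgroup.pow_mem _ hc k) g
    have hyx : y ^ n * x = x * y ^ n * ⁅y, x⁆ ^ n := by
      have h' : ⁅y ^ n, x⁆ * (x * y ^ n) = y ^ n * x := by
        rw [commutatorElement_def]; group
      rw [hcom, ← hz] at h'
      exact h'.symm
    calc (x * y) ^ (n + 1) = x ^ n * y ^ n * ⁅y, x⁆ ^ (n.choose 2) * (x * y) := by rw [pow_succ, ih]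
      _ = x ^ n * (y ^ n * x) * y * ⁅y, x⁆ ^ (n.choose 2) := by
          rw [mul_assoc (x ^ n * y ^ n), ← hz]; group
      _ = x ^ n * (x * y ^ n * ⁅y, x⁆ ^ n) * y * ⁅y, x⁆ ^ (n.choose 2) := by rw [hyx]
      _ = x ^ n * x * y ^ n * (⁅y, x⁆ ^ n * y) * ⁅y, x⁆ ^ (n.choose 2) := by group
      _ = x ^ (n + 1) * y ^ (n + 1) * ⁅y, x⁆ ^ ((n + 1).choose 2) := by
          rw [← hz, pow_succ x, pow_succ y, Nat.choose_succ_succ, Nat.choose_one_right, pow_add]
          group

variable [Fact p.Prime]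

/-- **Hall–Higman reduction.** `A ⊴ B`, `B` normalises the `p`-group `P`, `A` has order prime to
`p`, does not centralise `P`, but centralises every proper `B`-invariant subgroup. -/
theorem minimal_action {B : Subgroup X} (hP : IsPGroup p P)
    (hBP : B ≤ Subgroup.normalizer (P : Set X)) (hAB : A ≤ B)
    (hAn : B ≤ Subgroup.normalizer (A : Set X)) (hAp : (Nat.card A).Coprime p)
    (hnt : ⁅P, A⁆ ≠ ⊥)
    (hmin : ∀ U : Subgroup X, U < P → B ≤ Subgroup.normalizer (U : Set X) → ⁅U, A⁆ = ⊥) :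
    ⁅P, A⁆ = P ∧
    P ⊓ Subgroup.centralizer (A : Set X) = (frattini ↥P).map P.subtype ∧
    (Cfsg.IsElementaryAbelian p P ∨ Cfsg.IsSpecial p ↥P) ∧
    frattini ↥P ≤ Subgroup.center ↥P ∧
    (∀ U : Subgroup X, (frattini ↥P).map P.subtype ≤ U → U ≤ P →
      B ≤ Subgroup.normalizer (U : Set X) → U = (frattini ↥P).map P.subtype ∨ U = P) ∧
    (p ≠ 2 → ∀ x ∈ P, x ^ p = 1) := by
  have hAP := hAB.trans hBP
  have hcop := coprime_card_of_coprime_prime hP hAp
  have hPA : ⁅P, A⁆ = P := by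
    by_contra hne
    have hlt : ⁅P, A⁆ < P :=
      lt_of_le_of_ne (CfsgLib.Coprime.commutator_le_of_le_normalizer hAP) hne
    have h2 := hmin _ hlt (le_normalizer_commutator hBP hAn)
    rw [CfsgLib.Coprime.commutator_commutator_eq hAP hcop] at h2
    exact hnt h2
  have hP1 : P ≠ ⊥ := by
    intro h; apply hnt; rw [h, Subgroup.commutator_bot_left]
  set Φ := (frattini ↥P).map P.subtype with hΦ
  have hΦlt : Φ < P := map_frattini_lt hP1
  have hΦA : ⁅Φ, A⁆ = ⊥ := hmin _ hΦlt (le_normalizer_map_char hBP _)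
  have hPΦ : ⁅P, Φ⁆ ≤ Φ := by
    rw [← Subgroup.le_normalizer_iff_commutator_le_right]
    exact le_normalizer_map_char Subgroup.le_normalizer _
  have hcent : ⁅P, Φ⁆ = ⊥ := by
    have h1 : ⁅⁅A, Φ⁆, P⁆ = ⊥ := by
      rw [Subgroup.commutator_comm A, hΦA, Subgroup.commutator_bot_left]
    have h2 : ⁅⁅Φ, P⁆, A⁆ = ⊥ := by
      rw [eq_bot_iff, ← hΦA]
      refine Subgroup.commutator_mono ?_ le_rfl
      rw [Subgroup.commutator_comm]; exact hPΦ
    have h3 := Subgroup.commutator_commutator_eq_bot_of_rotate (H₁ := P) (H₂ := A) (H₃ := Φ) h1 h2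
    rwa [hPA] at h3
  have hzen : frattini ↥P ≤ Subgroup.center ↥P := by
    intro z hz
    rw [Subgroup.mem_center_iff]
    intro g
    have hc := Subgroup.mem_centralizer_iff.mp
      (Subgroup.commutator_eq_bot_iff_le_centralizer.mp hcent g.2) z ⟨z, hz, rfl⟩
    exact Subtype.ext hc.symm
  have hD : ⁅P, P⁆ ≤ Φ := by
    rw [← Subgroup.map_subtype_commutator]
    exact Subgroup.map_mono (CfsgLib.Solvable.commutator_le_frattini hP)
  have hC : P ⊓ Subgroup.centralizer (A : Set X) = Φ :=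
    le_antisymm ((inf_centralizer_le_commutator hAP hcop hPA).trans hD)
      (le_inf hΦlt.le (Subgroup.commutator_eq_bot_iff_le_centralizer.mp hΦA))
  have hDeq : commutator ↥P = frattini ↥P := by
    refine le_antisymm (CfsgLib.Solvable.commutator_le_frattini hP) ?_
    rw [← Subgroup.map_subtype_le_map_subtype, Subgroup.map_subtype_commutator]
    exact hC.ge.trans (inf_centralizer_le_commutator hAP hcop hPA)
  refine ⟨hPA, hC, ?_, hzen, ?_, ?_⟩
  · by_cases hab : Subgroup.center ↥P = ⊤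
    · left
      have hcm : IsMulCommutative ↥P :=
        ⟨⟨fun a b => Subgroup.mem_center_iff.mp (hab ▸ Subgroup.mem_top b) a⟩⟩
      refine ⟨hcm, fun x hx => ?_⟩
      have hx' := CfsgLib.Solvable.pow_mem_frattini hP ⟨x, hx⟩
      rw [← hDeq, commutator_eq_bot, Subgroup.mem_bot] at hx'
      exact congrArg Subtype.val hx'
    · right
      have hlt : (Subgroup.center ↥P).map P.subtype < P := by
        refine lt_of_le_of_ne (Subgroup.map_subtype_le _) fun h => hab ?_
        exact Subgroup.map_subtype_inj.mp (h.trans (by rw [← MonoidHom.range_eq_map, P.range_subtype]))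
      have hZ := hmin _ hlt (le_normalizer_map_char hBP _)
      have hle : (Subgroup.center ↥P).map P.subtype ≤ Φ := hC.symm ▸
        le_inf (Subgroup.map_subtype_le _) (Subgroup.commutator_eq_bot_iff_le_centralizer.mp hZ)
      have heq : frattini ↥P = Subgroup.center ↥P :=
        le_antisymm hzen (Subgroup.map_subtype_le_map_subtype.mp hle)
      exact ⟨hP, heq, hDeq.trans heq⟩
  · intro U hΦU hUP hBU
    by_cases h : U = P
    · exact Or.inr h
    · left
      refine le_antisymm ?_ hΦU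
      rw [← hC]
      exact le_inf hUP (Subgroup.commutator_eq_bot_iff_le_centralizer.mp
        (hmin U (lt_of_le_of_ne hUP h) hBU))
  · intro hp2
    have hcl : ∀ x y : ↥P, ⁅y, x⁆ ∈ Subgroup.center ↥P := fun x y =>
      hzen (CfsgLib.Solvable.commutator_le_frattini hP
        (Subgroup.commutator_mem_commutator (Subgroup.mem_top y) (Subgroup.mem_top x)))
    have hmul : ∀ x y : ↥P, (x * y) ^ p = x ^ p * y ^ p := by
      intro x y
      rw [mul_pow_class_two x y (hcl x y)]
      have hz : ⁅y, x⁆ ^ p = 1 := by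
        rw [← commutatorElement_pow_class_two (hcl x y), commutatorElement_eq_one_iff_mul_comm]
        exact (Subgroup.mem_center_iff.mp (hzen (CfsgLib.Solvable.pow_mem_frattini hP y)) x).symm
      obtain ⟨m, hm⟩ : p ∣ p.choose 2 :=
        Nat.Prime.dvd_choose_self (Fact.out : p.Prime) (by norm_num)
          (lt_of_le_of_ne (Fact.out : p.Prime).two_le (Ne.symm hp2))
      rw [hm, pow_mul, hz, one_pow, mul_one]
    let f : ↥P →* ↥P :=
      { toFun := fun x => x ^ p
        map_one' := one_pow p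
        map_mul' := hmul }
    have hker : P ≤ f.ker.map P.subtype := by
      conv_lhs => rw [← hPA]
      rw [Subgroup.commutator_le]
      intro x hx a ha
      have hmem : ⁅x, a⁆ ∈ P := CfsgLib.Coprime.commutator_le_of_le_normalizer hAP
        (Subgroup.commutator_mem_commutator hx ha)
      refine ⟨⟨⁅x, a⁆, hmem⟩, ?_, rfl⟩
      rw [SetLike.mem_coe, MonoidHom.mem_ker]
      have ha' : a * x⁻¹ * a⁻¹ ∈ P :=
        (Subgroup.mem_normalizer_iff.mp (hAP ha) x⁻¹).mp (P.inv_mem hx)
      have hdec : (⟨⁅x, a⁆, hmem⟩ : ↥P) = ⟨x, hx⟩ * ⟨a * x⁻¹ * a⁻¹, ha'⟩ := by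
        apply Subtype.ext
        simp [commutatorElement_def, mul_assoc]
      rw [hdec, map_mul]
      apply Subtype.ext
      show x ^ p * (a * x⁻¹ * a⁻¹) ^ p = 1
      have hxC : x ^ p ∈ Subgroup.centralizer (A : Set X) :=
        (Subgroup.mem_inf.mp (hC.ge ⟨⟨x, hx⟩ ^ p, CfsgLib.Solvable.pow_mem_frattini hP _, rfl⟩)).2
      rw [conj_pow, inv_pow, (Subgroup.mem_centralizer_iff.mp (inv_mem hxC) a ha),
        mul_inv_cancel_right, mul_inv_cancel]
    intro x hx
    obtain ⟨y, hy, rfl⟩ := hker hx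
    exact congrArg Subtype.val (MonoidHom.mem_ker.mp hy)

/-- If `A` does not centralise `P`, then `P` has a `B`-invariant subgroup on which the action of
`A` is minimal non-trivial. -/
theorem exists_minimal_action {B : Subgroup X} (hBP : B ≤ Subgroup.normalizer (P : Set X))
    (hnt : ⁅P, A⁆ ≠ ⊥) :
    ∃ Q : Subgroup X, Q ≤ P ∧ B ≤ Subgroup.normalizer (Q : Set X) ∧ ⁅Q, A⁆ ≠ ⊥ ∧
      ∀ U : Subgroup X, U < Q → B ≤ Subgroup.normalizer (U : Set X) → ⁅U, A⁆ = ⊥ := by
  obtain ⟨Q, hQP, ⟨hBQ, hQ⟩, hmin⟩ := exists_minimal_le_of_wellFoundedLT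
    (fun Q : Subgroup X => B ≤ Subgroup.normalizer (Q : Set X) ∧ ⁅Q, A⁆ ≠ ⊥) P ⟨hBP, hnt⟩
  refine ⟨Q, hQP, hBQ, hQ, fun U hU hBU => ?_⟩
  by_contra h
  exact hU.not_ge (hmin ⟨hBU, h⟩ hU.le)

end CfsgLib.HallHigman
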