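import Mathlib.GroupTheory.QuotientGroup.Basic
import Cfsg.Agent.Coprime.Generation

/-!
Coprime action of an abelian group `A`: generation by the centralisers of the subgroups `B ≤ A`
with `A / B` cyclic.
-/

open Pointwise

namespace CfsgLib.HallHigman

variable {X : Type*} [Group X] [Finite X]

/-- `A / B` is cyclic: `A = ⟨B, a⟩`. -/
theorem le_of_forall_cyclic_quotient {A : Subgroup X} (hAab : IsMulCommutative A)
    {G W : Subgroup X} (hAG : A ≤ Subgroup.normalizer (G : Set X))
    (hcop : (Nat.card A).Coprime (Nat.card G))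
    (hW : ∀ B : Subgroup X, B ≤ A → (∃ a ∈ A, B ⊔ Subgroup.zpowers a = A) →
      G ⊓ Subgroup.centralizer (B : Set X) ≤ W) : G ≤ W := by
  suffices key : ∀ n (H : Subgroup X), Nat.card H = n → H ≤ G →
      A ≤ Subgroup.normalizer (H : Set X) → H ≤ W from key _ G rfl le_rfl hAG
  intro n
  induction n using Nat.strong_induction_on with
  | _ n ih =>
    intro H hn hHG hAH
    set C := A ⊓ Subgroup.centralizer (H : Set X) with hCdef
    have hCA : C ≤ A := inf_le_left
    by_cases hcyc : ∃ a ∈ A, C ⊔ Subgroup.zpowers a = A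
    · refine le_trans ?_ (hW C hCA hcyc)
      exact le_inf hHG (Subgroup.le_centralizer_iff.mp inf_le_right)
    have hcom : ∀ a ∈ A, ∀ b ∈ A, a * b = b * a := fun a ha b hb =>
      congrArg Subtype.val (hAab.is_comm.comm ⟨a, ha⟩ ⟨b, hb⟩)
    set L := H ⊔ A with hL
    have hLC : L ≤ Subgroup.centralizer (C : Set X) := sup_le
      (Subgroup.le_centralizer_iff.mp inf_le_right)
      (fun a ha => Subgroup.mem_centralizer_iff.mpr fun c hc => hcom c (hCA hc) a ha)
    set C' := C.subgroupOf L with hC'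
    have hC'n : C'.Normal := by
      refine ⟨fun c hc g => ?_⟩
      have h : (c : X) * g = g * c := Subgroup.mem_centralizer_iff.mp (hLC g.2) c hc
      have he : c * g = g * c := Subtype.ext h
      rw [← he, mul_inv_cancel_right]; exact hc
    set f := QuotientGroup.mk' C' with hf
    set H' := (H.subgroupOf L).map f with hH'
    set A' := (A.subgroupOf L).map f with hA'
    have hA'com : IsMulCommutative A' := by
      refine ⟨⟨?_⟩⟩
      rintro ⟨_, x, hx, rfl⟩ ⟨_, y, hy, rfl⟩
      apply Subtype.ext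
      show f x * f y = f y * f x
      rw [← map_mul, ← map_mul]
      exact congrArg f (Subtype.ext (hcom _ hx _ hy))
    have hA'cyc : ¬ IsCyclic A' := by
      rintro ⟨⟨_, a, ha, rfl⟩, hgen⟩
      refine hcyc ⟨a, ha, le_antisymm (sup_le hCA (Subgroup.zpowers_le.mpr ha)) fun b hb => ?_⟩
      obtain ⟨i, hi⟩ := hgen ⟨_, ⟨b, Subgroup.mem_sup_right hb⟩, hb, rfl⟩
      have h2 : f (a ^ i) = f ⟨b, Subgroup.mem_sup_right hb⟩ := by
        rw [map_zpow]; exact congrArg Subtype.val hi
      have h3 : ((a : X) ^ i)⁻¹ * b ∈ C := by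
        have := (QuotientGroup.eq.mp h2 : _ ∈ C')
        simpa [C', Subgroup.mem_subgroupOf] using this
      have := mul_mem (Subgroup.mem_sup_right (S := C) (Subgroup.zpow_mem_zpowers (a : X) i))
        (Subgroup.mem_sup_left (T := Subgroup.zpowers (a : X)) h3)
      simpa using this
    have hAH' : A' ≤ Subgroup.normalizer (H' : Set (L ⧸ C')) := by
      refine le_trans (Subgroup.map_mono ?_) (Subgroup.le_normalizer_map f)
      exact le_trans (Subgroup.comap_mono hAH) (Subgroup.le_normalizer_comap _)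
    have hHdvd : Nat.card H' ∣ Nat.card H :=
      (Subgroup.card_map_dvd _ _).trans
        (Nat.card_congr (Subgroup.subgroupOfEquivOfLe le_sup_left).toEquiv).dvd
    have hcop' : (Nat.card A').Coprime (Nat.card H') := by
      refine Nat.Coprime.coprime_dvd_left ?_ ((hcop.coprime_dvd_right (Subgroup.card_dvd_of_le hHG)).coprime_dvd_right hHdvd)
      exact (Subgroup.card_map_dvd _ _).trans
        (Nat.card_congr (Subgroup.subgroupOfEquivOfLe le_sup_right).toEquiv).dvd
    have hHC : H ⊓ C = ⊥ := CfsgLib.Coprime.inf_eq_bot_of_coprime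
      ((hcop.symm.coprime_dvd_left (Subgroup.card_dvd_of_le hHG)).coprime_dvd_right
        (Subgroup.card_dvd_of_le hCA))
    have hgenW : H' ≤ ((W ⊓ H).subgroupOf L).map f := by
      refine CfsgLib.Coprime.le_of_forall_inf_centralizer_le hA'cyc hAH' hcop' ?_
      rintro _ ⟨a, ha, rfl⟩ ha1 _ ⟨⟨h, hh, rfl⟩, hhc⟩
      have hh' : (h : X) ∈ H := hh
      have ha' : (a : X) ∈ A := ha
      have haC : (a : X) ∉ C := fun haC => ha1 ((QuotientGroup.eq_one_iff a).mpr haC)
      have hfix : (h : X) * a = a * h := by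
        have e : f a * f h = f h * f a := (Subgroup.mem_centralizer_iff.mp hhc (f a) rfl)
        rw [← map_mul, ← map_mul] at e
        have hmem : ((a * h)⁻¹ * (h * a) : L) ∈ C' := QuotientGroup.eq.mp e
        have hmemC : ((a : X) * h)⁻¹ * (h * a) ∈ C := by simpa [C', Subgroup.mem_subgroupOf] using hmem
        have hmemH : ((a : X) * h)⁻¹ * (h * a) ∈ H := by
          have h1 := (Subgroup.mem_normalizer_iff''.mp (hAH ha') h).mp hh'
          have h2 := H.mul_mem (H.inv_mem hh') h1
          simpa [mul_assoc] using h2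
        have h3 : ((a : X) * h)⁻¹ * (h * a) ∈ H ⊓ C := ⟨hmemH, hmemC⟩
        rw [hHC, Subgroup.mem_bot, inv_mul_eq_one] at h3
        exact h3.symm
      set D := H ⊓ Subgroup.centralizer ({(a : X)} : Set X) with hD
      have hAa : A ≤ Subgroup.normalizer ((Subgroup.centralizer ({(a : X)} : Set X) : Subgroup X) : Set X) := by
        refine le_trans ?_ Subgroup.le_normalizer
        intro b hb
        rw [Subgroup.mem_centralizer_singleton_iff]
        exact hcom b hb a ha'
      have hAD : A ≤ Subgroup.normalizer (D : Set X) :=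
        (le_inf hAH hAa).trans Subgroup.inf_normalizer_le_normalizer_inf
      have hlt : Nat.card D < n := by
        rw [← hn]
        by_contra hge
        have heq := Subgroup.eq_of_le_of_card_ge (inf_le_left : D ≤ H) (not_lt.mp hge)
        apply haC
        refine ⟨ha', ?_⟩
        show (a : X) ∈ Subgroup.centralizer (H : Set X)
        rw [Subgroup.mem_centralizer_iff]
        intro g hg
        exact Subgroup.mem_centralizer_singleton_iff.mp (Subgroup.mem_inf.mp (heq.ge hg)).2
      have hDW := ih _ hlt D rfl (inf_le_left.trans hHG) hAD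
      refine ⟨h, ⟨hDW ⟨hh', ?_⟩, hh'⟩, rfl⟩
      exact Subgroup.mem_centralizer_singleton_iff.mpr hfix
    intro h hh
    obtain ⟨w, ⟨hwW, hwH⟩, hwe⟩ := hgenW ⟨⟨h, Subgroup.mem_sup_left hh⟩, hh, rfl⟩
    have hmem : (w⁻¹ * ⟨h, Subgroup.mem_sup_left hh⟩ : L) ∈ C' := QuotientGroup.eq.mp hwe
    have hmem' : ((w : X))⁻¹ * h ∈ H ⊓ C := ⟨H.mul_mem (H.inv_mem hwH) hh,
      by simpa [C', Subgroup.mem_subgroupOf] using hmem⟩
    rw [hHC, Subgroup.mem_bot, inv_mul_eq_one] at hmem'
    exact hmem' ▸ hwW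

/-- `G = ⟨C_G(B) : A / B cyclic⟩`. -/
theorem iSup_cyclic_quotient {A G : Subgroup X} (hAab : IsMulCommutative A)
    (hAG : A ≤ Subgroup.normalizer (G : Set X)) (hcop : (Nat.card A).Coprime (Nat.card G)) :
    (⨆ B ∈ {B : Subgroup X | B ≤ A ∧ ∃ a ∈ A, B ⊔ Subgroup.zpowers a = A},
      G ⊓ Subgroup.centralizer (B : Set X)) = G :=
  le_antisymm (iSup₂_le fun _ _ => inf_le_left) <|
    le_of_forall_cyclic_quotient hAab hAG hcop fun B hB ha => le_iSup₂_of_le B ⟨hB, ha⟩ le_rfl

/-- `[G, A] = ⟨[C_G(B), A] : A / B cyclic⟩`. -/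
theorem iSup_commutator_cyclic_quotient {A G : Subgroup X} (hAab : IsMulCommutative A)
    (hAG : A ≤ Subgroup.normalizer (G : Set X)) (hcop : (Nat.card A).Coprime (Nat.card G)) :
    (⨆ B ∈ {B : Subgroup X | B ≤ A ∧ ∃ a ∈ A, B ⊔ Subgroup.zpowers a = A},
      ⁅G ⊓ Subgroup.centralizer (B : Set X), A⁆) = ⁅G, A⁆ := by
  refine le_antisymm (iSup₂_le fun _ _ => Subgroup.commutator_mono inf_le_left le_rfl) ?_
  set K := ⨆ B ∈ {B : Subgroup X | B ≤ A ∧ ∃ a ∈ A, B ⊔ Subgroup.zpowers a = A},
    ⁅G ⊓ Subgroup.centralizer (B : Set X), A⁆ with hK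
  set D := G ⊓ Subgroup.centralizer (A : Set X) with hD
  have hsolv : Group.IsSolvable A := Group.isSolvable_of_comm fun a b => hAab.is_comm.comm a b
  have hcom : ∀ a ∈ A, ∀ b ∈ A, a * b = b * a := fun a ha b hb =>
    congrArg Subtype.val (hAab.is_comm.comm ⟨a, ha⟩ ⟨b, hb⟩)
  have hCBn : ∀ B : Subgroup X, B ≤ A → A ≤ Subgroup.normalizer
      ((G ⊓ Subgroup.centralizer (B : Set X) : Subgroup X) : Set X) := by
    intro B hB
    refine (le_inf hAG ?_).trans Subgroup.inf_normalizer_le_normalizer_inf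
    refine le_trans ?_ Subgroup.le_normalizer
    exact fun a ha => Subgroup.mem_centralizer_iff.mpr fun b hb => hcom b (hB hb) a ha
  have hgen : G ≤ K ⊔ D := by
    refine le_of_forall_cyclic_quotient hAab hAG hcop fun B hB ha => ?_
    rw [← CfsgLib.Coprime.commutator_sup_centralizer (hCBn B hB)
      (hcop.coprime_dvd_right (Subgroup.card_dvd_of_le inf_le_left)) (Or.inl hsolv)]
    exact sup_le_sup (le_iSup₂_of_le B ⟨hB, ha⟩ le_rfl) (inf_le_inf_right _ inf_le_left)
  have hnorm : D ⊔ A ≤ Subgroup.normalizer (K : Set X) := by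
    intro x hx
    rw [Subgroup.mem_normalizer_iff_map_conj_eq]
    refine Subgroup.eq_of_le_of_card_ge ?_
      (by rw [Subgroup.card_map_of_injective (MulAut.conj x).injective])
    rw [hK]
    simp only [Subgroup.map_iSup]
    refine iSup₂_le fun B hB => le_iSup₂_of_le B hB ?_
    have hxG : x ∈ Subgroup.normalizer (G : Set X) :=
      sup_le (inf_le_left.trans Subgroup.le_normalizer) hAG hx
    have hxB : x ∈ Subgroup.centralizer (B : Set X) := by
      refine (sup_le ?_ ?_ : D ⊔ A ≤ Subgroup.centralizer (B : Set X)) hx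
      · exact inf_le_right.trans (Subgroup.centralizer_le hB.1)
      · exact fun a ha => Subgroup.mem_centralizer_iff.mpr fun b hb => hcom b (hB.1 hb) a ha
    have hxA : x ∈ Subgroup.normalizer (A : Set X) := by
      refine sup_le (inf_le_right.trans ?_) Subgroup.le_normalizer hx
      intro c hc
      rw [Subgroup.mem_normalizer_iff]
      intro a
      constructor
      · intro ha
        rwa [← Subgroup.mem_centralizer_iff.mp hc a ha, mul_inv_cancel_right]
      · intro ha
        have := Subgroup.mem_centralizer_iff.mp hc _ ha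
        have h2 : c * a * c⁻¹ = a := by
          calc c * a * c⁻¹ = c⁻¹ * (c * (c * a * c⁻¹)) := by group
            _ = c⁻¹ * ((c * a * c⁻¹) * c) := by rw [this]
            _ = a := by group
        rwa [h2] at ha
    rw [Subgroup.map_commutator, Subgroup.map_inf _ _ _ (MulAut.conj x).injective,
      Subgroup.mem_normalizer_iff_map_conj_eq.mp hxG, Subgroup.mem_normalizer_iff_map_conj_eq.mp hxA]
    refine Subgroup.commutator_mono (inf_le_inf_left _ ?_) le_rfl
    exact (Subgroup.mem_normalizer_iff_map_conj_eq.mp (Subgroup.le_normalizer hxB)).le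
  rw [Subgroup.commutator_le]
  intro g hg a ha
  have hKD : D ≤ Subgroup.normalizer (K : Set X) := le_sup_left.trans hnorm
  obtain ⟨k, hk, c, hc, rfl⟩ := CfsgLib.Coprime.exists_mul_of_mem_sup hKD (hgen hg)
  have hca : c * a = a * c :=
    ((Subgroup.mem_centralizer_iff.mp (Subgroup.mem_inf.mp hc).2) a ha).symm
  have h1 : k * c * a * (k * c)⁻¹ * a⁻¹ = k * (a * k⁻¹ * a⁻¹) := by
    rw [mul_assoc k c a, hca]; group
  rw [commutatorElement_def, h1]
  exact mul_mem hk ((Subgroup.mem_normalizer_iff.mp (hnorm (Subgroup.mem_sup_right ha)) k⁻¹).mp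
    (inv_mem hk))

end CfsgLib.HallHigman
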