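import Mathlib.LinearAlgebra.Eigenspace.Triangularizable
import Mathlib.LinearAlgebra.Dimension.Constructions
import Mathlib.Algebra.DirectSum.Module
import Mathlib.GroupTheory.PGroup
import Mathlib.GroupTheory.Sylow

/-!
Irreducible representations over algebraically closed fields: scalar commutant, and the degree of an
irreducible representation of a finite `q`-group is a power of `q` (in any characteristic).
-/

open Module

namespace CfsgLib.HallHigman

universe u v w

/-- An endomorphism commuting with an irreducible family is a scalar. -/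
theorem exists_eq_smul_one_of_commute {K : Type w} [Field K] [IsAlgClosed K] {V : Type v}
    [AddCommGroup V] [Module K V] [FiniteDimensional K V] [Nontrivial V] {ι : Type*}
    (ρ : ι → Module.End K V)
    (hirr : ∀ W : Submodule K V, (∀ i, ∀ w ∈ W, ρ i w ∈ W) → W = ⊥ ∨ W = ⊤)
    (f : Module.End K V) (hf : ∀ i, Commute f (ρ i)) : ∃ c : K, f = c • 1 := by
  obtain ⟨c, hc⟩ := Module.End.exists_eigenvalue f
  refine ⟨c, ?_⟩
  have hW : f.eigenspace c = ⊤ := by
    refine (hirr _ fun i v hv => ?_).resolve_left hc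
    rw [Module.End.mem_eigenspace_iff] at hv ⊢
    rw [← Module.End.mul_apply, (hf i).eq, Module.End.mul_apply, hv, map_smul]
  ext v
  have hv : v ∈ f.eigenspace c := by simp [hW]
  rw [Module.End.mem_eigenspace_iff] at hv
  simp [hv]

/-- The degree of an irreducible representation of a finite `q`-group over an algebraically closed
field is a power of `q`. -/
theorem exists_finrank_eq_pow {q : ℕ} [hq : Fact q.Prime] {K : Type w} [Field K] [IsAlgClosed K]
    {Q : Type u} [Group Q] [Finite Q] (hQ : IsPGroup q Q) {V : Type v}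
    [AddCommGroup V] [Module K V] [FiniteDimensional K V] [Nontrivial V]
    (ρ : Q →* Module.End K V)
    (hirr : ∀ W : Submodule K V, (∀ g, ∀ w ∈ W, ρ g w ∈ W) → W = ⊥ ∨ W = ⊤) :
    ∃ b : ℕ, finrank K V = q ^ b := by
  induction hn : Nat.card Q using Nat.strong_induction_on generalizing Q V with
  | _ n ih =>
  classical
  -- elements acting as scalars
  let H : Subgroup Q :=
    { carrier := {g | ∃ c : K, ρ g = c • 1}
      one_mem' := ⟨1, by simp⟩
      mul_mem' := by
        rintro a b ⟨c, hc⟩ ⟨d, hd⟩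
        exact ⟨c * d, by rw [map_mul, hc, hd, smul_mul_smul_comm, one_mul]⟩
      inv_mem' := by
        rintro a ⟨c, hc⟩
        refine ⟨c⁻¹, ?_⟩
        have h1 : c • ρ a⁻¹ = 1 := by
          have : ρ a * ρ a⁻¹ = 1 := by rw [← map_mul, mul_inv_cancel, map_one]
          rwa [hc, smul_mul_assoc, one_mul] at this
        have hc0 : c ≠ 0 := by
          rintro rfl
          rw [zero_smul] at h1
          exact zero_ne_one h1
        rw [← h1, smul_smul, inv_mul_cancel₀ hc0, one_smul] }
  by_cases hall : H = ⊤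
  · refine ⟨0, ?_⟩
    obtain ⟨v, hv⟩ := exists_ne (0 : V)
    have hinv : ∀ g, ∀ w ∈ K ∙ v, ρ g w ∈ K ∙ v := by
      intro g w hw
      obtain ⟨c, hc⟩ : g ∈ H := hall ▸ Subgroup.mem_top g
      rw [hc]
      exact Submodule.smul_mem _ c hw
    have htop : K ∙ v = ⊤ :=
      (hirr _ hinv).resolve_left (by simp [hv])
    rw [pow_zero, ← finrank_top K V, ← htop, finrank_span_singleton hv]
  have hHn : H.Normal := ⟨fun h ⟨c, hc⟩ g => ⟨c, by
    rw [map_mul, map_mul, hc, mul_smul_comm, mul_one, smul_mul_assoc, ← map_mul, mul_inv_cancel,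
      map_one]⟩⟩
  have : Nontrivial (Q ⧸ H) := QuotientGroup.nontrivial_iff.mpr hall
  have := IsPGroup.center_nontrivial (hQ.to_quotient H)
  obtain ⟨⟨ā, hāc⟩, hā1⟩ := exists_ne (1 : Subgroup.center (Q ⧸ H))
  obtain ⟨a, rfl⟩ := QuotientGroup.mk_surjective ā
  have ha : a ∉ H := fun h => hā1 (Subtype.ext ((QuotientGroup.eq_one_iff a).mpr h))
  have hcomm : ∀ g, ∃ c : K, ρ g * ρ a * ρ g⁻¹ = c • ρ a := by
    intro g
    have hm : g * a * g⁻¹ * a⁻¹ ∈ H := by
      rw [← QuotientGroup.eq_one_iff]
      have := (Subgroup.mem_center_iff.mp hāc) (QuotientGroup.mk g)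
      simp only [QuotientGroup.mk_mul, QuotientGroup.mk_inv]
      rw [this]
      simp [mul_assoc]
    obtain ⟨c, hc⟩ := hm
    refine ⟨c, ?_⟩
    have : ρ (g * a * g⁻¹ * a⁻¹ * a) = c • ρ a := by rw [map_mul, hc, smul_mul_assoc, one_mul]
    rwa [inv_mul_cancel_right, map_mul, map_mul] at this
  choose lam hlam using hcomm
  have hinvl : ∀ g, ρ g⁻¹ * ρ g = 1 := fun g => by rw [← map_mul, inv_mul_cancel, map_one]
  have hinvr : ∀ g, ρ g * ρ g⁻¹ = 1 := fun g => by rw [← map_mul, mul_inv_cancel, map_one]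
  have ha0 : ρ a ≠ 0 := by
    intro h
    have := hinvl a
    rw [h, mul_zero] at this
    exact zero_ne_one this
  have hlam_eq : ∀ g c, ρ g * ρ a * ρ g⁻¹ = c • ρ a → lam g = c := by
    intro g c h
    exact smul_left_injective K ha0 ((hlam g).symm.trans h)
  let lamM : Q →* K :=
    { toFun := lam
      map_one' := hlam_eq 1 1 (by simp)
      map_mul' := fun g h => hlam_eq _ _ (by
        calc ρ (g * h) * ρ a * ρ (g * h)⁻¹ = ρ g * (ρ h * ρ a * ρ h⁻¹) * ρ g⁻¹ := by
              rw [mul_inv_rev, map_mul, map_mul]; simp [mul_assoc]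
          _ = (lam g * lam h) • ρ a := by
              rw [hlam h, mul_smul_comm, smul_mul_assoc, hlam g, smul_smul, mul_comm]) }
  let L : Q →* Kˣ := lamM.toHomUnits
  have hL : ∀ g, (L g : K) = lam g := fun g => rfl
  -- `ρ g` moves eigenspaces
  have hmove : ∀ g (μ : K), ∀ v ∈ (ρ a).eigenspace μ,
      ρ g v ∈ (ρ a).eigenspace ((lam g)⁻¹ * μ) := by
    intro g μ v hv
    rw [Module.End.mem_eigenspace_iff] at hv ⊢
    have h : lam g • (ρ a (ρ g v)) = μ • ρ g v := by
      rw [← LinearMap.smul_apply, ← hlam g, Module.End.mul_apply, Module.End.mul_apply,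
        ← Module.End.mul_apply (ρ g⁻¹) (ρ g), hinvl, Module.End.one_apply, hv, map_smul]
    have hg0 : lam g ≠ 0 := (L g).ne_zero
    rw [mul_smul, ← h, smul_smul, inv_mul_cancel₀ hg0, one_smul]
  obtain ⟨μ, hμ⟩ := Module.End.exists_eigenvalue (ρ a)
  have hμ0 : μ ≠ 0 := by
    rintro rfl
    obtain ⟨v, hv⟩ := hμ.exists_hasEigenvector
    have h0 := hv.apply_eq_smul
    rw [zero_smul] at h0
    have := congrArg (fun f : Module.End K V => f v) (hinvl a)
    simp [h0] at this
    exact hv.2 this.symm
  set E := (ρ a).eigenspace μ with hE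
  let A : L.range → Submodule K V := fun i => (ρ a).eigenspace (((i : Kˣ) : K) * μ)
  have hAinv : ∀ g i, ∀ v ∈ A i, ρ g v ∈ A (⟨(L g)⁻¹, ⟨g⁻¹, map_inv L g⟩⟩ * i) := by
    intro g i v hv
    have := hmove g _ v hv
    simpa [A, mul_assoc, hL] using this
  have hsup : ⨆ i, A i = ⊤ := by
    refine (hirr _ ?_).resolve_left ?_
    · intro g v hv
      refine (Submodule.iSup_induction A (motive := fun v => ρ g v ∈ ⨆ i, A i) hv
        (fun i x hx => Submodule.mem_iSup_of_mem _ (hAinv g i x hx)) (by simp)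
        (fun x y hx hy => by rw [map_add]; exact add_mem hx hy))
    · intro h
      apply hμ
      rw [← le_bot_iff, ← h]
      exact le_iSup_of_le 1 (le_of_eq (by simp [A]))
  have hinj : Function.Injective fun i : L.range => ((i : Kˣ) : K) * μ := by
    intro i j h
    exact Subtype.ext (Units.ext (mul_right_cancel₀ hμ0 h))
  have hind : iSupIndep A := (Module.End.eigenspaces_iSupIndep (ρ a)).comp hinj
  have : Finite L.range := Finite.of_surjective L.rangeRestrict L.rangeRestrict_surjective
  have := Fintype.ofFinite L.range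
  -- all summands have the dimension of `E`
  have hdimA : ∀ i, finrank K (A i) = finrank K E := by
    rintro ⟨l, g, rfl⟩
    have hgl : ∀ h, Function.Injective (ρ h) := fun h => by
      refine Function.LeftInverse.injective (g := ρ h⁻¹) fun v => ?_
      rw [← Module.End.mul_apply, hinvl, Module.End.one_apply]
    have hg0 : (L g : K) ≠ 0 := (L g).ne_zero
    refine le_antisymm ?_ ?_
    · refine LinearMap.finrank_le_finrank_of_injective
        (f := (ρ g).restrict (p := A _) (q := E) fun v hv => ?_) ?_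
      · have := hmove g _ v hv
        rwa [← hL, ← mul_assoc, inv_mul_cancel₀ hg0, one_mul] at this
      · exact fun x y h => Subtype.ext (hgl g (congrArg Subtype.val h))
    · refine LinearMap.finrank_le_finrank_of_injective
        (f := (ρ g⁻¹).restrict (p := E) (q := A ⟨L g, g, rfl⟩) fun v hv => ?_) ?_
      · have := hmove g⁻¹ _ v hv
        rw [← hL, map_inv, Units.val_inv_eq_inv_val, inv_inv] at this
        exact this
      · exact fun x y h => Subtype.ext (hgl g⁻¹ (congrArg Subtype.val h))
  have hcard : finrank K V = Nat.card L.range * finrank K E := by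
    have hint := DirectSum.isInternal_submodule_of_iSupIndep_of_iSup_eq_top hind hsup
    have e := LinearEquiv.ofBijective (DirectSum.coeLinearMap A) hint
    rw [← e.finrank_eq, Module.finrank_directSum, Finset.sum_congr rfl fun i _ => hdimA i,
      Finset.sum_const, Finset.card_univ, Nat.card_eq_fintype_card, smul_eq_mul]
  -- the kernel is proper and irreducible on `E`
  have hker : L.ker ≠ ⊤ := by
    intro h
    apply ha
    obtain ⟨c, hc⟩ := exists_eq_smul_one_of_commute (fun g => ρ g) hirr (ρ a) fun g => by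
      have hg : lam g = 1 := by
        rw [← hL, MonoidHom.mem_ker.mp (h ▸ Subgroup.mem_top g), Units.val_one]
      have := hlam g
      rw [hg, one_smul] at this
      calc ρ a * ρ g = ρ g * ρ a * ρ g⁻¹ * ρ g := by rw [this]
        _ = ρ g * ρ a := by rw [mul_assoc, hinvl, mul_one]
    exact ⟨c, hc⟩
  have hkmem : ∀ g : L.ker, ∀ v ∈ E, ρ g v ∈ E := by
    intro g v hv
    have := hmove g μ v hv
    rwa [← hL, MonoidHom.mem_ker.mp g.2, Units.val_one, inv_one, one_mul] at this
  let σ : L.ker →* Module.End K E :=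
    { toFun := fun g => (ρ g).restrict (hkmem g)
      map_one' := by ext v; simp [LinearMap.restrict_apply]
      map_mul' := fun g h => by ext v; simp [LinearMap.restrict_apply] }
  have hirr' : ∀ W : Submodule K E, (∀ g, ∀ w ∈ W, σ g w ∈ W) → W = ⊥ ∨ W = ⊤ := by
    intro W hW
    by_cases hW0 : W = ⊥
    · exact Or.inl hW0
    refine Or.inr ?_
    set W' := W.map E.subtype with hW'
    set R := ⨆ i, ⨆ (_ : i ≠ (1 : L.range)), A i with hR
    have hS : ∀ g, ∀ v ∈ W', ρ g v ∈ W' ⊔ R := by
      rintro g v ⟨x, hx, rfl⟩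
      by_cases hg : g ∈ L.ker
      · exact Submodule.mem_sup_left ⟨σ ⟨g, hg⟩ x, hW _ x hx, rfl⟩
      · refine Submodule.mem_sup_right
          (Submodule.mem_iSup_of_mem ⟨(L g)⁻¹, g⁻¹, map_inv L g⟩ (Submodule.mem_iSup_of_mem ?_ ?_))
        · intro h
          exact hg (MonoidHom.mem_ker.mpr (inv_eq_one.mp (congrArg Subtype.val h)))
        · have := hmove g μ x x.2
          simpa [A, hL] using this
    have htop : ⨆ g : Q, W'.map (ρ g) = ⊤ := by
      refine (hirr _ ?_).resolve_left ?_
      · intro h v hv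
        refine Submodule.iSup_induction (fun g : Q => W'.map (ρ g))
          (motive := fun v => ρ h v ∈ ⨆ g : Q, W'.map (ρ g)) hv ?_ (by simp)
          (fun x y hx hy => by rw [map_add]; exact add_mem hx hy)
        rintro g x ⟨y, hy, rfl⟩
        exact Submodule.mem_iSup_of_mem (h * g) ⟨y, hy, by rw [map_mul]; rfl⟩
      · intro h
        apply hW0
        have h1 : W'.map (ρ 1) ≤ ⊥ := h ▸ le_iSup (fun g : Q => W'.map (ρ g)) 1
        rw [map_one, Module.End.one_eq_id, Submodule.map_id, le_bot_iff, hW'] at h1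
        exact Submodule.map_injective_of_injective E.injective_subtype (h1.trans (Submodule.map_bot _).symm)
    have hWR : W' ⊔ R = ⊤ := by
      rw [eq_top_iff, ← htop, iSup_le_iff]
      rintro g _ ⟨y, hy, rfl⟩
      exact hS g y hy
    rw [eq_top_iff]
    intro z _
    have hz : (z : V) ∈ W' ⊔ R := by simp [hWR]
    obtain ⟨w, ⟨x, hx, rfl⟩, r, hr, hwr⟩ := Submodule.mem_sup.mp hz
    have hA1 : A 1 = E := by simp [A, E]
    have hr0 : r ∈ A 1 ⊓ R := by
      refine ⟨?_, hr⟩
      rw [hA1, eq_sub_of_add_eq' hwr]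
      exact E.sub_mem z.2 x.2
    rw [(hind 1).eq_bot, Submodule.mem_bot] at hr0
    rw [hr0, add_zero] at hwr
    rwa [← Subtype.ext hwr]
  have : Nontrivial E := Submodule.nontrivial_iff_ne_bot.mpr hμ
  obtain ⟨b, hb⟩ := ih (Nat.card L.ker) (hn ▸ lt_of_le_of_ne (Subgroup.card_le_card_group _)
    fun h => hker (Subgroup.card_eq_iff_eq_top _ |>.mp h)) (hQ.to_subgroup _) σ hirr' rfl
  obtain ⟨c, hc⟩ : ∃ c, Nat.card L.range = q ^ c := by
    rw [← Subgroup.index_ker]
    exact hQ.index _
  exact ⟨c + b, by rw [hcard, hb, hc, pow_add]⟩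

end CfsgLib.HallHigman
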