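import Mathlib
import Cfsg.Agent.HallHigman.IrreduciblePGroup

/-!
A `p`-element `X` normalising a group `Q` of order prime to `p` on a module in characteristic `p`:
there is an irreducible constituent `U` of `Q`, stabilised by `X ^ p ^ j`, whose translates
`X ^ i U`, `i < p ^ j`, are independent.
-/

set_option autoImplicit false
set_option linter.style.haveILetI false

open Finset Module

namespace CfsgLib.HallHigman

universe u v w

variable {K : Type u} [Field K] [IsAlgClosed K] {V : Type v} [AddCommGroup V] [Module K V]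
  [FiniteDimensional K V]

/-- Restriction of a representation to an invariant subspace. -/
def restrictHom {Q : Type w} [Monoid Q] (ρ : Q →* Module.End K V) (W : Submodule K V)
    (hW : ∀ x, ∀ v ∈ W, ρ x v ∈ W) : Q →* Module.End K W where
  toFun x := (ρ x).restrict (hW x)
  map_one' := LinearMap.ext fun v => Subtype.ext (by simp)
  map_mul' x y := LinearMap.ext fun v => Subtype.ext (by simp [Module.End.mul_apply])

theorem coe_restrictHom {Q : Type w} [Monoid Q] (ρ : Q →* Module.End K V) (W : Submodule K V)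
    (hW : ∀ x, ∀ v ∈ W, ρ x v ∈ W) (x : Q) (v : W) :
    (restrictHom ρ W hW x v : V) = ρ x v := rfl

omit [IsAlgClosed K] in
/-- If `Q` has order prime to the characteristic and acts non-trivially, some irreducible subspace
is not fixed pointwise. -/
theorem exists_irreducible_nontrivial {Q : Type w} [Group Q] [Finite Q]
    (hQK : (Nat.card Q : K) ≠ 0) (ρ : Q →* Module.End K V) (hne : ∃ g, ρ g ≠ 1) :
    ∃ S : Submodule K V, S ≠ ⊥ ∧ (∀ g, ∀ v ∈ S, ρ g v ∈ S) ∧
      (∀ T : Submodule K V, T ≤ S → (∀ g, ∀ v ∈ T, ρ g v ∈ T) → T = ⊥ ∨ T = S) ∧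
      ∃ g, ∃ v ∈ S, ρ g v ≠ v := by
  cases nonempty_fintype Q
  set e : Module.End K V := ∑ g, ρ g with he
  have heg : ∀ h, e * ρ h = e := fun h => by
    rw [he, Finset.sum_mul]
    exact Fintype.sum_equiv (Equiv.mulRight h) _ _ fun g => (map_mul ρ g h).symm
  have hge : ∀ h, ρ h * e = e := fun h => by
    rw [he, Finset.mul_sum]
    exact Fintype.sum_equiv (Equiv.mulLeft h) _ _ fun g => (map_mul ρ h g).symm
  have hker : LinearMap.ker e ≠ ⊥ := by
    intro hbot
    obtain ⟨g, hg⟩ := hne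
    refine hg (LinearMap.ext fun v => LinearMap.ker_eq_bot.1 hbot ?_)
    rw [← Module.End.mul_apply, heg]
    rfl
  obtain ⟨S, hSle, ⟨hSne, hSinv⟩, hmin⟩ := exists_minimal_le_of_wellFoundedLT
    (fun W : Submodule K V => W ≠ ⊥ ∧ ∀ g, ∀ v ∈ W, ρ g v ∈ W) (LinearMap.ker e)
    ⟨hker, fun g v hv => by
      rw [LinearMap.mem_ker] at hv ⊢
      rw [← Module.End.mul_apply, heg, hv]⟩
  refine ⟨S, hSne, hSinv, fun T hT hTi => ?_, ?_⟩
  · by_contra! h
    exact h.2 (le_antisymm hT (hmin ⟨h.1, hTi⟩ hT))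
  · by_contra! h
    obtain ⟨v, hv, hv0⟩ := Submodule.exists_mem_ne_zero_of_ne_bot hSne
    have h1 : e v = (Nat.card Q : K) • v := by
      rw [he, LinearMap.sum_apply, Finset.sum_congr rfl fun g _ => h g v hv, Finset.sum_const,
        card_univ, Nat.card_eq_fintype_card, Nat.cast_smul_eq_nsmul]
    rw [LinearMap.mem_ker.1 (hSle hv), eq_comm, smul_eq_zero] at h1
    exact h1.elim hQK hv0

/-- An intertwining condition closed under addition and periodic of period `p ^ m` which holds at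
`d` holds at the `p`-part of `d`. -/
theorem closed_pow_gcd {p m j d : ℕ} [hp : Fact p.Prime] (P : ℕ → Prop)
    (hadd : ∀ a b, P a → P b → P (a + b)) (hper : ∀ a b, P (a + b * p ^ m) → P a) (hj : j ≤ m)
    (hd : P d) (hdvd : ¬ p ^ j ∣ d) : ∃ l, l < j ∧ P (p ^ l) := by
  obtain ⟨l, hl, hgcd⟩ := (Nat.dvd_prime_pow hp.out).1 (Nat.gcd_dvd_right d (p ^ m))
  have hlj : l < j := by
    by_contra h
    refine hdvd ((pow_dvd_pow p (Nat.le_of_not_lt h)).trans ?_)
    rw [← hgcd]
    exact Nat.gcd_dvd_left _ _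
  refine ⟨l, hlj, ?_⟩
  have hmul : ∀ a, 1 ≤ a → P (a * d) := by
    intro a ha
    induction a, ha using Nat.le_induction with
    | base => rwa [one_mul]
    | succ a _ ih => rw [add_mul, one_mul]; exact hadd _ _ ih hd
  have hlt : p ^ l < p ^ m := Nat.pow_lt_pow_right hp.out.one_lt (by omega)
  obtain ⟨a, -, ha⟩ := Nat.exists_mul_mod_eq_of_coprime (n := d / p ^ l) (k := p ^ (m - l)) 1
    (by
      refine Nat.Coprime.symm ?_
      have h := Nat.coprime_div_gcd_div_gcd (m := d) (n := p ^ m) (by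
        rw [hgcd]; exact pow_pos hp.out.pos l)
      rw [hgcd, Nat.pow_div hl hp.out.pos] at h
      exact h.symm)
    (pow_ne_zero _ hp.out.ne_zero)
  have hpm : p ^ l * p ^ (m - l) = p ^ m := by rw [← pow_add, Nat.add_sub_cancel' hl]
  have hd' : p ^ l * (d / p ^ l) = d := Nat.mul_div_cancel' (hgcd ▸ Nat.gcd_dvd_left _ _)
  have h1 : 1 < p ^ (m - l) := Nat.one_lt_pow (by omega) hp.out.one_lt
  rw [Nat.mod_eq_of_lt h1] at ha
  have ha1 : 1 ≤ a := by
    rcases Nat.eq_zero_or_pos a with rfl | h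
    · simp at ha
    · exact h
  refine hper _ (d / p ^ l * a / p ^ (m - l)) ?_
  have h2 : a * d = p ^ l + d / p ^ l * a / p ^ (m - l) * p ^ m := by
    have h3 := Nat.mod_add_div (d / p ^ l * a) (p ^ (m - l))
    rw [ha] at h3
    calc a * d = p ^ l * (d / p ^ l * a) := by
          conv_lhs => rw [← hd']
          ring
      _ = p ^ l * (1 + p ^ (m - l) * (d / p ^ l * a / p ^ (m - l))) := by rw [h3]
      _ = _ := by rw [← hpm]; ring
  rw [← h2]
  exact hmul a ha1

/-- An irreducible constituent whose stabiliser acts on it, with independent translates. -/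
theorem exists_constituent {p : ℕ} [hp : Fact p.Prime] [CharP K p] {Q : Type w} [Group Q] [Finite Q]
    (hQK : (Nat.card Q : K) ≠ 0) (α : MulAut Q) (ρ : Q →* Module.End K V) (X : Module.End K V)
    {m : ℕ} (hX : X ^ p ^ m = 1) (hα : ∀ g, X * ρ g = ρ (α g) * X) (hne : ∃ g, ρ g ≠ 1) :
    ∃ (j : ℕ) (U : Submodule K V), j ≤ m ∧ U ≠ ⊥ ∧ (∀ g, ∀ v ∈ U, ρ g v ∈ U) ∧
      (∀ T : Submodule K V, T ≤ U → (∀ g, ∀ v ∈ T, ρ g v ∈ T) → T = ⊥ ∨ T = U) ∧
      (∃ g, ∃ v ∈ U, ρ g v ≠ v) ∧ (∀ v ∈ U, (X ^ p ^ j) v ∈ U) ∧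
      ∀ r : ℕ, (X - 1) ^ r = 0 → ∀ v ∈ U, ((X ^ p ^ j - 1) ^ (r / p ^ j)) v = 0 := by
  classical
  obtain ⟨S, hSne, hSinv, hSirr, hSnt⟩ := exists_irreducible_nontrivial hQK ρ hne
  have hαi : ∀ (i : ℕ) g, X ^ i * ρ g = ρ ((α ^ i) g) * X ^ i := by
    intro i
    induction i with
    | zero => intro g; simp
    | succ i ih =>
      intro g
      rw [pow_succ' X, mul_assoc, ih, ← mul_assoc, hα, mul_assoc, pow_succ' α, MulAut.mul_apply]
  have hper1 : ∀ g, ρ ((α ^ p ^ m) g) = ρ g := fun g => by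
    have h := hαi (p ^ m) g
    rw [hX, one_mul, mul_one] at h
    exact h.symm
  have hperb : ∀ (b : ℕ) g, ρ ((α ^ (b * p ^ m)) g) = ρ g := by
    intro b
    induction b with
    | zero => intro g; simp
    | succ b ih => intro g; rw [add_mul, one_mul, add_comm, pow_add, MulAut.mul_apply, hper1, ih]
  set ρS := restrictHom ρ S hSinv with hρS
  let P : ℕ → Prop := fun i => ∃ φ : Module.End K S, Function.Injective φ ∧
    ∀ g, φ * ρS g = ρS ((α ^ i) g) * φ
  have hadd : ∀ a b, P a → P b → P (a + b) := by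
    rintro a b ⟨φ, hφ, hφc⟩ ⟨φ', hφ', hφ'c⟩
    refine ⟨φ * φ', hφ.comp hφ', fun g => ?_⟩
    rw [mul_assoc, hφ'c, ← mul_assoc, hφc, mul_assoc, pow_add, MulAut.mul_apply]
  have hρSper : ∀ (b : ℕ) g, ρS ((α ^ (b * p ^ m)) g) = ρS g := fun b g =>
    LinearMap.ext fun v => Subtype.ext (LinearMap.congr_fun (hperb b g) (v : V))
  have hper : ∀ a b, P (a + b * p ^ m) → P a := by
    rintro a b ⟨φ, hφ, hφc⟩
    refine ⟨φ, hφ, fun g => ?_⟩
    rw [hφc, add_comm, pow_add, MulAut.mul_apply, hρSper]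
  have hPm : P (p ^ m) := ⟨1, fun a b h => h, fun g => by
    have h := hρSper 1 g
    rw [one_mul] at h
    rw [h, one_mul, mul_one]⟩
  have hex : ∃ j, P (p ^ j) := ⟨m, hPm⟩
  set j := Nat.find hex with hj
  have hjm : j ≤ m := Nat.find_le hPm
  obtain ⟨φ₀, hφ₀, hφ₀c⟩ : P (p ^ j) := Nat.find_spec hex
  set M := p ^ (m - j) with hM
  have hMpos : 0 < M := pow_pos hp.out.pos _
  have hjM : p ^ j * M = p ^ m := by rw [hM, ← pow_add, Nat.add_sub_cancel' hjm]
  haveI : Nontrivial S := Submodule.nontrivial_iff_ne_bot.2 hSne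
  have hSirr' : ∀ W : Submodule K S, (∀ g, ∀ v ∈ W, ρS g v ∈ W) → W = ⊥ ∨ W = ⊤ := by
    intro W hW
    rcases hSirr (W.map S.subtype) (Submodule.map_subtype_le _ _) (by
      rintro g _ ⟨v, hv, rfl⟩
      exact ⟨ρS g v, hW g v hv, rfl⟩) with h | h
    · exact Or.inl (Submodule.map_injective_of_injective S.injective_subtype
        (h.trans (Submodule.map_bot _).symm))
    · exact Or.inr (Submodule.map_injective_of_injective S.injective_subtype
        (h.trans (Submodule.map_subtype_top S).symm))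
  -- normalise the intertwiner
  have hφpow : ∀ (i : ℕ) g, φ₀ ^ i * ρS g = ρS ((α ^ (p ^ j * i)) g) * φ₀ ^ i := by
    intro i
    induction i with
    | zero => intro g; simp
    | succ i ih =>
      intro g
      rw [pow_succ' φ₀, mul_assoc, ih, ← mul_assoc, hφ₀c, mul_assoc, ← MulAut.mul_apply, ← pow_add,
        show p ^ j + p ^ j * i = p ^ j * (i + 1) by ring]
  obtain ⟨c, hc⟩ := exists_eq_smul_one_of_commute (fun g => ρS g) hSirr' (φ₀ ^ M) fun g => by
    show φ₀ ^ M * ρS g = ρS g * φ₀ ^ M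
    rw [hφpow, hjM]
    have h := hρSper 1 g
    rw [one_mul] at h
    rw [h]
  have hc0 : c ≠ 0 := by
    intro h
    obtain ⟨v, hv⟩ := exists_ne (0 : S)
    have h1 : Function.Injective (φ₀ ^ M) := by
      rw [Module.End.coe_pow]
      exact hφ₀.iterate M
    exact hv (h1 (by rw [map_zero, hc, h, zero_smul, LinearMap.zero_apply]))
  obtain ⟨b, hb⟩ := IsAlgClosed.exists_pow_nat_eq c⁻¹ hMpos
  have hb0 : b ≠ 0 := by
    rintro rfl
    rw [zero_pow hMpos.ne'] at hb
    exact inv_ne_zero hc0 hb.symm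
  set φ := b • φ₀ with hφdef
  have hφc : ∀ g, φ * ρS g = ρS ((α ^ p ^ j) g) * φ := fun g => by
    rw [hφdef, smul_mul_assoc, hφ₀c, mul_smul_comm]
  have hφM : φ ^ M = 1 := by
    rw [hφdef, smul_pow, hb, hc, smul_smul, inv_mul_cancel₀ hc0, one_smul]
  set φi := φ ^ (M - 1) with hφi
  have hφφi : φ * φi = 1 := by rw [hφi, ← pow_succ', Nat.sub_add_cancel hMpos, hφM]
  have hφiφ : φi * φ = 1 := by rw [hφi, ← pow_succ, Nat.sub_add_cancel hMpos, hφM]
  -- a fixed intertwiner
  set X' := X ^ p ^ j with hX'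
  have hX'c : ∀ g, X' * ρ g = ρ ((α ^ p ^ j) g) * X' := hαi _
  let T : Module.End K (S →ₗ[K] V) :=
    { toFun := fun f => X' ∘ₗ f ∘ₗ φi
      map_add' := fun f f' => by simp [LinearMap.comp_add, LinearMap.add_comp]
      map_smul' := fun a f => by simp [LinearMap.comp_smul, LinearMap.smul_comp] }
  have hTpow : ∀ (i : ℕ) f, (T ^ i) f = (X' ^ i) ∘ₗ f ∘ₗ (φi ^ i) := by
    intro i
    induction i with
    | zero => intro f; rfl
    | succ i ih =>
      intro f
      rw [pow_succ', Module.End.mul_apply, ih, pow_succ' X', pow_succ φi]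
      rfl
  have hTM : T ^ M = 1 := LinearMap.ext fun f => by
    rw [hTpow, hX', ← pow_mul, hjM, hX, hφi, ← pow_mul, mul_comm, pow_mul, hφM, one_pow]
    rfl
  have hT1 : (T - 1) ^ M = 0 := by
    have : Nontrivial (S →ₗ[K] V) := by
      refine ⟨S.subtype, 0, fun h => ?_⟩
      obtain ⟨v, hv⟩ := exists_ne (0 : S)
      exact hv (Subtype.ext (LinearMap.congr_fun h v))
    have hcp : CharP (Module.End K (S →ₗ[K] V)) p :=
      charP_of_injective_algebraMap (FaithfulSMul.algebraMap_injective K _) p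
    rw [hM, sub_pow_char_pow_of_commute p (m - j) (Commute.one_right _), one_pow, ← hM, hTM,
      sub_self]
  let IW : (S →ₗ[K] V) → Prop := fun f => ∀ g, f ∘ₗ ρS g = ρ g ∘ₗ f
  have hTIW : ∀ f, IW f → IW (T f) := by
    intro f hf g
    obtain ⟨g', rfl⟩ := (α ^ p ^ j).surjective g
    have h1 : φi * ρS ((α ^ p ^ j) g') = ρS g' * φi := by
      calc φi * ρS ((α ^ p ^ j) g') = φi * (ρS ((α ^ p ^ j) g') * φ) * φi := by
            simp only [mul_assoc, hφφi, mul_one]
        _ = φi * (φ * ρS g') * φi := by rw [hφc]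
        _ = _ := by rw [← mul_assoc φi, hφiφ, one_mul]
    refine LinearMap.ext fun v => ?_
    show X' (f (φi (ρS ((α ^ p ^ j) g') v))) = ρ ((α ^ p ^ j) g') (X' (f (φi v)))
    rw [← Module.End.mul_apply φi, h1, Module.End.mul_apply, ← LinearMap.comp_apply f, hf,
      LinearMap.comp_apply, ← Module.End.mul_apply X', hX'c, Module.End.mul_apply]
  have hT1IW : ∀ (i : ℕ) f, IW f → IW (((T - 1) ^ i) f) := by
    intro i
    induction i with
    | zero => intro f hf; simpa using hf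
    | succ i ih =>
      intro f hf g
      rw [pow_succ', Module.End.mul_apply, LinearMap.sub_apply, Module.End.one_apply,
        LinearMap.sub_comp, LinearMap.comp_sub, hTIW _ (ih f hf) g, ih f hf g]
  have hIW0 : IW S.subtype := fun g => rfl
  have hex' : ∃ i, ((T - 1) ^ i : Module.End K (S →ₗ[K] V)) S.subtype = 0 := ⟨M, by rw [hT1, LinearMap.zero_apply]⟩
  obtain ⟨i, hi⟩ : ∃ i, Nat.find hex' = i + 1 := by
    refine ⟨Nat.find hex' - 1, (Nat.succ_pred_eq_of_pos (Nat.pos_of_ne_zero fun h => ?_)).symm⟩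
    have := Nat.find_spec hex'
    rw [h, pow_zero, Module.End.one_apply] at this
    obtain ⟨v, hv⟩ := exists_ne (0 : S)
    exact hv (Subtype.ext (LinearMap.congr_fun this v))
  set f := ((T - 1) ^ i : Module.End K (S →ₗ[K] V)) S.subtype with hf
  have hf0 : f ≠ 0 := Nat.find_min hex' (by omega)
  have hfT : T f = f := by
    have := Nat.find_spec hex'
    rw [hi, pow_succ', Module.End.mul_apply, LinearMap.sub_apply, sub_eq_zero] at this
    exact this
  have hfIW : IW f := hT1IW i _ hIW0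
  have hfinj : Function.Injective f := by
    refine LinearMap.ker_eq_bot.1 ((hSirr' _ fun g v hv => ?_).resolve_right fun h => hf0
      (LinearMap.ker_eq_top.1 h))
    rw [LinearMap.mem_ker] at hv ⊢
    rw [← LinearMap.comp_apply f, hfIW g, LinearMap.comp_apply, hv, map_zero]
  set U := LinearMap.range f with hU
  have hUinv : ∀ g, ∀ v ∈ U, ρ g v ∈ U := by
    rintro g _ ⟨a, rfl⟩
    exact ⟨ρS g a, LinearMap.congr_fun (hfIW g) a⟩
  have hUne : U ≠ ⊥ := fun h => hf0 (LinearMap.range_eq_bot.1 h)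
  have hUirr : ∀ T' : Submodule K V, T' ≤ U → (∀ g, ∀ v ∈ T', ρ g v ∈ T') → T' = ⊥ ∨ T' = U := by
    intro T' hT' hT'i
    rcases hSirr' (T'.comap f) (fun g a ha => by
      show f (ρS g a) ∈ T'
      rw [← LinearMap.comp_apply f, hfIW g]
      exact hT'i g _ ha) with h | h
    · left
      rw [eq_bot_iff]
      intro v hv
      obtain ⟨a, rfl⟩ := hT' hv
      have : a ∈ T'.comap f := hv
      rw [h, Submodule.mem_bot] at this
      rw [Submodule.mem_bot, this, map_zero]
    · right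
      refine le_antisymm hT' ?_
      rintro _ ⟨a, rfl⟩
      exact (show a ∈ T'.comap f from h ▸ Submodule.mem_top)
  have hUX : ∀ v ∈ U, X' v ∈ U := by
    rintro _ ⟨a, rfl⟩
    refine ⟨φ a, ?_⟩
    conv_lhs => rw [← hfT]
    show X' (f (φi (φ a))) = X' (f a)
    rw [← Module.End.mul_apply φi, hφiφ, Module.End.one_apply]
  have hUnt : ∃ g, ∃ v ∈ U, ρ g v ≠ v := by
    obtain ⟨g, v, hv, hgv⟩ := hSnt
    refine ⟨g, f ⟨v, hv⟩, ⟨_, rfl⟩, fun h => hgv ?_⟩
    rw [← LinearMap.comp_apply (ρ g), ← hfIW g] at h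
    exact congrArg Subtype.val (hfinj h)
  refine ⟨j, U, hjm, hUne, hUinv, hUirr, hUnt, hUX, ?_⟩
  -- the translates are independent
  let e : S ≃ₗ[K] U := LinearEquiv.ofBijective f.rangeRestrict
    ⟨fun a b h => hfinj (congrArg Subtype.val h), f.surjective_rangeRestrict⟩
  have hXinj : ∀ k : ℕ, k ≤ p ^ m → Function.Injective (X ^ k) := by
    intro k hk a b h
    have h1 : ∀ v, (X ^ (p ^ m - k)) ((X ^ k) v) = v := fun v => by
      rw [← Module.End.mul_apply, ← pow_add, Nat.sub_add_cancel hk, hX, Module.End.one_apply]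
    rw [← h1 a, ← h1 b, h]
  have hle : ∀ k : Fin (p ^ j), (k : ℕ) ≤ p ^ m := fun k =>
    k.2.le.trans (Nat.pow_le_pow_right hp.out.pos hjm)
  have hXi : ∀ (k : ℕ) g (v : V), (X ^ k) (ρ ((α ^ k).symm g) v) = ρ g ((X ^ k) v) := by
    intro k g v
    rw [← Module.End.mul_apply, hαi, MulEquiv.apply_symm_apply, Module.End.mul_apply]
  let Φ : (Fin (p ^ j) → U) →ₗ[K] V :=
    ∑ k : Fin (p ^ j), (X ^ (k : ℕ)) ∘ₗ U.subtype ∘ₗ LinearMap.proj k
  have hΦ : ∀ u, Φ u = ∑ k : Fin (p ^ j), (X ^ (k : ℕ)) (u k : V) := fun u => by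
    simp [Φ]
  have hindep : ∀ u, Φ u = 0 → u = 0 := by
    by_contra! hbad
    obtain ⟨u₀, hu₀, hu₀0⟩ := hbad
    let E : ℕ → Prop := fun n => ∃ u, Φ u = 0 ∧ u ≠ 0 ∧
      (univ.filter fun k => u k ≠ 0).card = n
    have hE : ∃ n, E n := ⟨_, u₀, hu₀, hu₀0, rfl⟩
    obtain ⟨u, hu, hu0, hucard⟩ := Nat.find_spec hE
    obtain ⟨k, hk⟩ := Function.ne_iff.1 hu0
    set I := univ.filter fun k => u k ≠ 0 with hI
    let L : Submodule K (Fin (p ^ j) → U) := LinearMap.ker Φ ⊓
      ⨅ l ∈ (Iᶜ : Finset (Fin (p ^ j))), LinearMap.ker (LinearMap.proj l)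
    have hmemL : ∀ a, a ∈ L ↔ Φ a = 0 ∧ ∀ l, u l = 0 → a l = 0 := fun a => by
      simp [L, I]
    let Pk : L →ₗ[K] U := (LinearMap.proj k).comp L.subtype
    let act : Q → (Fin (p ^ j) → U) → (Fin (p ^ j) → U) := fun g a l =>
      ⟨ρ ((α ^ (l : ℕ)).symm g) (a l), hUinv _ _ (a l).2⟩
    have hact : ∀ g, ∀ a ∈ L, act g a ∈ L := by
      intro g a ha
      rw [hmemL] at ha ⊢
      refine ⟨?_, fun l hl => Subtype.ext (by simp [act, ha.2 l hl])⟩
      rw [hΦ, Finset.sum_congr rfl fun (l : Fin (p ^ j)) _ =>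
          show (X ^ (l : ℕ)) (act g a l : V) = ρ g ((X ^ (l : ℕ)) (a l : V)) from hXi l g _,
        ← map_sum, ← hΦ, ha.1, map_zero]
    have hPinj : Function.Injective Pk := by
      rw [injective_iff_map_eq_zero]
      rintro ⟨a, ha⟩ hak
      by_contra hne'
      have ha0 : a ≠ 0 := fun h => hne' (Subtype.ext h)
      rw [hmemL] at ha
      have hlt : (univ.filter fun l => a l ≠ 0).card < I.card := by
        refine Finset.card_lt_card (Finset.ssubset_iff_of_subset ?_ |>.2 ⟨k, ?_, ?_⟩)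
        · intro l hl
          simp only [I, mem_filter, mem_univ, true_and] at hl ⊢
          exact fun h => hl (ha.2 l h)
        · simpa [I] using hk
        · simpa [Pk] using hak
      rw [hucard] at hlt
      exact Nat.find_min hE hlt ⟨a, ha.1, ha0, rfl⟩
    have hPsur : Function.Surjective Pk := by
      have h := hUirr ((LinearMap.range Pk).map U.subtype) (Submodule.map_subtype_le _ _) ?_
      · rcases h with h | h
        · exfalso
          have h2 : ((Pk ⟨u, (hmemL u).2 ⟨hu, fun l hl => hl⟩⟩ : U) : V) ∈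
              (LinearMap.range Pk).map U.subtype := ⟨_, ⟨_, rfl⟩, rfl⟩
          rw [h, Submodule.mem_bot] at h2
          exact hk (Subtype.ext h2)
        · intro a
          obtain ⟨b, hb', hbe⟩ : (a : V) ∈ (LinearMap.range Pk).map U.subtype := h.symm ▸ a.2
          obtain ⟨l, hl⟩ := hb'
          exact ⟨l, hl.trans (Subtype.ext hbe)⟩
      · rintro g _ ⟨_, ⟨⟨a, ha⟩, rfl⟩, rfl⟩
        refine ⟨_, ⟨⟨act ((α ^ (k : ℕ)) g) a, hact _ a ha⟩, rfl⟩, ?_⟩
        show ρ ((α ^ (k : ℕ)).symm ((α ^ (k : ℕ)) g)) (a k) = ρ g (a k)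
        rw [MulEquiv.symm_apply_apply]
    let Pe := LinearEquiv.ofBijective Pk ⟨hPinj, hPsur⟩
    obtain ⟨l, hlk, hul⟩ : ∃ l, l ≠ k ∧ u l ≠ 0 := by
      by_contra! h
      rw [hΦ, Finset.sum_eq_single k (fun l _ hl => by simp [h l hl]) (by simp)] at hu
      exact hk (Subtype.ext (hXinj _ (hle k) (hu.trans (map_zero _).symm)))
    let C : U →ₗ[K] U :=
      ((LinearMap.proj l : (Fin (p ^ j) → U) →ₗ[K] U).comp L.subtype).comp Pe.symm.toLinearMap
    have hC : ∀ g (a : U), (C ⟨ρ g a, hUinv g _ a.2⟩ : V) =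
        ρ ((α ^ (l : ℕ)).symm ((α ^ (k : ℕ)) g)) (C a) := by
      intro g a
      obtain ⟨⟨b, hb'⟩, rfl⟩ := Pe.surjective a
      have h1 : Pe.symm ⟨ρ g (Pe ⟨b, hb'⟩ : U), hUinv g _ (Pe ⟨b, hb'⟩).2⟩ =
          ⟨act ((α ^ (k : ℕ)) g) b, hact _ b hb'⟩ := by
        rw [LinearEquiv.symm_apply_eq]
        refine Subtype.ext ?_
        show ρ g (b k : V) = ρ ((α ^ (k : ℕ)).symm ((α ^ (k : ℕ)) g)) (b k)
        rw [MulEquiv.symm_apply_apply]
      simp only [C, LinearMap.comp_apply, LinearEquiv.coe_coe, h1, LinearEquiv.symm_apply_apply,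
        Submodule.coe_subtype, LinearMap.proj_apply]
      rfl
    -- this gives an intertwiner on `S`
    have hd : P ((k : ℕ) + (p ^ m - (l : ℕ))) := by
      refine ⟨e.symm.toLinearMap ∘ₗ C ∘ₗ e.toLinearMap, ?_, fun g => LinearMap.ext fun a => ?_⟩
      · refine LinearMap.ker_eq_bot.1 ((hSirr' _ fun g a ha => ?_).resolve_right fun h => ?_)
        · rw [LinearMap.mem_ker] at ha ⊢
          have ha' : C (e a) = 0 := by
            simpa using ha
          have hea : e (ρS g a) = ⟨ρ g (e a : U), hUinv g _ (e a).2⟩ :=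
            Subtype.ext (LinearMap.congr_fun (hfIW g) a)
          have h2 : C (e (ρS g a)) = 0 := by
            rw [hea]
            exact Subtype.ext (by rw [hC, ha', Submodule.coe_zero, map_zero])
          simp [h2]
        · refine hul ?_
          have h1 := LinearMap.congr_fun (LinearMap.ker_eq_top.1 h) (e.symm (u k))
          have h2 : Pe.symm (u k) = ⟨u, (hmemL u).2 ⟨hu, fun l' hl' => hl'⟩⟩ := by
            rw [LinearEquiv.symm_apply_eq]
            rfl
          simpa [C, h2] using h1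
      · show e.symm (C (e (ρS g a))) = ρS _ (e.symm (C (e a)))
        have hea : ∀ g a, e (ρS g a) = ⟨ρ g (e a : U), hUinv g _ (e a).2⟩ := fun g a =>
          Subtype.ext (LinearMap.congr_fun (hfIW g) a)
        rw [LinearEquiv.symm_apply_eq, hea g, hea _ (e.symm (C (e a)))]
        refine Subtype.ext ?_
        simp only [LinearEquiv.apply_symm_apply, hC]
        have h3 : (α ^ ((k : ℕ) + (p ^ m - (l : ℕ)))) g =
            (α ^ p ^ m) ((α ^ (l : ℕ)).symm ((α ^ (k : ℕ)) g)) := by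
          obtain ⟨g', hg'⟩ : ∃ g', g' = (α ^ (l : ℕ)).symm ((α ^ (k : ℕ)) g) := ⟨_, rfl⟩
          have h4 : (α ^ (l : ℕ)) g' = (α ^ (k : ℕ)) g := by rw [hg', MulEquiv.apply_symm_apply]
          rw [← hg', add_comm, pow_add, MulAut.mul_apply, ← h4, ← MulAut.mul_apply, ← pow_add,
            Nat.sub_add_cancel (hle l)]
        rw [h3, hper1]
    have hnd : ¬ p ^ j ∣ (k : ℕ) + (p ^ m - (l : ℕ)) := by
      intro h
      have h1 : (p ^ j : ℤ) ∣ (k : ℤ) - (l : ℤ) := by
        have h2 := Int.natCast_dvd_natCast.2 h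
        push_cast [Nat.cast_sub (hle l)] at h2
        have h3 : ((p : ℤ) ^ j) ∣ (p : ℤ) ^ m := pow_dvd_pow _ hjm
        have := dvd_sub h2 h3
        have e2 : ((k : ℤ) + ((p : ℤ) ^ m - (l : ℤ))) - (p : ℤ) ^ m = (k : ℤ) - l := by ring
        rwa [e2] at this
      have hk' := k.2
      have hl' := l.2
      have h4 : (k : ℤ) - l = 0 := Int.eq_zero_of_abs_lt_dvd h1 (by
        rw [abs_lt]
        constructor <;> push_cast <;> [skip; skip] <;>
          linarith [show ((k : ℕ) : ℤ) < (p : ℤ) ^ j by exact_mod_cast hk',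
            show ((l : ℕ) : ℤ) < (p : ℤ) ^ j by exact_mod_cast hl',
            Int.natCast_nonneg (k : ℕ), Int.natCast_nonneg (l : ℕ)])
      exact hlk (Fin.ext (by omega))
    obtain ⟨l', hl'j, hl'P⟩ := closed_pow_gcd P hadd hper hjm hd hnd
    exact Nat.find_min hex hl'j hl'P
  intro r hr v hv
  have : Nontrivial V := ⟨⟨(Submodule.exists_mem_ne_zero_of_ne_bot hUne).choose, 0,
    (Submodule.exists_mem_ne_zero_of_ne_bot hUne).choose_spec.2⟩⟩
  have hcp : CharP (Module.End K V) p :=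
    charP_of_injective_algebraMap (FaithfulSMul.algebraMap_injective K _) p
  have hX'1 : X' - 1 = (X - 1) ^ p ^ j := by
    rw [hX', sub_pow_char_pow_of_commute p j (Commute.one_right _), one_pow]
  set a := r / p ^ j with ha
  set b := r % p ^ j with hb'
  have hbj : b < p ^ j := Nat.mod_lt _ (pow_pos hp.out.pos j)
  have h0 : ((X - 1) ^ b * (X' - 1) ^ a) v = 0 := by
    rw [hX'1, ← pow_mul, ← pow_add, ha, hb', Nat.mod_add_div, hr, LinearMap.zero_apply]
  set w := ((X' - 1) ^ a) v with hw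
  have hpowU : ∀ c : ℕ, ((X' - 1) ^ c) v ∈ U := by
    intro c
    induction c with
    | zero => simpa using hv
    | succ c ih =>
      rw [pow_succ', Module.End.mul_apply, LinearMap.sub_apply, Module.End.one_apply]
      exact sub_mem (hUX _ ih) ih
  have hwU : w ∈ U := hpowU a
  rw [Module.End.mul_apply, ← hw, sub_eq_add_neg,
    ((Commute.one_right X).neg_right).add_pow, LinearMap.sum_apply] at h0
  let coef : Fin (p ^ j) → K := fun k => (-1 : K) ^ (b - (k : ℕ)) * (b.choose k : K)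
  have h1 : Φ (fun k => coef k • ⟨w, hwU⟩) = 0 := by
    rw [hΦ]
    refine Eq.trans ?_ h0
    rw [← Fin.sum_univ_eq_sum_range (fun k => _) (b + 1)]
    rw [Fin.sum_univ_eq_sum_range (fun k => (X ^ k * (-1) ^ (b - k) * (b.choose k : Module.End K V)) w),
      Finset.sum_fin_eq_sum_range]
    refine (Finset.sum_subset (s₁ := range (b + 1)) (fun k hk => ?_) fun k hk hk' => ?_).symm.trans
      (Finset.sum_congr rfl fun k hk => ?_)
    · rw [Finset.mem_range] at hk ⊢; omega
    · rw [Finset.mem_range] at hk hk'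
      rw [dif_pos hk]
      simp [coef, Nat.choose_eq_zero_of_lt (show b < k by omega)]
    · rw [Finset.mem_range] at hk
      rw [dif_pos (show k < p ^ j by omega)]
      rw [Submodule.coe_smul, map_smul, mul_assoc, Module.End.mul_apply, ← map_smul]
      congr 1
      simp only [coef]
      rw [← map_natCast (algebraMap K (Module.End K V)), ← map_one (algebraMap K (Module.End K V)),
        ← map_neg, ← map_pow, ← map_mul, Module.algebraMap_end_apply]
  have h2 := congrFun (hindep _ h1) ⟨b, hbj⟩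
  simp only [coef, Nat.sub_self, pow_zero, Nat.choose_self, Nat.cast_one, mul_one, one_smul,
    Pi.zero_apply] at h2
  exact congrArg Subtype.val h2

end CfsgLib.HallHigman
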