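import Mathlib.LinearAlgebra.Trace
import Mathlib.LinearAlgebra.Dual.Lemmas
import Mathlib.Algebra.CharP.Algebra
import Mathlib.Algebra.CharP.Lemmas
import Mathlib.Algebra.Ring.GeomSum
import Mathlib.RepresentationTheory.Basic
import Cfsg.Agent.HallHigman.IrreduciblePGroup

/-!
The critical case of the Hall–Higman theorem: a `p`-element acting on an irreducible module of a
normal `q`-subgroup in characteristic `p`, with all fixed points central.
-/

open Module

namespace CfsgLib.HallHigman

variable {K : Type*} [Field K] [IsAlgClosed K] {V : Type*} [AddCommGroup V] [Module K V]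
  [FiniteDimensional K V] [Nontrivial V]

/-- The averaging identity: for an irreducible finite group `Q` of invertible order, every
endomorphism is a multiple of `∑ tr (E q⁻¹) q`. -/
theorem exists_trace_expansion {Q : Type*} [Group Q] [Fintype Q] (ρ : Q →* Module.End K V)
    (hirr : ∀ W : Submodule K V, (∀ g, ∀ w ∈ W, ρ g w ∈ W) → W = ⊥ ∨ W = ⊤)
    (hcard : (Fintype.card Q : K) ≠ 0) :
    ∃ a : K, a ≠ 0 ∧ ∀ E : Module.End K V,
      ∑ g, LinearMap.trace K V (E * ρ g⁻¹) • ρ g = a • E := by
  set d : K := (finrank K V : K) with hd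
  -- the average of a rank-one map is a scalar
  have avg : ∀ (φ : V →ₗ[K] K) (u : V), ∃ t : K, d * t = (Fintype.card Q : K) * φ u ∧
      ∀ z, ∑ g, φ (ρ g⁻¹ z) • ρ g u = t • z := by
    intro φ u
    set S : Module.End K V := ∑ g, ρ g * φ.smulRight u * ρ g⁻¹ with hS
    obtain ⟨t, ht⟩ : ∃ t : K, S = t • 1 := by
      refine exists_eq_smul_one_of_commute (fun g => ρ g) hirr S fun h => ?_
      change S * ρ h = ρ h * S
      rw [hS, Finset.mul_sum, Finset.sum_mul]
      refine Fintype.sum_equiv (Equiv.mulLeft h⁻¹) _ _ fun g => ?_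
      simp only [Equiv.coe_mulLeft, map_mul, mul_inv_rev, inv_inv]
      simp only [← mul_assoc, ← map_mul, mul_inv_cancel, one_mul]
      rw [mul_assoc _ (ρ g⁻¹), ← map_mul]
    refine ⟨t, ?_, fun z => ?_⟩
    · have htr : LinearMap.trace K V S = (Fintype.card Q : K) * φ u := by
        rw [hS, map_sum, Finset.sum_eq_card_nsmul (b := φ u) fun g _ => ?_, Finset.card_univ,
          nsmul_eq_mul]
        rw [LinearMap.trace_mul_comm, ← mul_assoc, ← map_mul, inv_mul_cancel, map_one, one_mul,
          LinearMap.trace_smulRight]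
      rw [ht, map_smul, LinearMap.trace_one, smul_eq_mul] at htr
      rw [hd, mul_comm, htr]
    · have := LinearMap.congr_fun ht z
      simpa [hS] using this
  have hd0 : d ≠ 0 := by
    obtain ⟨u, hu⟩ := exists_ne (0 : V)
    obtain ⟨φ, hφ⟩ : ∃ φ : V →ₗ[K] K, φ u ≠ 0 := by
      by_contra! h
      exact hu ((Module.forall_dual_apply_eq_zero_iff K u).mp h)
    obtain ⟨t, ht, -⟩ := avg φ u
    intro h
    rw [h, zero_mul, eq_comm] at ht
    exact mul_ne_zero hcard hφ ht
  refine ⟨(Fintype.card Q : K) / d, div_ne_zero hcard hd0, fun E => ?_⟩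
  let b := Module.finBasis K V
  have hE : E = ∑ i, (b.coord i).smulRight (E (b i)) := by
    refine b.ext fun j => ?_
    classical
    simp [Finsupp.single_apply]
  have rank1 : ∀ (φ : V →ₗ[K] K) (u : V),
      ∑ g, LinearMap.trace K V (φ.smulRight u * ρ g⁻¹) • ρ g
        = ((Fintype.card Q : K) / d) • φ.smulRight u := by
    intro φ u
    ext w
    -- exchange the roles: `w` is acted on, `u` is averaged
    have htr : ∀ g, LinearMap.trace K V (φ.smulRight u * ρ g⁻¹) = φ (ρ g⁻¹ u) := by
      intro g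
      have : φ.smulRight u * ρ g⁻¹ = (φ.comp (ρ g⁻¹)).smulRight u := rfl
      rw [this, LinearMap.trace_smulRight]
      rfl
    obtain ⟨t, ht, htz⟩ := avg φ w
    simp only [LinearMap.sum_apply, LinearMap.smul_apply, htr, LinearMap.smulRight_apply, htz,
      smul_smul]
    rw [div_mul_eq_mul_div, ← ht, mul_div_cancel_left₀ _ hd0]
  conv_rhs => rw [hE, Finset.smul_sum]
  rw [← Finset.sum_congr rfl fun i _ => rank1 (b.coord i) (E (b i)), Finset.sum_comm]
  refine Finset.sum_congr rfl fun g _ => ?_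
  conv_lhs => rw [hE, Finset.sum_mul, map_sum, Finset.sum_smul]

omit [IsAlgClosed K] [FiniteDimensional K V] [Nontrivial V] in
/-- A sum over a full orbit of a `p`-power unipotent is divisible by `(x - 1) ^ (n - 1)`. -/
theorem exists_orbit_sum_eq {p a : ℕ} [Fact p.Prime] [CharP K p] {X Y : Module.End K V}
    (hXY : X * Y = 1) (hYX : Y * X = 1) (E : Module.End K V) :
    ∃ Z : ℕ → Module.End K V, ∑ i ∈ Finset.range (p ^ a), X ^ i * E * Y ^ i
      = ∑ j ∈ Finset.range (p ^ a), (X - 1) ^ j * Z j * (X - 1) ^ (p ^ a - 1 - j) := by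
  set n := p ^ a with hn
  have hn1 : 1 ≤ n := Nat.one_le_pow _ _ (Nat.Prime.pos Fact.out)
  set L := LinearMap.mulLeft K X
  set R := LinearMap.mulRight K Y
  have hgeom : ∑ i ∈ Finset.range n, (L * R) ^ i = (L * R - 1) ^ (n - 1) := by
    have hpoly : ∑ i ∈ Finset.range n, (Polynomial.X : Polynomial K) ^ i
        = (Polynomial.X - 1) ^ (n - 1) := by
      refine mul_right_cancel₀ (b := (Polynomial.X - 1 : Polynomial K)) ?_ ?_
      · simpa using Polynomial.X_sub_C_ne_zero (1 : K)
      rw [geom_sum_mul, ← pow_succ, Nat.sub_add_cancel hn1, hn, sub_pow_char_pow, one_pow]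
    have := congrArg (Polynomial.aeval (L * R)) hpoly
    simpa [map_sum] using this
  have hLR : ∀ i, ((L * R) ^ i) E = X ^ i * E * Y ^ i := by
    intro i
    rw [(LinearMap.commute_mulLeft_right X Y).mul_pow, LinearMap.pow_mulLeft,
      LinearMap.pow_mulRight, Module.End.mul_apply, LinearMap.mulRight_apply,
      LinearMap.mulLeft_apply, mul_assoc]
  set u : Module.End K (Module.End K V) := LinearMap.mulLeft K (X - 1) * R
  set v : Module.End K (Module.End K V) := LinearMap.mulRight K (Y - 1)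
  have huv : L * R - 1 = u + v := by
    ext F : 1
    simp only [L, R, u, v, LinearMap.sub_apply, LinearMap.add_apply, Module.End.mul_apply,
      LinearMap.mulLeft_apply, LinearMap.mulRight_apply, Module.End.one_apply]
    noncomm_ring
  have hcuv : Commute u v := by
    refine Commute.mul_left (LinearMap.commute_mulLeft_right _ _) ?_
    ext F : 1
    simp only [R, v, Module.End.mul_apply, LinearMap.mulRight_apply]
    noncomm_ring
  have hNY : Commute (X - 1) Y := by
    refine Commute.sub_left ?_ (Commute.one_left _)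
    change X * Y = Y * X
    rw [hXY, hYX]
  have hY1 : Y - 1 = (X - 1) * -Y := by rw [sub_mul, one_mul, mul_neg, hXY]; abel
  refine ⟨fun j => ((n - 1).choose j : K) • (E * ((-Y) ^ (n - 1 - j) * Y ^ j)), ?_⟩
  rw [Finset.sum_congr rfl fun i _ => (hLR i).symm, ← LinearMap.sum_apply, hgeom, huv,
    hcuv.add_pow, LinearMap.sum_apply, Nat.sub_add_cancel hn1]
  refine Finset.sum_congr rfl fun j _ => ?_
  rw [← nsmul_eq_mul', LinearMap.smul_apply, ← Nat.cast_smul_eq_nsmul K, Module.End.mul_apply,
    (LinearMap.commute_mulLeft_right _ _).mul_pow, Module.End.mul_apply, LinearMap.pow_mulLeft,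
    LinearMap.pow_mulRight, LinearMap.pow_mulRight, LinearMap.mulRight_apply,
    LinearMap.mulRight_apply, LinearMap.mulLeft_apply, mul_smul_comm, smul_mul_assoc]
  congr 1
  rw [hY1, hNY.neg_right.mul_pow]
  have hc : Commute ((X - 1) ^ (n - 1 - j)) ((-Y) ^ (n - 1 - j) * Y ^ j) :=
    (hNY.neg_right.pow_pow _ _).mul_right (hNY.pow_pow _ _)
  calc (X - 1) ^ j * (E * ((X - 1) ^ (n - 1 - j) * (-Y) ^ (n - 1 - j)) * Y ^ j)
      = (X - 1) ^ j * (E * ((X - 1) ^ (n - 1 - j) * ((-Y) ^ (n - 1 - j) * Y ^ j))) := by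
        simp only [mul_assoc]
    _ = (X - 1) ^ j * (E * ((-Y) ^ (n - 1 - j) * Y ^ j)) * (X - 1) ^ (n - 1 - j) := by
        rw [hc.eq]; simp only [mul_assoc]

variable {G : Type*} [Group G] [Finite G] {p q : ℕ} [hp : Fact p.Prime] [hq : Fact q.Prime]
  [CharP K p] {Q : Subgroup G} [Q.Normal] {x : G}

omit [Q.Normal] in
/-- An element of `Q` centralizing a non-trivial power of `x` is central. -/
theorem mem_center_of_commute (hpq : p ≠ q) (hQ : IsPGroup q Q)
    (hx : IsPGroup p (Subgroup.zpowers x))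
    (hC : ∀ y ∈ Subgroup.zpowers x, y ≠ 1 →
      Subgroup.centralizer ({y} : Set G) = Subgroup.zpowers x ⊔ Subgroup.center G)
    {g y : G} (hg : g ∈ Q) (hy : y ∈ Subgroup.zpowers x) (hy1 : y ≠ 1) (hcomm : Commute g y) :
    g ∈ Subgroup.center G := by
  have hgC : g ∈ Subgroup.zpowers x ⊔ Subgroup.center G := by
    rw [← hC y hy hy1, Subgroup.mem_centralizer_singleton_iff]
    exact hcomm.eq
  obtain ⟨w, hw, z, hz, rfl⟩ := Subgroup.mem_sup_of_normal_right.mp hgC
  obtain ⟨a, ha⟩ := hx.exists_card_eq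
  obtain ⟨k, hk⟩ := hQ ⟨_, hg⟩
  have hwz : Commute w z := (Subgroup.mem_center_iff.mp hz w)
  have hpow : (w * z) ^ (p ^ a) ∈ Subgroup.center G := by
    have hw1 : w ^ (p ^ a) = 1 := by
      simpa [ha] using congrArg Subtype.val (pow_card_eq_one' (x := (⟨w, hw⟩ : Subgroup.zpowers x)))
    rw [hwz.mul_pow, hw1, one_mul]
    exact pow_mem hz _
  have hk' : (w * z) ^ (q ^ k) = 1 := by simpa using congrArg Subtype.val hk
  have hcop : (p ^ a).Coprime (q ^ k) :=
    Nat.Coprime.pow _ _ ((Nat.coprime_primes hp.out hq.out).mpr hpq)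
  have hord : (orderOf (w * z)).Coprime (p ^ a) :=
    (hcop.symm).coprime_dvd_left (orderOf_dvd_of_pow_eq_one hk')
  obtain ⟨m, hm⟩ := exists_pow_eq_self_of_coprime hord.symm
  rw [← hm]
  exact pow_mem hpow m

/-- The fixed points of `x` in `End V` are scalars plus traces. -/
theorem exists_eq_scalar_add_of_commute (hpq : p ≠ q) (hQ : IsPGroup q Q)
    (hx : IsPGroup p (Subgroup.zpowers x)) (hx1 : x ≠ 1)
    (hC : ∀ y ∈ Subgroup.zpowers x, y ≠ 1 →
      Subgroup.centralizer ({y} : Set G) = Subgroup.zpowers x ⊔ Subgroup.center G)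
    (ρ : Representation K G V)
    (hirr : ∀ W : Submodule K V, (∀ g ∈ Q, ∀ w ∈ W, ρ g w ∈ W) → W = ⊥ ∨ W = ⊤)
    {E : Module.End K V} (hE : Commute E (ρ x)) :
    ∃ (c : K) (Z : ℕ → Module.End K V), E = c • 1 + ∑ j ∈ Finset.range (orderOf x),
      (ρ x - 1) ^ j * Z j * (ρ x - 1) ^ (orderOf x - 1 - j) := by
  classical
  have := Fintype.ofFinite Q
  obtain ⟨a, ha⟩ := hx.exists_card_eq
  rw [Nat.card_zpowers] at ha
  have hirr' : ∀ W : Submodule K V, (∀ g : Q, ∀ w ∈ W, ρ g w ∈ W) → W = ⊥ ∨ W = ⊤ :=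
    fun W h => hirr W fun g hg => h ⟨g, hg⟩
  have hcard : (Fintype.card Q : K) ≠ 0 := by
    obtain ⟨k, hk⟩ := hQ.exists_card_eq
    rw [← Nat.card_eq_fintype_card, hk, Ne, CharP.cast_eq_zero_iff K p]
    exact fun h => hpq ((Nat.prime_dvd_prime_iff_eq hp.out hq.out).mp (hp.out.dvd_of_dvd_pow h))
  obtain ⟨r, hr0, hr⟩ := exists_trace_expansion (ρ.comp Q.subtype) hirr' hcard
  set N := ρ x - 1 with hN
  -- the submodule of "scalar plus trace" endomorphisms
  let M : Submodule K (Module.End K V) :=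
    { carrier := {F | ∃ (c : K) (Z : ℕ → Module.End K V), F = c • 1 +
        ∑ j ∈ Finset.range (orderOf x), N ^ j * Z j * N ^ (orderOf x - 1 - j)}
      zero_mem' := ⟨0, 0, by simp⟩
      add_mem' := by
        rintro _ _ ⟨c, Z, rfl⟩ ⟨c', Z', rfl⟩
        refine ⟨c + c', Z + Z', ?_⟩
        simp only [Pi.add_apply, mul_add, add_mul, Finset.sum_add_distrib, add_smul]
        abel
      smul_mem' := by
        rintro k _ ⟨c, Z, rfl⟩
        refine ⟨k * c, k • Z, ?_⟩
        simp only [Pi.smul_apply, mul_smul_comm, smul_mul_assoc, ← Finset.smul_sum, smul_add,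
          smul_smul] }
  suffices E ∈ M from this
  set σ : ℕ → Q → Q := fun i g => MulAut.conjNormal (x ^ i) g with hσ
  have hσadd : ∀ i j g, σ i (σ j g) = σ (i + j) g := by
    intro i j g
    simp [hσ, pow_add]
  set f : Q → Module.End K V :=
    fun g => LinearMap.trace K V (E * ρ (g⁻¹ : Q)) • ρ g with hf
  have hXY : ∀ i : ℕ, ρ (x⁻¹) ^ i * ρ x ^ i = 1 := fun i => by
    rw [← map_pow, ← map_pow, ← map_mul, inv_pow, inv_mul_cancel, map_one]
  have hXE : ∀ i : ℕ, Commute E (ρ x ^ i) := fun i => hE.pow_right i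
  have hfσ : ∀ i g, f (σ i g) = ρ x ^ i * f g * ρ x⁻¹ ^ i := by
    intro i g
    have hcoe : ((σ i g : Q) : G) = x ^ i * g * (x ^ i)⁻¹ := MulAut.conjNormal_apply (x ^ i) g
    simp only [hf, InvMemClass.coe_inv, hcoe, mul_inv_rev, inv_inv]
    simp only [map_mul, ← inv_pow, map_pow, mul_smul_comm, smul_mul_assoc]
    congr 1
    rw [← mul_assoc, ← mul_assoc, (hXE i).eq, LinearMap.trace_mul_comm]
    simp only [← mul_assoc]
    rw [hXY i, one_mul]
  have horb : ∀ s : Finset Q, (∀ g ∈ s, σ 1 g ∈ s) → ∑ g ∈ s, f g ∈ M := by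
    intro s
    induction s using Finset.strongInduction with
    | H s ih =>
    intro hs
    obtain rfl | ⟨g, hg⟩ := s.eq_empty_or_nonempty
    · simp
    by_cases hfix : σ 1 g = g
    · rw [← Finset.add_sum_erase s f hg]
      refine M.add_mem ?_ (ih _ (Finset.erase_ssubset hg) fun h hh => ?_)
      · have hgc : Commute (g : G) x := by
          have := congrArg Subtype.val hfix
          simp only [hσ, pow_one, MulAut.conjNormal_apply, mul_inv_eq_iff_eq_mul] at this
          exact this.symm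
        have hc := mem_center_of_commute hpq hQ hx hC g.2 (Subgroup.mem_zpowers x) hx1 hgc
        obtain ⟨c, hc⟩ := exists_eq_smul_one_of_commute (fun h : Q => ρ h) hirr' (ρ g) fun h => by
          rw [commute_iff_eq, ← map_mul, ← map_mul, Subgroup.mem_center_iff.mp hc]
        exact ⟨LinearMap.trace K V (E * ρ ↑(g⁻¹)) * c, 0, by simp [hf, hc, smul_smul]⟩
      · obtain ⟨hh1, hh2⟩ := Finset.mem_erase.mp hh
        refine Finset.mem_erase.mpr ⟨fun h' => hh1 ?_, hs h hh2⟩
        exact (MulAut.conjNormal (x ^ 1)).injective (h'.trans hfix.symm)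
    -- a free orbit
    have hsi : ∀ i, σ i g ∈ s := by
      intro i
      induction i with
      | zero => simpa [hσ] using hg
      | succ i hi => rw [add_comm, ← hσadd]; exact hs _ hi
    have hfree : ∀ i, 0 < i → i < orderOf x → σ i g ≠ g := by
      intro i h0 hi h
      apply hfix
      have hc : Commute (g : G) (x ^ i) := by
        have := congrArg Subtype.val h
        simp only [hσ, MulAut.conjNormal_apply, mul_inv_eq_iff_eq_mul] at this
        exact this.symm
      have hcen := mem_center_of_commute hpq hQ hx hC g.2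
        (pow_mem (Subgroup.mem_zpowers x) i) (pow_ne_one_of_lt_orderOf (by omega) hi) hc
      apply Subtype.ext
      simp only [hσ, pow_one, MulAut.conjNormal_apply, Subgroup.mem_center_iff.mp hcen x,
        mul_inv_cancel_right]
    have hinj : Set.InjOn (σ · g) (Finset.range (orderOf x)) := by
      intro i hi j hj hij
      rw [Finset.coe_range, Set.mem_Iio] at hi hj
      by_contra hne
      wlog hlt : i < j generalizing i j
      · exact this hj hi hij.symm (Ne.symm hne) (by omega)
      refine hfree (j - i) (by omega) (by omega) ?_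
      apply (MulAut.conjNormal (x ^ i)).injective
      change σ i (σ (j - i) g) = σ i g
      rw [hσadd, Nat.add_sub_cancel' hlt.le]
      exact hij.symm
    have hper : σ (orderOf x) g = g := by
      apply Subtype.ext
      simp only [hσ, pow_orderOf_eq_one, MulAut.conjNormal_apply, one_mul, inv_one, mul_one]
    set O := (Finset.range (orderOf x)).image (σ · g) with hO
    have hOs : O ⊆ s := by
      intro h hh
      obtain ⟨i, -, rfl⟩ := Finset.mem_image.mp hh
      exact hsi i
    have hgO : g ∈ O :=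
      Finset.mem_image.mpr ⟨0, Finset.mem_range.mpr (orderOf_pos x), by simp [hσ]⟩
    rw [← Finset.sum_sdiff hOs]
    refine M.add_mem (ih _ (Finset.sdiff_ssubset hOs ⟨g, hgO⟩) fun h hh => ?_) ?_
    · obtain ⟨hh1, hh2⟩ := Finset.mem_sdiff.mp hh
      refine Finset.mem_sdiff.mpr ⟨hs h hh1, fun h' => hh2 ?_⟩
      obtain ⟨i, hi, hie⟩ := Finset.mem_image.mp h'
      rw [Finset.mem_range] at hi
      have hback : h = σ (if i = 0 then orderOf x - 1 else i - 1) g := by
        apply (MulAut.conjNormal (x ^ 1)).injective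
        change σ 1 h = σ 1 _
        rw [hσadd, ← hie]
        split_ifs with h0
        · rw [Nat.add_sub_cancel' (orderOf_pos x), hper, h0]
          simp [hσ]
        · rw [Nat.add_sub_cancel' (by omega)]
      refine Finset.mem_image.mpr ⟨_, Finset.mem_range.mpr ?_, hback.symm⟩
      split_ifs <;> omega
    · rw [hO, Finset.sum_image hinj, Finset.sum_congr rfl fun i _ => hfσ i g, ha]
      obtain ⟨Z, hZ⟩ := exists_orbit_sum_eq (p := p) (a := a) (X := ρ x) (Y := ρ x⁻¹)
        (by rw [← map_mul, mul_inv_cancel, map_one]) (by rw [← map_mul, inv_mul_cancel, map_one])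
        (f g)
      exact ⟨0, Z, by rw [hZ, zero_smul, zero_add, ha]⟩
  have hsum : ∑ g, f g = r • E := hr E
  have hall := horb Finset.univ fun g _ => Finset.mem_univ _
  rw [hsum] at hall
  simpa [smul_smul, inv_mul_cancel₀ hr0] using M.smul_mem r⁻¹ hall

/-- The critical case of the theorem of Hall and Higman, with the degree in the exceptional case. -/
theorem critical_case_finrank (hpq : p ≠ q) (hQ : IsPGroup q Q)
    (hx : IsPGroup p (Subgroup.zpowers x))
    (hC : ∀ y ∈ Subgroup.zpowers x, y ≠ 1 →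
      Subgroup.centralizer ({y} : Set G) = Subgroup.zpowers x ⊔ Subgroup.center G)
    (ρ : Representation K G V) (hfaith : Function.Injective ρ)
    (hirr : ∀ W : Submodule K V, (∀ g ∈ Q, ∀ w ∈ W, ρ g w ∈ W) → W = ⊥ ∨ W = ⊤)
    (s : ℕ) (hs : (ρ x - 1) ^ s = 0) (hmin : ∀ k < s, (ρ x - 1) ^ k ≠ 0) :
    orderOf x - 1 ≤ s ∧ s ≤ orderOf x ∧
      (s = orderOf x - 1 →
        (∃ b : ℕ, orderOf x - 1 = q ^ b) ∧ ¬ IsMulCommutative Q ∧ finrank K V = orderOf x - 1) := by
  obtain ⟨a, ha⟩ := hx.exists_card_eq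
  rw [Nat.card_zpowers] at ha
  set n := orderOf x with hn
  set N : Module.End K V := ρ x - 1 with hN
  have hn0 : 0 < n := orderOf_pos x
  have hNn : N ^ n = 0 := by
    have hcp : CharP (Module.End K V) p :=
      charP_of_injective_algebraMap (FaithfulSMul.algebraMap_injective K _) p
    rw [hN, ha, sub_pow_char_pow_of_commute p a (Commute.one_right _), one_pow, ← map_pow, ← ha,
      pow_orderOf_eq_one, map_one, sub_self]
  have hsn : s ≤ n := by
    by_contra! h
    exact hmin n h hNn
  have hs0 : s ≠ 0 := by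
    rintro rfl
    rw [pow_zero] at hs
    exact one_ne_zero hs
  have hX : N = 0 → n = 1 := by
    intro h
    rw [hn, orderOf_eq_one_iff]
    exact hfaith (by rw [map_one]; exact sub_eq_zero.mp h)
  by_cases hn1 : n = 1
  · exact ⟨by omega, hsn, fun h => by omega⟩
  have hx1 : x ≠ 1 := fun h => hn1 (by rw [hn, h, orderOf_one])
  have key := fun {E : Module.End K V} (hE : Commute E (ρ x)) =>
    exists_eq_scalar_add_of_commute hpq hQ hx hx1 hC ρ hirr hE
  -- the range of a trace
  have hrange : ∀ (m : ℕ) (Z : ℕ → Module.End K V), m + s ≤ n → ∀ v,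
      (∑ j ∈ Finset.range n, N ^ j * Z j * N ^ (n - 1 - j)) v ∈ LinearMap.range (N ^ m) := by
    intro m Z hm v
    rw [LinearMap.sum_apply]
    refine Submodule.sum_mem _ fun j hj => ?_
    rw [Finset.mem_range] at hj
    by_cases hjm : m ≤ j
    · refine ⟨(N ^ (j - m) * Z j * N ^ (n - 1 - j)) v, ?_⟩
      rw [← Module.End.mul_apply, ← mul_assoc, ← mul_assoc, ← pow_add, Nat.add_sub_cancel' hjm]
    · rw [pow_eq_zero_of_le (show s ≤ n - 1 - j by omega) hs, mul_zero, LinearMap.zero_apply]
      exact zero_mem _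
  have hlow : n - 1 ≤ s := by
    by_contra! hlt
    obtain ⟨c, Z, hcZ⟩ := key (E := N) ((Commute.refl _).sub_left (Commute.one_left _))
    have hT := hrange 2 Z (by omega)
    set T : Module.End K V := ∑ j ∈ Finset.range n, N ^ j * Z j * N ^ (n - 1 - j)
    have hc : c = 0 := by
      by_contra hc
      have hsur : Function.Surjective N := by
        intro v
        obtain ⟨u, hu⟩ := hT (c⁻¹ • v)
        refine ⟨c⁻¹ • v - N u, ?_⟩
        have h1 : N (c⁻¹ • v) = v + T (c⁻¹ • v) := by
          conv_lhs => rw [hcZ]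
          simp [smul_smul, inv_mul_cancel₀ hc]
        rw [map_sub, h1, ← hu, pow_two, Module.End.mul_apply, add_sub_cancel_right]
      obtain ⟨v, hv⟩ := exists_ne (0 : V)
      obtain ⟨u, hu⟩ := Module.End.iterate_surjective hsur s v
      rw [hs] at hu
      exact hv hu.symm
    have hN2 : ∀ v, ∃ u, N v = N (N u) := by
      intro v
      obtain ⟨u, hu⟩ := hT v
      refine ⟨u, ?_⟩
      conv_lhs => rw [hcZ, hc]
      simp [← hu, pow_two]
    have hNk : ∀ k v, ∃ u, N v = (N ^ (k + 1)) u := by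
      intro k
      induction k with
      | zero => exact fun v => ⟨v, by rw [zero_add, pow_one]⟩
      | succ k ih =>
        intro v
        obtain ⟨u, hu⟩ := hN2 v
        obtain ⟨u', hu'⟩ := ih u
        exact ⟨u', by rw [hu, hu', ← Module.End.mul_apply, ← pow_succ']⟩
    have : N = 0 := by
      ext v
      obtain ⟨u, hu⟩ := hNk s v
      rw [hu, pow_succ', Module.End.mul_apply, hs]
      simp
    exact hn1 (hX this)
  refine ⟨hlow, hsn, fun hsn1 => ?_⟩
  obtain ⟨w, hw⟩ : ∃ w, (N ^ (s - 1)) w ≠ 0 := by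
    by_contra! h
    exact hmin (s - 1) (by omega) (LinearMap.ext h)
  obtain ⟨ψ, hψ⟩ : ∃ ψ : V →ₗ[K] K, ψ ((N ^ (s - 1)) w) = 1 := by
    obtain ⟨φ, hφ⟩ : ∃ φ : V →ₗ[K] K, φ ((N ^ (s - 1)) w) ≠ 0 := by
      by_contra! h
      exact hw ((Module.forall_dual_apply_eq_zero_iff K _).mp h)
    exact ⟨(φ ((N ^ (s - 1)) w))⁻¹ • φ, by simp [inv_mul_cancel₀ hφ]⟩
  set π : Module.End K V :=
    ∑ i ∈ Finset.range s, (ψ.comp (N ^ (s - 1 - i))).smulRight ((N ^ i) w) with hπ
  have hπN : Commute π N := by
    ext v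
    set g : ℕ → V := fun i => ψ ((N ^ (s - i)) v) • (N ^ i) w with hg
    have hg0 : g 0 = 0 := by simp [hg, hs]
    have hgs : g s = 0 := by simp [hg, hs]
    have h1 : (π * N) v = ∑ i ∈ Finset.range s, g i := by
      simp only [hπ, Module.End.mul_apply, LinearMap.sum_apply, LinearMap.smulRight_apply,
        LinearMap.comp_apply]
      refine Finset.sum_congr rfl fun i hi => ?_
      rw [Finset.mem_range] at hi
      simp only [hg]
      rw [← Module.End.mul_apply, ← pow_succ, show s - 1 - i + 1 = s - i by omega]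
    have h2 : (N * π) v = ∑ i ∈ Finset.range s, g (i + 1) := by
      simp only [hπ, Module.End.mul_apply, LinearMap.sum_apply, LinearMap.smulRight_apply,
        LinearMap.comp_apply, map_sum, map_smul]
      refine Finset.sum_congr rfl fun i hi => ?_
      rw [Finset.mem_range] at hi
      simp only [hg]
      rw [← Module.End.mul_apply, ← pow_succ', show s - (i + 1) = s - 1 - i by omega]
    rw [h1, h2]
    have e1 := Finset.sum_range_succ g s
    have e2 := Finset.sum_range_succ' g s
    rw [hgs, add_zero] at e1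
    rw [hg0, add_zero] at e2
    rw [← e1, e2]
  have hπX : Commute π (ρ x) := by
    have := hπN.add_right (Commute.one_right π)
    rwa [hN, sub_add_cancel] at this
  obtain ⟨c, Z, hcZ⟩ := key hπX
  have hT := hrange 1 Z (by omega)
  set T : Module.End K V := ∑ j ∈ Finset.range n, N ^ j * Z j * N ^ (n - 1 - j)
  have hwN : w ∉ LinearMap.range N := by
    rintro ⟨u, rfl⟩
    apply hw
    rw [← Module.End.mul_apply, ← pow_succ, show s - 1 + 1 = s by omega, hs]
    rfl
  have hπw : π w - w ∈ LinearMap.range N := by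
    rw [hπ, LinearMap.sum_apply, ← Finset.add_sum_erase _ _ (Finset.mem_range.mpr (by omega : 0 < s))]
    simp only [LinearMap.smulRight_apply, LinearMap.comp_apply, Nat.sub_zero, pow_zero,
      Module.End.one_apply, hψ, one_smul, add_sub_cancel_left]
    refine Submodule.sum_mem _ fun i hi => Submodule.smul_mem _ _ ?_
    obtain ⟨k, rfl⟩ := Nat.exists_eq_succ_of_ne_zero (Finset.mem_erase.mp hi).1
    exact ⟨(N ^ k) w, by rw [← Module.End.mul_apply, ← pow_succ']⟩
  have hT1 : ∀ v, T v ∈ LinearMap.range N := fun v => by simpa using hT v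
  have hc : c = 1 := by
    by_contra hc
    apply hwN
    have h1 : (c - 1) • w ∈ LinearMap.range N := by
      have h2 : (c - 1) • w = (π w - w) - T w := by rw [hcZ]; simp [sub_smul]; abel
      rw [h2]
      exact sub_mem hπw (hT1 w)
    have := Submodule.smul_mem _ (c - 1)⁻¹ h1
    rwa [smul_smul, inv_mul_cancel₀ (sub_ne_zero.mpr hc), one_smul] at this
  set U : Submodule K V := Submodule.span K (Set.range fun i : Fin s => (N ^ (i : ℕ)) w) with hU
  have hUmem : ∀ i, (N ^ i) w ∈ U := by
    intro i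
    by_cases hi : i < s
    · exact Submodule.subset_span ⟨⟨i, hi⟩, rfl⟩
    · rw [pow_eq_zero_of_le (by omega : s ≤ i) hs]; simp
  have hUN : ∀ v ∈ U, N v ∈ U := by
    intro v hv
    induction hv using Submodule.span_induction with
    | mem v hv =>
      obtain ⟨i, rfl⟩ := hv
      change N ((N ^ (i : ℕ)) w) ∈ U
      rw [← Module.End.mul_apply, ← pow_succ']
      exact hUmem _
    | zero => simp
    | add _ _ _ _ h1 h2 => rw [map_add]; exact add_mem h1 h2
    | smul k _ _ h => rw [map_smul]; exact U.smul_mem k h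
  have hstep : ∀ v, ∃ u ∈ U, ∃ y, v = u + N y := by
    intro v
    obtain ⟨y, hy⟩ := hT1 v
    refine ⟨π v, ?_, -y, ?_⟩
    · rw [hπ, LinearMap.sum_apply]
      exact Submodule.sum_mem _ fun i _ => U.smul_mem _ (hUmem i)
    · rw [map_neg, hy, hcZ, hc]
      simp
  have htop : U = ⊤ := by
    rw [eq_top_iff]
    have hk : ∀ k v, ∃ u ∈ U, ∃ y, v = u + (N ^ k) y := by
      intro k
      induction k with
      | zero => exact fun v => ⟨0, U.zero_mem, v, by simp⟩
      | succ k ih =>
        intro v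
        obtain ⟨u, hu, y, rfl⟩ := hstep v
        obtain ⟨u', hu', y', rfl⟩ := ih y
        exact ⟨u + N u', add_mem hu (hUN u' hu'), y', by
          rw [map_add, pow_succ', Module.End.mul_apply, add_assoc]⟩
    intro v _
    obtain ⟨u, hu, y, rfl⟩ := hk s v
    rw [hs]
    simpa using hu
  have hd : finrank K V = s := by
    refine le_antisymm ?_ ?_
    · rw [← finrank_top K V, ← htop]
      exact (finrank_range_le_card _).trans_eq (Fintype.card_fin s)
    · by_contra! h
      apply hmin _ h
      have := Module.End.ker_pow_eq_ker_pow_finrank_of_le (f := N) h.le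
      rw [hs, LinearMap.ker_zero, eq_comm, LinearMap.ker_eq_top] at this
      exact this
  refine ⟨?_, fun hab => ?_, hd.trans hsn1⟩
  · obtain ⟨b, hb⟩ := exists_finrank_eq_pow hQ (ρ.comp Q.subtype)
      fun W h => hirr W fun g hg => h ⟨g, hg⟩
    exact ⟨b, by rw [← hsn1, ← hd, hb]⟩
  · have hscal : ∀ g : Q, ∃ k : K, ρ g = k • 1 := fun g =>
      exists_eq_smul_one_of_commute (fun h : Q => ρ h)
        (fun W h => hirr W fun g hg => h ⟨g, hg⟩) (ρ g) fun h => by
        rw [commute_iff_eq, ← map_mul, ← map_mul, ← Subgroup.coe_mul, mul_comm', Subgroup.coe_mul]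
    obtain ⟨v, hv⟩ := exists_ne (0 : V)
    have htop1 : K ∙ v = ⊤ := by
      refine (hirr _ fun g hg u hu => ?_).resolve_left (by simp [hv])
      obtain ⟨k, hk⟩ := hscal ⟨g, hg⟩
      change ρ g = k • 1 at hk
      rw [hk]
      exact Submodule.smul_mem _ k hu
    have hd1 : finrank K V = 1 := by
      rw [← finrank_top K V, ← htop1, finrank_span_singleton hv]
    apply hn1
    apply hX
    rw [← pow_one N, show 1 = s by omega, hs]

/-- The critical case of the theorem of Hall and Higman. -/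
theorem critical_case (hpq : p ≠ q) (hQ : IsPGroup q Q)
    (hx : IsPGroup p (Subgroup.zpowers x))
    (hC : ∀ y ∈ Subgroup.zpowers x, y ≠ 1 →
      Subgroup.centralizer ({y} : Set G) = Subgroup.zpowers x ⊔ Subgroup.center G)
    (ρ : Representation K G V) (hfaith : Function.Injective ρ)
    (hirr : ∀ W : Submodule K V, (∀ g ∈ Q, ∀ w ∈ W, ρ g w ∈ W) → W = ⊥ ∨ W = ⊤)
    (s : ℕ) (hs : (ρ x - 1) ^ s = 0) (hmin : ∀ k < s, (ρ x - 1) ^ k ≠ 0) :
    orderOf x - 1 ≤ s ∧ s ≤ orderOf x ∧
      (s = orderOf x - 1 → (∃ b : ℕ, orderOf x - 1 = q ^ b) ∧ ¬ IsMulCommutative Q) := by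
  obtain ⟨h1, h2, h3⟩ := critical_case_finrank hpq hQ hx hC ρ hfaith hirr s hs hmin
  exact ⟨h1, h2, fun h => ⟨(h3 h).1, (h3 h).2.1⟩⟩

end CfsgLib.HallHigman
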