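import Mathlib
import Cfsg.Agent.HallHigman.Constituent
import Cfsg.Agent.HallHigman.CriticalCase
import Cfsg.Agent.ShultGross.Base
import Cfsg.Agent.ShultGross.Height
import Cfsg.Agent.Solvable.Frattini

/-!
Theorem B of Hall and Higman, for a `p`-element normalising a `q`-group.
-/

set_option autoImplicit false
set_option linter.style.haveILetI false

open Finset Module
open scoped commutatorElement

namespace CfsgLib.HallHigman

universe u v w

/-- Restricting an automorphism to an invariant subgroup. -/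
theorem exists_restrict_aut {H : Type w} [Group H] [Finite H] (σ : MulAut H) (L : Subgroup H)
    (hL : ∀ x ∈ L, σ x ∈ L) :
    ∃ σ' : MulAut L, ∀ (i : ℕ) (x : L), ((σ' ^ i) x : H) = (σ ^ i) x := by
  refine ⟨MulEquiv.ofBijective
    ({ toFun := fun z => ⟨σ z, hL _ z.2⟩
       map_one' := Subtype.ext (map_one σ)
       map_mul' := fun a c => Subtype.ext (map_mul σ _ _) } : L →* L)
    (Finite.injective_iff_bijective.1 fun a c h =>
      Subtype.ext (σ.injective (congrArg Subtype.val h))), fun i => ?_⟩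
  induction i with
  | zero => intro z; simp
  | succ i ih =>
    intro z
    rw [pow_succ', MulAut.mul_apply, pow_succ' σ, MulAut.mul_apply, ← ih]
    rfl

/-- In a `q`-group generated by the commutators of `τ`, whose Frattini subgroup is fixed, every
fixed point of `τ` is central. -/
theorem fixed_mem_center {Q : Type w} [Group Q] [Finite Q] {p q : ℕ} [hp : Fact p.Prime]
    [hq : Fact q.Prime] (hpq : p ≠ q) (hQ : IsPGroup q Q) (τ : MulAut Q) (hτ : τ ^ p = 1)
    (htop : ShultGross.twist τ = ⊤) (hF : ∀ y ∈ frattini Q, τ y = y) {e : Q} (he : τ e = e) :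
    e ∈ Subgroup.center Q := by
  have hFn : (frattini Q).Normal := inferInstance
  have hFc : frattini Q ≤ Subgroup.center Q := by
    intro y hy
    rw [Subgroup.mem_center_iff]
    intro u
    have : ShultGross.twist τ ≤ Subgroup.centralizer {y} := by
      refine (Subgroup.closure_le _).2 ?_
      rintro _ ⟨z, rfl⟩
      rw [SetLike.mem_coe, Subgroup.mem_centralizer_singleton_iff]
      have h1 := hF _ (hFn.conj_mem y hy z)
      rw [map_mul, map_mul, map_inv, hF y hy] at h1
      calc z⁻¹ * τ z * y = z⁻¹ * (τ z * y * (τ z)⁻¹) * τ z := by group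
        _ = z⁻¹ * (z * y * z⁻¹) * τ z := by rw [h1]
        _ = y * (z⁻¹ * τ z) := by group
    rw [htop] at this
    exact Subgroup.mem_centralizer_singleton_iff.1 (this (Subgroup.mem_top u))
  refine hFc ?_
  have hQ'F : commutator Q ≤ frattini Q := CfsgLib.Solvable.commutator_le_frattini hQ
  letI : CommGroup (Q ⧸ frattini Q) := { (inferInstance : Group (Q ⧸ frattini Q)) with
    mul_comm := fun a c => by
      induction a using QuotientGroup.induction_on with
      | H a =>
        induction c using QuotientGroup.induction_on with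
        | H c =>
          show ((a * c : Q) : Q ⧸ frattini Q) = ((c * a : Q) : Q ⧸ frattini Q)
          rw [QuotientGroup.eq,
            show (a * c)⁻¹ * (c * a) = ⁅c⁻¹, a⁻¹⁆ by rw [commutatorElement_def]; group]
          exact hQ'F (Subgroup.commutator_mem_commutator (Subgroup.mem_top _) (Subgroup.mem_top _)) }
  let Nm : Q →* Q ⧸ frattini Q :=
    { toFun := fun y => ∏ i ∈ range p, (((τ ^ i) y : Q) : Q ⧸ frattini Q)
      map_one' := by simp
      map_mul' := fun a c => by simp [Finset.prod_mul_distrib] }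
  have hshift : ∀ y, Nm (τ y) = Nm y := fun y => by
    show ∏ i ∈ range p, (((τ ^ i) (τ y) : Q) : Q ⧸ frattini Q) =
      ∏ i ∈ range p, (((τ ^ i) y : Q) : Q ⧸ frattini Q)
    obtain ⟨p', hp'⟩ : ∃ p', p = p' + 1 := ⟨p - 1, (Nat.succ_pred_eq_of_pos hp.out.pos).symm⟩
    rw [hp', Finset.prod_range_succ, Finset.prod_range_succ']
    congr 1
    rw [← MulAut.mul_apply, ← pow_succ, ← hp', hτ, pow_zero]
  have hker : ShultGross.twist τ ≤ Nm.ker := by
    refine (Subgroup.closure_le _).2 ?_
    rintro _ ⟨y, rfl⟩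
    rw [SetLike.mem_coe, MonoidHom.mem_ker, map_mul, map_inv, hshift, inv_mul_cancel]
  have h1 : Nm e = 1 := MonoidHom.mem_ker.1 (hker (htop ▸ Subgroup.mem_top e))
  have hτi : ∀ i : ℕ, (τ ^ i) e = e := by
    intro i
    induction i with
    | zero => simp
    | succ i ih => rw [pow_succ, MulAut.mul_apply, he, ih]
  have h2 : Nm e = (e : Q ⧸ frattini Q) ^ p := by
    show ∏ i ∈ range p, (((τ ^ i) e : Q) : Q ⧸ frattini Q) = _
    rw [Finset.prod_congr rfl fun i _ => by rw [hτi], Finset.prod_const, card_range]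
  rw [h2] at h1
  rw [← QuotientGroup.eq_one_iff, ← orderOf_eq_one_iff]
  obtain ⟨k, hk⟩ := (hQ.to_quotient (frattini Q)) (e : Q ⧸ frattini Q)
  exact Nat.eq_one_of_dvd_coprimes (((Nat.coprime_primes hp.out hq.out).2 hpq).pow_right k)
    (orderOf_dvd_of_pow_eq_one h1) (orderOf_dvd_of_pow_eq_one hk)

variable {K : Type u} [Field K] [IsAlgClosed K] {p q : ℕ} [hp : Fact p.Prime] [CharP K p]
  [hq : Fact q.Prime]

/-- The critical configuration: the degree is at least `p ^ m - 1`. -/
theorem degree_of_irreducible {Q : Type w} [Group Q] [Finite Q] {V : Type v} [AddCommGroup V]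
    [Module K V] [FiniteDimensional K V] [Nontrivial V] (hpq : p ≠ q) {m : ℕ} (hm : 1 ≤ m)
    (hQ : IsPGroup q Q) (α : MulAut Q) (ψ : Q →* Module.End K V) (hψ : Function.Injective ψ)
    (hirr : ∀ W : Submodule K V, (∀ g, ∀ v ∈ W, ψ g v ∈ W) → W = ⊥ ∨ W = ⊤)
    (X : Module.End K V) (hX : X ^ p ^ m = 1) (hα : ∀ g, X * ψ g = ψ (α g) * X)
    (hτ : ∃ g, (α ^ p ^ (m - 1)) g ≠ g)
    (hfix : ∀ e, (α ^ p ^ (m - 1)) e = e → e ∈ Subgroup.center Q)
    (r : ℕ) (hr : (X - 1) ^ r = 0) :
    p ^ m ≤ r ∨ (p ^ m - 1 ≤ r ∧ (∃ e, 1 ≤ e ∧ p ^ m - 1 = q ^ e) ∧ ¬ IsMulCommutative Q ∧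
      finrank K V = p ^ m - 1) := by
  classical
  have hMpos : 0 < p ^ m := pow_pos hp.out.pos m
  let ue : Q →* (Module.End K V)ˣ := ψ.toHomUnits
  have hue : ∀ g, ((ue g : (Module.End K V)ˣ) : Module.End K V) = ψ g := fun g => rfl
  let ux : (Module.End K V)ˣ :=
    ⟨X, X ^ (p ^ m - 1), by rw [← pow_succ', Nat.sub_add_cancel hMpos, hX],
      by rw [← pow_succ, Nat.sub_add_cancel hMpos, hX]⟩
  have huxM : ux ^ p ^ m = 1 := Units.ext (by rw [Units.val_pow_eq_pow_val]; exact hX)
  have hconj : ∀ (i : ℕ) g, ux ^ i * ue g = ue ((α ^ i) g) * ux ^ i := by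
    intro i
    induction i with
    | zero => intro g; simp
    | succ i ih =>
      intro g
      have h1 : ∀ g, ux * ue g = ue (α g) * ux := fun g => Units.ext (hα g)
      rw [pow_succ' ux, mul_assoc, ih, ← mul_assoc, h1, mul_assoc, pow_succ' α, MulAut.mul_apply]
  let G : Subgroup (Module.End K V)ˣ :=
    { carrier := {u | ∃ g i, u = ue g * ux ^ i}
      one_mem' := ⟨1, 0, by simp⟩
      mul_mem' := by
        rintro _ _ ⟨g, i, rfl⟩ ⟨h, k, rfl⟩
        exact ⟨g * (α ^ i) h, i + k, by
          rw [map_mul, pow_add, mul_assoc, ← mul_assoc (ux ^ i), hconj, mul_assoc, mul_assoc]⟩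
      inv_mem' := by
        rintro _ ⟨g, i, rfl⟩
        refine ⟨(α ^ ((p ^ m - 1) * i)) g⁻¹, (p ^ m - 1) * i, ?_⟩
        rw [← hconj, inv_eq_iff_mul_eq_one, map_inv, mul_assoc, ← mul_assoc (ux ^ i), ← pow_add,
          show i + (p ^ m - 1) * i = p ^ m * i by
            rw [add_comm, ← Nat.succ_mul, Nat.succ_eq_add_one, Nat.sub_add_cancel hMpos],
          pow_mul, huxM, one_pow, one_mul, mul_inv_cancel] }
  have hxG : ux ∈ G := ⟨1, 1, by simp⟩
  have heG : ∀ g, ue g ∈ G := fun g => ⟨g, 0, by simp⟩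
  haveI : Finite G := by
    refine Finite.of_surjective
      (fun a : Q × Fin (p ^ m) => (⟨ue a.1 * ux ^ (a.2 : ℕ), a.1, a.2, rfl⟩ : G)) ?_
    rintro ⟨_, g, i, rfl⟩
    exact ⟨(g, ⟨i % p ^ m, Nat.mod_lt _ hMpos⟩), Subtype.ext (by
      show ue g * ux ^ (i % p ^ m) = ue g * ux ^ i
      rw [← pow_eq_pow_mod i huxM])⟩
  let e' : Q →* G := ue.codRestrict G heG
  let x' : G := ⟨ux, hxG⟩
  have he' : Function.Injective e' := fun a b h => hψ (by
    have := congrArg (fun u : G => ((u : (Module.End K V)ˣ) : Module.End K V)) h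
    exact this)
  have hconj' : ∀ (i : ℕ) g, x' ^ i * e' g = e' ((α ^ i) g) * x' ^ i := fun i g =>
    Subtype.ext (by
      rw [Subgroup.coe_mul, Subgroup.coe_mul, SubgroupClass.coe_pow]
      exact hconj i g)
  have hxM : x' ^ p ^ m = 1 := Subtype.ext (by rw [SubgroupClass.coe_pow]; exact huxM)
  have hxord : orderOf x' = p ^ m := by
    obtain ⟨m', rfl⟩ : ∃ m', m = m' + 1 := ⟨m - 1, (Nat.sub_add_cancel hm).symm⟩
    refine orderOf_eq_prime_pow (fun h => ?_) hxM
    obtain ⟨g, hg⟩ := hτ
    refine hg (he' ?_)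
    have h1 := hconj' (p ^ (m' + 1 - 1)) g
    rw [Nat.add_sub_cancel] at h1 ⊢
    rw [h, one_mul, mul_one] at h1
    exact h1.symm
  haveI hrn : e'.range.Normal := by
    refine ⟨?_⟩
    rintro _ ⟨g, rfl⟩ ⟨u, h, i, rfl⟩
    have hu : (⟨ue h * ux ^ i, h, i, rfl⟩ : G) = e' h * x' ^ i := Subtype.ext (by
      rw [Subgroup.coe_mul, SubgroupClass.coe_pow]; rfl)
    refine ⟨h * (α ^ i) g * h⁻¹, ?_⟩
    rw [hu, map_mul, map_mul, map_inv, mul_inv_rev, mul_assoc (e' h) (x' ^ i), hconj']
    group
  let ρG : Representation K G V := (Units.coeHom (Module.End K V)).comp G.subtype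
  have hfaith : Function.Injective ρG := fun a b h => Subtype.ext (Units.ext h)
  have hirrG : ∀ W : Submodule K V, (∀ g ∈ e'.range, ∀ w ∈ W, ρG g w ∈ W) → W = ⊥ ∨ W = ⊤ :=
    fun W h => hirr W fun g v hv => h (e' g) ⟨g, rfl⟩ v hv
  have hzp : IsPGroup p (Subgroup.zpowers x') := IsPGroup.of_card (by rw [Nat.card_zpowers, hxord])
  have hC : ∀ y ∈ Subgroup.zpowers x', y ≠ 1 →
      Subgroup.centralizer ({y} : Set G) = Subgroup.zpowers x' ⊔ Subgroup.center G := by
    intro y hy hy1
    apply le_antisymm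
    · intro g hg
      rw [Subgroup.mem_centralizer_singleton_iff] at hg
      obtain ⟨u, hu⟩ := g
      obtain ⟨h, i, rfl⟩ := hu
      have hu : (⟨ue h * ux ^ i, h, i, rfl⟩ : G) = e' h * x' ^ i := Subtype.ext (by
        rw [Subgroup.coe_mul, SubgroupClass.coe_pow]; rfl)
      rw [hu] at hg ⊢
      have hyc : Commute y (x' ^ i) := by
        obtain ⟨k, rfl⟩ := Subgroup.mem_zpowers_iff.1 hy
        exact ((Commute.refl x').zpow_left k).pow_right i
      have hcy : Commute (e' h) y := by
        have h1 : e' h * y * x' ^ i = y * e' h * x' ^ i := by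
          rw [mul_assoc, hyc.eq, ← mul_assoc, hg, mul_assoc]
        exact mul_right_cancel h1
      -- `x' ^ p ^ (m - 1)` is a power of `y`
      have hmem : x' ^ p ^ (m - 1) ∈ Subgroup.zpowers y := by
        have hy' : y ∈ Subgroup.zpowers x' := hy
        obtain ⟨k, rfl⟩ := (mem_powers_iff_mem_zpowers).2 hy'
        obtain ⟨l, hl, hgcd⟩ := (Nat.dvd_prime_pow hp.out).1 (Nat.gcd_dvd_right k (p ^ m))
        have hlm : l ≤ m - 1 := by
          rcases Nat.eq_or_lt_of_le hl with hlm | hlm
          · exfalso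
            apply hy1
            show x' ^ k = 1
            obtain ⟨c, hc⟩ : p ^ m ∣ k := by
              rw [← hlm, ← hgcd]
              exact Nat.gcd_dvd_left _ _
            rw [hc, pow_mul, hxM, one_pow]
          · omega
        have h2 : x' ^ (k.gcd (p ^ m)) ∈ Subgroup.zpowers (x' ^ k) := by
          rw [← zpow_natCast x' (k.gcd (p ^ m)), Nat.gcd_eq_gcd_ab, zpow_add, zpow_mul, zpow_mul, zpow_natCast,
            zpow_natCast, hxM, one_zpow, mul_one]
          exact Subgroup.zpow_mem _ (Subgroup.mem_zpowers _) _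
        obtain ⟨c, hc⟩ := pow_dvd_pow p hlm
        rw [hc, pow_mul, ← hgcd]
        exact Subgroup.pow_mem _ h2 c
      obtain ⟨k, hk⟩ := Subgroup.mem_zpowers_iff.1 hmem
      have hcx : Commute (e' h) (x' ^ p ^ (m - 1)) := hk ▸ hcy.zpow_right k
      have hhfix : (α ^ p ^ (m - 1)) h = h := by
        refine he' ?_
        have h1 := hconj' (p ^ (m - 1)) h
        rw [← hcx.eq] at h1
        exact (mul_right_cancel h1).symm
      have hhc := hfix h hhfix
      obtain ⟨c, hc⟩ := exists_eq_smul_one_of_commute (fun g => ψ g) hirr (ψ h) fun g => by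
        show ψ h * ψ g = ψ g * ψ h
        rw [← map_mul, ← map_mul, Subgroup.mem_center_iff.1 hhc g]
      have hcen : e' h ∈ Subgroup.center G := by
        rw [Subgroup.mem_center_iff]
        intro u'
        refine hfaith ?_
        rw [map_mul, map_mul, show ρG (e' h) = c • 1 from hc, mul_smul_comm, smul_mul_assoc, mul_one,
          one_mul]
      exact mul_mem (Subgroup.mem_sup_right hcen)
        (Subgroup.mem_sup_left (pow_mem (Subgroup.mem_zpowers x') i))
    · refine sup_le ?_ (Subgroup.center_le_centralizer _)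
      intro g hg
      rw [Subgroup.mem_centralizer_singleton_iff]
      obtain ⟨k, rfl⟩ := Subgroup.mem_zpowers_iff.1 hg
      obtain ⟨l, rfl⟩ := Subgroup.mem_zpowers_iff.1 hy
      exact ((Commute.refl x').zpow_zpow k l).eq
  have hQr : IsPGroup q e'.range := hQ.of_surjective e'.rangeRestrict e'.rangeRestrict_surjective
  have hr' : (ρG x' - 1) ^ r = 0 := hr
  have hex : ∃ s, (ρG x' - 1) ^ s = 0 := ⟨r, hr'⟩
  obtain ⟨hlow, hupp, heq⟩ := critical_case_finrank hpq hQr hzp hC ρG hfaith hirrG (Nat.find hex)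
    (Nat.find_spec hex) fun k hk => Nat.find_min hex hk
  have hsr : Nat.find hex ≤ r := Nat.find_le hr'
  rw [hxord] at hlow hupp heq
  by_cases hs : Nat.find hex = p ^ m - 1
  · right
    obtain ⟨⟨e, he⟩, hna, hdim⟩ := heq hs
    refine ⟨by omega, ⟨e, ?_, he⟩, fun hab => hna ?_, hdim⟩
    · by_contra he0
      obtain rfl : e = 0 := by omega
      rw [pow_zero] at he
      have hs1 := Nat.find_spec hex
      rw [hs, he, pow_one, sub_eq_zero] at hs1
      have : x' = 1 := hfaith (hs1.trans (map_one ρG).symm)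
      rw [this, orderOf_one] at hxord
      omega
    · refine ⟨⟨fun a c => ?_⟩⟩
      obtain ⟨_, g, rfl⟩ := a
      obtain ⟨_, g', rfl⟩ := c
      exact Subtype.ext (by
        show e' g * e' g' = e' g' * e' g
        rw [← map_mul, ← map_mul, mul_comm' g g'])
  · left
    omega

set_option maxHeartbeats 1000000 in
/-- Theorem B of Hall and Higman: a `p`-element of order `p ^ m` normalising a `q`-group which its
power of order `p` does not centralise has minimal polynomial of degree `p ^ m`, unless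
`p ^ n₀ - 1` is a power of `q` and the `q`-group is non-abelian. -/
theorem minimal_degree (hpq : p ≠ q) : ∀ (b : ℕ) {Q : Type w} [Group Q] [Finite Q] {V : Type v}
    [AddCommGroup V] [Module K V] [FiniteDimensional K V] {m : ℕ}, m + Nat.card Q ≤ b → 1 ≤ m →
    IsPGroup q Q → ∀ (α : MulAut Q) (ψ : Q →* Module.End K V), Function.Injective ψ →
    ∀ X : Module.End K V, X ^ p ^ m = 1 → (∀ g, X * ψ g = ψ (α g) * X) →
    (∃ g, (α ^ p ^ (m - 1)) g ≠ g) → ∀ r : ℕ, (X - 1) ^ r = 0 →
      p ^ m ≤ r ∨ ∃ n₀ e, 1 ≤ n₀ ∧ n₀ ≤ m ∧ 1 ≤ e ∧ p ^ n₀ - 1 = q ^ e ∧ ¬ IsMulCommutative Q ∧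
        p ^ (m - n₀) * (p ^ n₀ - 1) ≤ r := by
  intro b
  induction b with
  | zero => intro Q _ _ V _ _ _ m hc hm; omega
  | succ b ih =>
    intro Q _ _ V _ _ _ m hc hm hQ α ψ hψ X hX hα hτ r hr
    set τ := α ^ p ^ (m - 1) with hτdef
    have hαi : ∀ (i : ℕ) g, X ^ i * ψ g = ψ ((α ^ i) g) * X ^ i := by
      intro i
      induction i with
      | zero => intro g; simp
      | succ i ih' =>
        intro g
        rw [pow_succ' X, mul_assoc, ih', ← mul_assoc, hα, mul_assoc, pow_succ' α, MulAut.mul_apply]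
    have hαM : α ^ p ^ m = 1 := MulEquiv.ext fun g => hψ (by
      have h := hαi (p ^ m) g
      rw [hX, one_mul, mul_one] at h
      rw [MulAut.one_apply]
      exact h.symm)
    have hτp : τ ^ p = 1 := by rw [hτdef, ← pow_mul, ← pow_succ, Nat.sub_add_cancel hm, hαM]
    obtain ⟨eQ, heQ⟩ := IsPGroup.iff_card.1 hQ
    have hcop : p.Coprime (Nat.card Q) := by
      rw [heQ]
      exact ((Nat.coprime_primes hp.out hq.out).2 hpq).pow_right eQ
    have hQK : (Nat.card Q : K) ≠ 0 := by
      rw [Ne, CharP.cast_eq_zero_iff K p]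
      exact hp.out.coprime_iff_not_dvd.1 hcop
    by_cases hbad : ∃ L : Subgroup Q, L ≠ ⊤ ∧ (∀ x ∈ L, α x ∈ L) ∧ ∃ x ∈ L, τ x ≠ x
    · obtain ⟨L, hLt, hLi, x, hx, hxτ⟩ := hbad
      obtain ⟨αL, hαL⟩ := exists_restrict_aut α L hLi
      have hlt : Nat.card L < Nat.card Q :=
        lt_of_le_of_ne (Nat.le_of_dvd Nat.card_pos (Subgroup.card_subgroup_dvd_card L))
          (fun he => hLt (Subgroup.eq_top_of_card_eq L he))
      rcases ih (Q := L) (m := m) (by omega) hm (hQ.to_subgroup L) αL (ψ.comp L.subtype)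
          (hψ.comp L.subtype_injective) X hX
          (fun g => by
            have h := hαL 1 g
            rw [pow_one, pow_one] at h
            show X * ψ (g : Q) = ψ ((αL g : L) : Q) * X
            rw [h]
            exact hα _)
          ⟨⟨x, hx⟩, fun h => hxτ (by
            have := congrArg Subtype.val h
            rwa [hαL] at this)⟩ r hr with h | ⟨n₀, e, h1, h2, h3, h4, h5, h6⟩
      · exact Or.inl h
      · refine Or.inr ⟨n₀, e, h1, h2, h3, h4, fun hab => h5 ⟨⟨fun a c => ?_⟩⟩, h6⟩
        exact Subtype.ext (mul_comm' (a : Q) c)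
    push Not at hbad
    have hDi : ∀ y ∈ ShultGross.twist τ, α y ∈ ShultGross.twist τ := fun y hy =>
      ShultGross.twist_invariant α τ (fun z => by
        rw [← MulAut.mul_apply, ← MulAut.mul_apply, hτdef, ← pow_succ, ← pow_succ']) hy
    have htop : ShultGross.twist τ = ⊤ := by
      by_contra h
      obtain ⟨g, hg⟩ := hτ
      exact hg (ShultGross.eq_of_fixes_twist τ hτp hcop (hbad _ h hDi) g)
    have hψne : ∃ g, ψ g ≠ 1 := by
      obtain ⟨g, hg⟩ := hτ
      refine ⟨g⁻¹ * τ g, fun h => hg ?_⟩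
      have h1 : g⁻¹ * τ g = 1 := hψ (h.trans (map_one ψ).symm)
      exact (inv_mul_eq_one.1 h1).symm
    obtain ⟨j, U, hjm, hUne, hUinv, hUirr, hUnt, hUX, hdeg⟩ :=
      exists_constituent hQK α ψ X hX hα hψne
    have ha := hdeg r hr
    set a := r / p ^ j with had
    have har : p ^ j * a ≤ r := Nat.mul_div_le r (p ^ j)
    obtain ⟨u, hu, hu0⟩ := Submodule.exists_mem_ne_zero_of_ne_bot hUne
    rcases Nat.eq_or_lt_of_le hjm with hjeq | hjlt
    · left
      rcases Nat.eq_zero_or_pos a with ha0 | ha0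
      · exfalso
        have := ha u hu
        rw [ha0, pow_zero, Module.End.one_apply] at this
        exact hu0 this
      · rw [hjeq] at har
        exact le_trans (Nat.le_mul_of_pos_right _ ha0) har
    set ψU := restrictHom ψ U hUinv with hψU
    set XU := (X ^ p ^ j).restrict hUX with hXU
    have hXUpow : ∀ (i : ℕ) (v : U), ((XU ^ i) v : V) = (X ^ (p ^ j * i)) v := by
      intro i
      induction i with
      | zero => intro v; simp
      | succ i ih' =>
        intro v
        rw [pow_succ', Module.End.mul_apply, show p ^ j * (i + 1) = p ^ j + p ^ j * i by ring,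
          pow_add, Module.End.mul_apply, ← ih']
        rfl
    have hXU1 : XU ^ p ^ (m - j) = 1 := LinearMap.ext fun v => Subtype.ext (by
      rw [hXUpow, ← pow_add, Nat.add_sub_cancel' hjm, hX]
      rfl)
    have hXUa : (XU - 1) ^ a = 0 := by
      have h1 : ∀ (i : ℕ) (v : U), ((((XU - 1) ^ i) v : U) : V) = ((X ^ p ^ j - 1) ^ i) v := by
        intro i
        induction i with
        | zero => intro v; simp
        | succ i ih' =>
          intro v
          rw [pow_succ', Module.End.mul_apply, pow_succ' (X ^ p ^ j - 1), Module.End.mul_apply,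
            ← ih']
          rfl
      exact LinearMap.ext fun v => Subtype.ext ((h1 a v).trans (ha v v.2))
    have hαU : ∀ g, XU * ψU g = ψU ((α ^ p ^ j) g) * XU := fun g =>
      LinearMap.ext fun v => Subtype.ext (LinearMap.congr_fun (hαi (p ^ j) g) (v : V))
    -- `τ` does not centralise the image
    have hUτ : ∃ g, ψU (τ g) ≠ ψU g := by
      by_contra! h
      obtain ⟨g, v, hv, hgv⟩ := hUnt
      have hle : ShultGross.twist τ ≤ ψU.ker := by
        refine (Subgroup.closure_le _).2 ?_
        rintro _ ⟨y, rfl⟩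
        rw [SetLike.mem_coe, MonoidHom.mem_ker, map_mul, h, ← map_mul, inv_mul_cancel, map_one]
      rw [htop] at hle
      exact hgv (congrArg Subtype.val
        (LinearMap.congr_fun (MonoidHom.mem_ker.1 (hle (Subgroup.mem_top g))) ⟨v, hv⟩))
    have hexp : α ^ p ^ (m - 1) = (α ^ p ^ j) ^ p ^ (m - j - 1) := by
      rw [← pow_mul, ← pow_add]
      congr 2
      omega
    suffices hkey : p ^ (m - j) ≤ a ∨ ∃ n₀ e, 1 ≤ n₀ ∧ n₀ ≤ m - j ∧ 1 ≤ e ∧ p ^ n₀ - 1 = q ^ e ∧
        ¬ IsMulCommutative Q ∧ p ^ (m - j - n₀) * (p ^ n₀ - 1) ≤ a by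
      rcases hkey with h | ⟨n₀, e, h1, h2, h3, h4, h5, h6⟩
      · left
        calc p ^ m = p ^ j * p ^ (m - j) := by rw [← pow_add, Nat.add_sub_cancel' hjm]
          _ ≤ p ^ j * a := Nat.mul_le_mul_left _ h
          _ ≤ r := har
      · refine Or.inr ⟨n₀, e, h1, by omega, h3, h4, h5, ?_⟩
        calc p ^ (m - n₀) * (p ^ n₀ - 1) = p ^ j * (p ^ (m - j - n₀) * (p ^ n₀ - 1)) := by
              rw [← mul_assoc, ← pow_add]
              congr 2
              omega
          _ ≤ p ^ j * a := Nat.mul_le_mul_left _ h6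
          _ ≤ r := har
    by_cases hred : 0 < j ∨ ψU.ker ≠ ⊥
    · -- pass to the image
      set α' := α ^ p ^ j with hα'
      have hker : ∀ g ∈ ψU.ker, α' g ∈ ψU.ker := by
        intro g hg
        rw [MonoidHom.mem_ker] at hg ⊢
        have h1 := hαU g
        rw [hg, mul_one] at h1
        obtain ⟨M, hM⟩ : ∃ M, p ^ (m - j) = M + 1 :=
          ⟨p ^ (m - j) - 1, (Nat.sub_add_cancel (pow_pos hp.out.pos _)).symm⟩
        have h2 := congrArg (· * XU ^ M) h1
        simp only [mul_assoc, ← pow_succ', ← hM, hXU1, mul_one] at h2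
        exact h2.symm
      have hmap : ψU.ker.map (α' : Q →* Q) = ψU.ker :=
        Subgroup.eq_of_le_of_card_ge (by rintro _ ⟨x, hx, rfl⟩; exact hker x hx)
          (Subgroup.card_map_of_injective (f := (α' : Q →* Q)) α'.injective).ge
      let αb : MulAut (Q ⧸ ψU.ker) := QuotientGroup.congr ψU.ker ψU.ker α' hmap
      have hαb : ∀ (i : ℕ) (g : Q), (αb ^ i) (g : Q ⧸ ψU.ker) = (((α' ^ i) g : Q) : Q ⧸ ψU.ker) := by
        intro i
        induction i with
        | zero => simp
        | succ i ih' =>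
          intro g
          rw [pow_succ', MulAut.mul_apply, ih', pow_succ' α', MulAut.mul_apply]
          rfl
      have hsmall : (m - j) + Nat.card (Q ⧸ ψU.ker) ≤ b := by
        have h1 := Subgroup.card_eq_card_quotient_mul_card_subgroup ψU.ker
        have h3 : 0 < Nat.card (Q ⧸ ψU.ker) := Nat.card_pos
        rcases hred with h | h
        · have h2 : 0 < Nat.card ψU.ker := Nat.card_pos
          have : Nat.card (Q ⧸ ψU.ker) ≤ Nat.card Q := by
            rw [h1]; exact Nat.le_mul_of_pos_right _ h2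
          omega
        · have h2 : 1 < Nat.card ψU.ker := Subgroup.one_lt_card_iff_ne_bot _ |>.2 h
          have : Nat.card (Q ⧸ ψU.ker) < Nat.card Q := by
            rw [h1]; exact lt_mul_of_one_lt_right h3 h2
          omega
      let ψQ : Q ⧸ ψU.ker →* Module.End K U := QuotientGroup.lift ψU.ker ψU fun x hx => hx
      have hψQ : Function.Injective ψQ := by
        intro c d hcd
        induction c using QuotientGroup.induction_on with
        | H c =>
          induction d using QuotientGroup.induction_on with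
          | H d =>
            have h : ψU c = ψU d := hcd
            rw [QuotientGroup.eq, MonoidHom.mem_ker, map_mul, ← h, ← map_mul, inv_mul_cancel,
              map_one]
      rcases ih (Q := Q ⧸ ψU.ker) (V := U) (m := m - j) hsmall (by omega)
          (hQ.to_quotient ψU.ker) αb ψQ hψQ XU hXU1
          (fun g => by
            induction g using QuotientGroup.induction_on with
            | H g => exact hαU g)
          (by
            obtain ⟨g, hg⟩ := hUτ
            refine ⟨(g : Q ⧸ ψU.ker), fun h => hg ?_⟩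
            rw [hαb, ← hexp] at h
            exact congrArg ψQ h)
          a hXUa with h | ⟨n₀, e, h1, h2, h3, h4, h5, h6⟩
      · exact Or.inl h
      · refine Or.inr ⟨n₀, e, h1, h2, h3, h4, fun hab => h5 ⟨⟨fun c d => ?_⟩⟩, h6⟩
        induction c using QuotientGroup.induction_on with
        | H c =>
          induction d using QuotientGroup.induction_on with
          | H d => rw [← QuotientGroup.mk_mul, ← QuotientGroup.mk_mul, mul_comm' c d]
    · push Not at hred
      obtain ⟨hj0, hkerbot⟩ := hred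
      obtain rfl : j = 0 := by omega
      have hinj : Function.Injective ψU := (MonoidHom.ker_eq_bot_iff ψU).1 hkerbot
      haveI : Nontrivial U := Submodule.nontrivial_iff_ne_bot.2 hUne
      have hirr' : ∀ W : Submodule K U, (∀ g, ∀ v ∈ W, ψU g v ∈ W) → W = ⊥ ∨ W = ⊤ := by
        intro W hW
        rcases hUirr (W.map U.subtype) (Submodule.map_subtype_le _ _) (by
          rintro g _ ⟨v, hv, rfl⟩
          exact ⟨ψU g v, hW g v hv, rfl⟩) with h | h
        · exact Or.inl (Submodule.map_injective_of_injective U.injective_subtype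
            (h.trans (Submodule.map_bot _).symm))
        · exact Or.inr (Submodule.map_injective_of_injective U.injective_subtype
            (h.trans (Submodule.map_subtype_top U).symm))
      have hFi : ∀ x ∈ frattini Q, α x ∈ frattini Q := fun x hx => by
        rw [← Subgroup.characteristic_iff_map_eq.1
          (inferInstance : (frattini Q).Characteristic) α]
        exact ⟨x, hx, rfl⟩
      have hQnt : Nontrivial Q := by
        obtain ⟨g, hg⟩ := hψne
        exact ⟨g, 1, fun h => hg (by rw [h, map_one])⟩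
      have hFne : frattini Q ≠ ⊤ := fun h => bot_ne_top
        (frattini_nongenerating (G := Q) (K := ⊥) (by rw [bot_sup_eq, h]))
      have hα1 : α ^ p ^ 0 = α := by rw [pow_zero, pow_one]
      rcases degree_of_irreducible hpq hm hQ α ψU hinj hirr' XU
          (by simpa using hXU1) (fun g => by simpa [hα1] using hαU g) hτ
          (fun e he => fixed_mem_center hpq hQ τ hτp htop (hbad _ hFne hFi) he) a hXUa with
        h | ⟨h1, ⟨e, he1, he⟩, hna, -⟩
      · exact Or.inl (by simpa using h)
      · refine Or.inr ⟨m, e, hm, by omega, he1, he, hna, ?_⟩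
        rw [show m - 0 - m = 0 by omega, pow_zero, one_mul]
        exact h1

end CfsgLib.HallHigman
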