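import Mathlib
import Cfsg.Agent.HallHigman.TheoremB
import Cfsg.Agent.Coprime.ActionHom
import Cfsg.Agent.PLocal.PSolvable
import Cfsg.Agent.S3754

/-!
Theorem B of Hall and Higman for `p`-soluble linear groups.
-/

set_option autoImplicit false
set_option linter.style.haveILetI false

open Finset Module

namespace CfsgLib.HallHigman

universe u v w

/-- Theorem B of Hall and Higman: the degree of the minimal polynomial of a `p`-element. -/
theorem degree_bound {F : Type u} [Field F] {p : ℕ} [hp : Fact p.Prime] [CharP F p] {V : Type v}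
    [AddCommGroup V] [Module F V] [FiniteDimensional F V] [Nontrivial V] {H : Type w} [Group H]
    [Finite H] (ρ : H →* Module.End F V) (hρ : Function.Injective ρ)
    (hsol : Cfsg.IsPSolvable p H) (hOp : Cfsg.pCore p H = ⊥) (x : H) {n : ℕ}
    (hn : orderOf x = p ^ n) (r : ℕ) (hr : (ρ x - 1) ^ r = 0) :
    p ^ n ≤ r ∨ ∃ n₀ q e : ℕ, 1 ≤ n₀ ∧ n₀ ≤ n ∧ q.Prime ∧ 1 ≤ e ∧ p ^ n₀ - 1 = q ^ e ∧
      (∀ Q : Sylow q H, ¬ IsMulCommutative (Q : Subgroup H)) ∧
      p ^ (n - n₀) * (p ^ n₀ - 1) ≤ r := by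
  rcases Nat.eq_zero_or_pos n with rfl | hn1
  · left
    rw [pow_zero, Nat.one_le_iff_ne_zero]
    rintro rfl
    rw [pow_zero] at hr
    exact one_ne_zero hr
  set R := Cfsg.pPrimeCore p H with hRdef
  haveI hRn : R.Normal := Cfsg.pPrimeCore_normal p H
  set y := x ^ p ^ (n - 1) with hy
  have hyord : orderOf y = p := by
    rw [hy, orderOf_pow_of_dvd (pow_ne_zero _ hp.out.ne_zero) (hn ▸ pow_dvd_pow p (Nat.sub_le n 1)),
      hn, Nat.pow_div (Nat.sub_le n 1) hp.out.pos, Nat.sub_sub_self hn1, pow_one]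
  have hRc : (Nat.card R).Coprime p := CfsgLib.PLocal.coprime_card_pPrimeCore p H
  let φ : Subgroup.zpowers x →* MulAut R :=
    (MulAut.conjNormal : H →* MulAut R).comp (Subgroup.zpowers x).subtype
  have hAcop : (Nat.card (Subgroup.zpowers x)).Coprime (Nat.card R) := by
    rw [Nat.card_zpowers, hn]
    exact hRc.symm.pow_left n
  -- a prime for which `y` does not centralise the invariant Sylow subgroup
  obtain ⟨q, hq, T, hTi, t, ht, hyt⟩ : ∃ q, q.Prime ∧ ∃ T : Sylow q R,
      (∀ a, ∀ z ∈ (T : Subgroup R), φ a z ∈ (T : Subgroup R)) ∧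
        ∃ t ∈ (T : Subgroup R), y * (t : H) ≠ (t : H) * y := by
    by_contra! hcon
    have hS : (Subgroup.centralizer ({y} : Set H)).subgroupOf R = ⊤ := by
      refine Subgroup.eq_top_of_le_card _ (Nat.le_of_dvd Nat.card_pos ?_)
      refine (Nat.factorization_le_iff_dvd Nat.card_pos.ne' Nat.card_pos.ne').mp fun q => ?_
      by_cases hq : q.Prime
      · haveI := Fact.mk hq
        obtain ⟨T, hT⟩ := CfsgLib.Coprime.exists_invariant_sylow_hom φ hAcop
          (Or.inl inferInstance) q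
        refine (hq.pow_dvd_iff_le_factorization Nat.card_pos.ne').mp ?_
        rw [← T.card_eq_multiplicity]
        refine Subgroup.card_dvd_of_le fun z hz => ?_
        rw [Subgroup.mem_subgroupOf, Subgroup.mem_centralizer_singleton_iff]
        exact (hcon q hq T hT z hz).symm
      · simp [hq]
    have hyC : y ∈ Subgroup.centralizer (R : Set H) := by
      rw [Subgroup.mem_centralizer_iff]
      intro z hz
      have h1 : (⟨z, hz⟩ : R) ∈ (Subgroup.centralizer ({y} : Set H)).subgroupOf R :=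
        hS ▸ Subgroup.mem_top _
      exact Subgroup.mem_centralizer_singleton_iff.1 (Subgroup.mem_subgroupOf.1 h1)
    have hyR := Cfsg.Agent.S3754.centralizer_pPrimeCore_le hsol hOp hyC
    have h1 : orderOf y ∣ Nat.card R := R.orderOf_dvd_natCard hyR
    rw [hyord] at h1
    exact (hp.out.coprime_iff_not_dvd.1 hRc.symm) h1
  haveI := Fact.mk hq
  have hTp : IsPGroup q (T : Subgroup R) := T.isPGroup'
  have hpq : p ≠ q := by
    rintro rfl
    obtain ⟨e, he⟩ := IsPGroup.iff_card.1 hTp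
    rcases Nat.eq_zero_or_pos e with rfl | he0
    · have : Subsingleton (T : Subgroup R) := (Nat.card_eq_one_iff_unique.1 (by rw [he, pow_zero])).1
      have h0 : (⟨t, ht⟩ : (T : Subgroup R)) = 1 := Subsingleton.elim _ _
      have h1 : t = 1 := congrArg Subtype.val h0
      exact hyt (by rw [h1, Subgroup.coe_one, mul_one, one_mul])
    · have h1 : p ∣ Nat.card R :=
        ((dvd_pow_self p he0.ne').trans he.symm.dvd).trans (Subgroup.card_subgroup_dvd_card _)
      exact (hp.out.coprime_iff_not_dvd.1 hRc.symm) h1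
  obtain ⟨α, hα⟩ := exists_restrict_aut (φ ⟨x, Subgroup.mem_zpowers x⟩) (T : Subgroup R)
    (hTi _)
  have hαpow : ∀ (i : ℕ) (z : (T : Subgroup R)),
      (((α ^ i) z : (T : Subgroup R)) : H) = x ^ i * (z : H) * (x ^ i)⁻¹ := by
    intro i z
    rw [hα, ← map_pow]
    rfl
  let ι : (T : Subgroup R) →* H := R.subtype.comp (T : Subgroup R).subtype
  have hι : Function.Injective ι := R.subtype_injective.comp (T : Subgroup R).subtype_injective
  obtain ⟨d, Θ, hΘ⟩ := CfsgLib.ShultGross.exists_extend_scalars F V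
  haveI : CharP (AlgebraicClosure F) p :=
    charP_of_injective_algebraMap (algebraMap F (AlgebraicClosure F)).injective p
  let ψ : H →* Module.End (AlgebraicClosure F) (Fin d → AlgebraicClosure F) :=
    Θ.toMonoidHom.comp ρ
  have hψ : Function.Injective ψ := hΘ.comp hρ
  have hX : ψ x ^ p ^ n = 1 := by rw [← map_pow, ← hn, pow_orderOf_eq_one, map_one]
  have hr' : (ψ x - 1) ^ r = 0 := by
    show (Θ (ρ x) - 1) ^ r = 0
    rw [← map_one Θ, ← map_sub, ← map_pow, hr, map_zero]
  rcases minimal_degree (K := AlgebraicClosure F) hpq _ (Q := (T : Subgroup R))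
      (V := Fin d → AlgebraicClosure F) (m := n) le_rfl hn1 hTp α (ψ.comp ι) (hψ.comp hι) (ψ x) hX
      (fun g => by
        show ψ x * ψ (ι g) = ψ (ι (α g)) * ψ x
        have h := hαpow 1 g
        rw [pow_one, pow_one] at h
        rw [← map_mul, ← map_mul, show ι (α g) = x * (g : H) * x⁻¹ from h, inv_mul_cancel_right]
        rfl)
      ⟨⟨t, ht⟩, fun h => hyt (by
        have h1 := hαpow (p ^ (n - 1)) ⟨t, ht⟩
        rw [h, ← hy] at h1
        exact eq_mul_inv_iff_mul_eq.1 h1 |>.symm)⟩ r hr' with h | ⟨n₀, e, h1, h2, h3, h4, h5, h6⟩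
  · exact Or.inl h
  · refine Or.inr ⟨n₀, q, e, h1, h2, hq, h3, h4, fun Q hQ => h5 ?_, h6⟩
    obtain ⟨Q', hQ'⟩ := (hTp.of_surjective ι.rangeRestrict ι.rangeRestrict_surjective).exists_le_sylow
    refine ⟨⟨fun a c => hι ?_⟩⟩
    rw [map_mul, map_mul]
    have h7 := (Q'.equiv Q).injective
    let a' : Q' := ⟨ι a, hQ' ⟨a, rfl⟩⟩
    let c' : Q' := ⟨ι c, hQ' ⟨c, rfl⟩⟩
    have h8 : a' * c' = c' * a' := h7 (by rw [map_mul, map_mul]; exact mul_comm' _ _)
    exact congrArg Subtype.val h8

end CfsgLib.HallHigman
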