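import Mathlib
import Cfsg.Agent.HallHigman.TheoremBLinear
import Cfsg.Agent.ShultGross.Module
import Cfsg.Agent.PLength.Basic
import Cfsg.Agent.S4218

/-!
The module on the Frattini quotient of `O_p(G)` used to bound the `p`-length, and the bound for the
`p`-length in terms of the exponent when there is no exceptional configuration.
-/

set_option autoImplicit false
set_option linter.style.haveILetI false

open Finset Module
open scoped commutatorElement

namespace CfsgLib.HallHigman

universe u v w

/-- In characteristic `p` the sum of the first `p ^ e` powers of `x` is `(x - 1) ^ (p ^ e - 1)`. -/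
theorem geom_sum_eq_sub_one_pow {R : Type v} [Ring R] {p : ℕ} [hp : Fact p.Prime] [CharP R p]
    (x : R) (e : ℕ) : ∑ i ∈ range (p ^ e), x ^ i = (x - 1) ^ (p ^ e - 1) := by
  have hpol : (∑ i ∈ range (p ^ e), (Polynomial.X : Polynomial (ZMod p)) ^ i) =
      (Polynomial.X - 1) ^ (p ^ e - 1) := by
    have h0 : (Polynomial.X - 1 : Polynomial (ZMod p)) ≠ 0 := by
      rw [← Polynomial.C_1]; exact Polynomial.X_sub_C_ne_zero 1
    refine mul_right_cancel₀ h0 ?_
    rw [geom_sum_mul, ← pow_succ, Nat.sub_add_cancel (pow_pos hp.out.pos e),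
      sub_pow_char_pow, one_pow]
  have h := congrArg (Polynomial.eval₂ (ZMod.castHom dvd_rfl R) x) hpol
  rw [Polynomial.eval₂_finsetSum] at h
  have hev : ∀ (P : Polynomial (ZMod p)) (k : ℕ),
      Polynomial.eval₂ (ZMod.castHom dvd_rfl R) x (P ^ k) =
        Polynomial.eval₂ (ZMod.castHom dvd_rfl R) x P ^ k := fun P k =>
    map_pow (Polynomial.eval₂RingHom' (ZMod.castHom dvd_rfl R) x
      (fun a => by
        rw [← ZMod.natCast_zmod_val a, map_natCast]
        exact Nat.cast_commute _ _)) P k
  simpa [hev] using h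

/-- A bound on the exponent of the Sylow subgroups passes to quotients. -/
theorem exponent_quotient {G : Type u} [Group G] [Finite G] {p : ℕ} [Fact p.Prime] {e : ℕ}
    (hexp : ∀ P : Sylow p G, ∀ x ∈ (P : Subgroup G), x ^ p ^ e = 1) (N : Subgroup G) [N.Normal] :
    ∀ P : Sylow p (G ⧸ N), ∀ x ∈ (P : Subgroup (G ⧸ N)), x ^ p ^ e = 1 := by
  intro P x hx
  obtain ⟨P₀, rfl⟩ := Sylow.mapSurjective_surjective (QuotientGroup.mk'_surjective N) p P
  obtain ⟨y, hy, rfl⟩ := hx
  rw [← map_pow, hexp P₀ y hy, map_one]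

/-- Commutativity of the Sylow subgroups passes to quotients. -/
theorem comm_quotient {G : Type u} [Group G] [Finite G] {q : ℕ} [Fact q.Prime]
    (hab : ∀ Q : Sylow q G, IsMulCommutative (Q : Subgroup G)) (N : Subgroup G) [N.Normal] :
    ∀ Q : Sylow q (G ⧸ N), IsMulCommutative (Q : Subgroup (G ⧸ N)) := by
  intro Q
  obtain ⟨Q₀, rfl⟩ := Sylow.mapSurjective_surjective (QuotientGroup.mk'_surjective N) q Q
  refine ⟨⟨?_⟩⟩
  rintro ⟨_, a, ha, rfl⟩ ⟨_, b, hb, rfl⟩
  haveI := hab Q₀
  refine Subtype.ext ?_
  show QuotientGroup.mk' N a * QuotientGroup.mk' N b = QuotientGroup.mk' N b * QuotientGroup.mk' N a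
  rw [← map_mul, ← map_mul]
  exact congrArg (QuotientGroup.mk' N)
    (congrArg Subtype.val (mul_comm' (⟨a, ha⟩ : (Q₀ : Subgroup G)) ⟨b, hb⟩))

/-- The action on the Frattini quotient of `O_p(G)`, over an algebraically closed field. -/
theorem exists_frattini_module {G : Type u} [Group G] [Finite G] {p : ℕ} [hp : Fact p.Prime]
    (hG : Cfsg.IsPSolvable p G) (hO : Cfsg.pPrimeCore p G = ⊥) {e : ℕ}
    (hexp : ∀ P : Sylow p G, ∀ x ∈ (P : Subgroup G), x ^ p ^ e = 1) :
    ∃ (m : ℕ) (ψ : G ⧸ Cfsg.pCore p G →* Module.End (AlgebraicClosure (ZMod p))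
        (Fin m → AlgebraicClosure (ZMod p))), Function.Injective ψ ∧
      ∀ x : G ⧸ Cfsg.pCore p G, IsPGroup p (Subgroup.zpowers x) →
        (ψ x - 1) ^ (p ^ e - 1) = 0 := by
  set O := Cfsg.pCore p G with hOdef
  have hOp : IsPGroup p O := CfsgLib.PLocal.isPGroup_pCore p G
  set F := frattini O with hF
  haveI hFn : F.Normal := by rw [hF]; infer_instance
  have hQ'F : commutator O ≤ F := CfsgLib.Solvable.commutator_le_frattini hOp
  letI : CommGroup (O ⧸ F) := { (inferInstance : Group (O ⧸ F)) with
    mul_comm := fun a c => by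
      induction a using QuotientGroup.induction_on with
      | H a =>
        induction c using QuotientGroup.induction_on with
        | H c =>
          show ((a * c : O) : O ⧸ F) = ((c * a : O) : O ⧸ F)
          rw [QuotientGroup.eq,
            show (a * c)⁻¹ * (c * a) = ⁅c⁻¹, a⁻¹⁆ by rw [commutatorElement_def]; group]
          exact hQ'F (Subgroup.commutator_mem_commutator (Subgroup.mem_top _) (Subgroup.mem_top _)) }
  have hmapF : ∀ f : MulAut O, F.map (f : O →* O) = F := fun f =>
    Subgroup.characteristic_iff_map_eq.1 (inferInstance : (frattini O).Characteristic) f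
  let bar : MulAut O →* MulAut (O ⧸ F) :=
    { toFun := fun f => QuotientGroup.congr F F f (hmapF f)
      map_one' := by
        ext u
        induction u using QuotientGroup.induction_on
        simp
      map_mul' := fun f f' => by
        ext u
        induction u using QuotientGroup.induction_on
        simp [MulAut.mul_apply] }
  let c : G →* MulAut (O ⧸ F) := bar.comp MulAut.conjNormal
  have hc : ∀ g (u : O), c g (u : O ⧸ F) = ((MulAut.conjNormal g u : O) : O ⧸ F) := fun g u => rfl
  have hker : ∀ g, c g = 1 ↔ g ∈ O := by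
    intro g
    rw [← Cfsg.Agent.S4218.mem_pCore_iff hG hO g]
    constructor
    · intro h x hx
      have h1 : ((MulAut.conjNormal g ⟨x, hx⟩ : O) : O ⧸ F) = ((⟨x, hx⟩ : O) : O ⧸ F) := by
        rw [← hc, h, MulAut.one_apply]
      rw [eq_comm, QuotientGroup.eq] at h1
      exact ⟨_, hFn.conj_mem _ h1 ⟨x, hx⟩, by
        show x * (x⁻¹ * (g * x * g⁻¹)) * x⁻¹ = _
        rw [mul_inv_cancel_left]⟩
    · intro h
      refine MulEquiv.ext fun u => ?_
      induction u using QuotientGroup.induction_on with
      | H u =>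
        rw [hc, MulAut.one_apply, eq_comm, QuotientGroup.eq]
        obtain ⟨z, hz, hze⟩ := h u u.2
        have h2 := hFn.conj_mem z hz u⁻¹
        convert h2 using 1
        refine Subtype.ext ?_
        show (u : G)⁻¹ * (g * (u : G) * g⁻¹) = (u : G)⁻¹ * (O.subtype z) * (u : G)⁻¹⁻¹
        rw [hze]
        group
  obtain ⟨m, Φ, hΦ, hΦsum⟩ := CfsgLib.ShultGross.exists_operators (r := p) (O ⧸ F) fun u => by
    induction u using QuotientGroup.induction_on with
    | H u =>
      rw [← QuotientGroup.mk_pow, QuotientGroup.eq_one_iff]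
      exact CfsgLib.Solvable.pow_mem_frattini hOp u
  refine ⟨m, QuotientGroup.lift O (Φ.comp c) (fun g hg => by
    rw [MonoidHom.mem_ker, MonoidHom.comp_apply, (hker g).2 hg, map_one]), ?_, ?_⟩
  · intro a b h
    induction a using QuotientGroup.induction_on with
    | H a =>
      induction b using QuotientGroup.induction_on with
      | H b =>
        have h1 : c a = c b := hΦ h
        refine QuotientGroup.eq.2 ((hker _).1 ?_)
        rw [map_mul, map_inv, h1, inv_mul_cancel]
  · intro x hx
    induction x using QuotientGroup.induction_on with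
    | H g =>
      show (Φ (c g) - 1) ^ (p ^ e - 1) = 0
      have hm : m = 0 ∨ 0 < m := Nat.eq_zero_or_pos m
      rcases hm with rfl | hm
      · exact LinearMap.ext fun v => Subsingleton.elim _ _
      haveI : Nonempty (Fin m) := ⟨⟨0, hm⟩⟩
      haveI : CharP (Module.End (AlgebraicClosure (ZMod p)) (Fin m → AlgebraicClosure (ZMod p))) p :=
        charP_of_injective_algebraMap (algebraMap (AlgebraicClosure (ZMod p)) _).injective p
      rw [← geom_sum_eq_sub_one_pow]
      refine hΦsum (c g) (p ^ e) fun u => ?_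
      induction u using QuotientGroup.induction_on with
      | H u =>
        -- `u g` and `g` lie in a common Sylow subgroup
        set S := (Subgroup.zpowers (g : G ⧸ O)).comap (QuotientGroup.mk' O) with hS
        have hSp : IsPGroup p S := hx.comap_of_ker_isPGroup _ (by
          rw [QuotientGroup.ker_mk']; exact hOp)
        obtain ⟨P, hP⟩ := hSp.exists_le_sylow
        have hgS : g ∈ S := by
          rw [hS, Subgroup.mem_comap]
          exact Subgroup.mem_zpowers _
        have huS : (u : G) ∈ S := by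
          rw [hS, Subgroup.mem_comap]
          rw [QuotientGroup.mk'_apply, (QuotientGroup.eq_one_iff (u : G)).2 u.2]
          exact one_mem _
        have hk : ∀ k : ℕ, ∃ w : O, ((u : G) * g) ^ k = (w : G) * g ^ k ∧
            (w : O ⧸ F) = ∏ i ∈ range k, (c g ^ i) (u : O ⧸ F) := by
          intro k
          induction k with
          | zero => exact ⟨1, by simp, by simp⟩
          | succ k ih =>
            obtain ⟨w, hw, hwF⟩ := ih
            refine ⟨w * MulAut.conjNormal (g ^ k) u, ?_, ?_⟩
            · rw [pow_succ, hw, Subgroup.coe_mul, MulAut.conjNormal_apply, pow_succ g]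
              group
            · rw [QuotientGroup.mk_mul, hwF, Finset.prod_range_succ, ← hc, map_pow]
        obtain ⟨w, hw, hwF⟩ := hk (p ^ e)
        rw [hexp P _ (hP (mul_mem huS hgS)), hexp P _ (hP hgS), mul_one] at hw
        rw [← hwF, show w = 1 from Subtype.ext hw.symm, QuotientGroup.mk_one]

/-- Without exceptional primes the `p`-length is at most the exponent of a Sylow subgroup. -/
theorem pLengthLE_of_no_exception {p : ℕ} [hp : Fact p.Prime] : ∀ (b : ℕ) {G : Type u} [Group G]
    [Finite G], Nat.card G ≤ b → Cfsg.IsPSolvable p G → ∀ e : ℕ,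
    (∀ P : Sylow p G, ∀ x ∈ (P : Subgroup G), x ^ p ^ e = 1) →
    (∀ n₀ q k : ℕ, 1 ≤ n₀ → q.Prime → 1 ≤ k → p ^ n₀ - 1 = q ^ k →
      ∀ Q : Sylow q G, IsMulCommutative (Q : Subgroup G)) →
    Cfsg.PLengthLE p e G := by
  intro b
  induction b with
  | zero => intro G _ _ hc; exact absurd hc (Nat.not_le.2 Nat.card_pos)
  | succ b ih =>
    intro G _ _ hc hG e hexp hne
    have hlt : ∀ (N : Subgroup G) [N.Normal], N ≠ ⊥ → Nat.card (G ⧸ N) ≤ b := by
      intro N _ hN
      have h1 := Subgroup.card_eq_card_quotient_mul_card_subgroup N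
      have h2 : 1 < Nat.card N := (Subgroup.one_lt_card_iff_ne_bot _).2 hN
      have h3 : 0 < Nat.card (G ⧸ N) := Nat.card_pos
      nlinarith
    have hne' : ∀ (N : Subgroup G) [N.Normal], ∀ n₀ q k : ℕ, 1 ≤ n₀ → q.Prime → 1 ≤ k →
        p ^ n₀ - 1 = q ^ k → ∀ Q : Sylow q (G ⧸ N), IsMulCommutative (Q : Subgroup (G ⧸ N)) := by
      intro N _ n₀ q k h1 h2 h3 h4
      haveI := Fact.mk h2
      exact comm_quotient (hne n₀ q k h1 h2 h3 h4) N
    by_cases hO : Cfsg.pPrimeCore p G = ⊥
    swap
    · have h0 : Cfsg.PLengthLE p 0 (Cfsg.pPrimeCore p G) :=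
        CfsgLib.PLength.pLengthLE_zero_iff.2 (CfsgLib.PLocal.coprime_card_pPrimeCore p G)
      simpa using CfsgLib.PLength.pLengthLE_extension _ h0
        (ih (hlt _ hO) (CfsgLib.PLocal.isPSolvable_quotient hG _) e (exponent_quotient hexp _)
          (hne' _))
    rcases e with _ | e
    · rw [CfsgLib.PLength.pLengthLE_zero_iff, Nat.coprime_comm, hp.out.coprime_iff_not_dvd]
      intro hdvd
      obtain ⟨x, hx⟩ := exists_prime_orderOf_dvd_card' p hdvd
      obtain ⟨P, hP⟩ := (IsPGroup.of_card (n := 1) (show Nat.card (Subgroup.zpowers x) = p ^ 1 by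
        rw [Nat.card_zpowers, hx, pow_one])).exists_le_sylow
      have := hexp P x (hP (Subgroup.mem_zpowers x))
      rw [pow_zero, pow_one] at this
      rw [this, orderOf_one] at hx
      exact hp.out.ne_one hx.symm
    rcases subsingleton_or_nontrivial G with hs | hs
    · refine CfsgLib.PLength.pLengthLE_mono (Nat.zero_le _) ?_
      rw [CfsgLib.PLength.pLengthLE_zero_iff, Nat.card_eq_one_iff_unique.2 ⟨hs, inferInstance⟩]
      exact Nat.coprime_one_left p
    have hOne : Cfsg.pCore p G ≠ ⊥ := by
      rcases CfsgLib.PLocal.pCore_ne_bot_or_of_isPSolvable hG with h | h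
      · exact h
      · exact absurd hO h
    set H := G ⧸ Cfsg.pCore p G with hH
    have hHs : Cfsg.IsPSolvable p H := CfsgLib.PLocal.isPSolvable_quotient hG _
    have hH0 : Cfsg.pCore p H = ⊥ := CfsgLib.PLocal.pCore_quotient_pCore_eq_bot p G
    obtain ⟨m, ψ, hψ, hrel⟩ := exists_frattini_module hG hO hexp
    have hexpH : ∀ P : Sylow p H, ∀ x ∈ (P : Subgroup H), x ^ p ^ e = 1 := by
      intro P x hx
      have hxe := exponent_quotient hexp _ P x hx
      obtain ⟨n, hn, hord⟩ := (Nat.dvd_prime_pow hp.out).1 (orderOf_dvd_of_pow_eq_one hxe)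
      rcases Nat.lt_or_eq_of_le hn with hn' | hn'
      · rw [← orderOf_dvd_iff_pow_eq_one, hord]
        exact pow_dvd_pow p (by omega)
      exfalso
      rw [hn'] at hord
      have hx1 : x ≠ 1 := by
        rintro rfl
        rw [orderOf_one] at hord
        exact (Nat.one_lt_pow (Nat.succ_ne_zero e) hp.out.one_lt).ne hord
      haveI : Nontrivial (Fin m → AlgebraicClosure (ZMod p)) := by
        by_contra h
        rw [not_nontrivial_iff_subsingleton] at h
        exact hx1 (hψ (LinearMap.ext fun v => Subsingleton.elim _ _))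
      rcases degree_bound ψ hψ hHs hH0 x hord (p ^ (e + 1) - 1)
          (hrel x (P.isPGroup'.to_le (Subgroup.zpowers_le.2 hx))) with h |
        ⟨n₀, q, k, h1, -, hq, h3, h4, h5, -⟩
      · have := pow_pos hp.out.pos (e + 1)
        omega
      · haveI := Fact.mk hq
        obtain ⟨Q⟩ : Nonempty (Sylow q H) := inferInstance
        exact h5 Q (hne' _ n₀ q k h1 hq h3 h4 Q)
    have h1 := CfsgLib.PLength.pLengthLE_one_of_isPGroup (p := p)
      (CfsgLib.PLocal.isPGroup_pCore p G)
    have h2 := ih (hlt _ hOne) hHs e hexpH (hne' _)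
    exact CfsgLib.PLength.pLengthLE_mono (by omega)
      (CfsgLib.PLength.pLengthLE_extension (Cfsg.pCore p G) h1 h2)

end CfsgLib.HallHigman
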