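import Mathlib
import Cfsg.Agent.ShultGross.Base
import Cfsg.Agent.ShultGross.Height
import Cfsg.Agent.S0126
import Cfsg.Agent.S0636

/-!
For a Fermat prime `p`, automorphisms of an elementary abelian `2`-group lying in a common
`p`-group and moving little commute.
-/

set_option autoImplicit false
set_option linter.style.haveILetI false

open Finset
open scoped commutatorElement

namespace CfsgLib.HallHigman

universe u v w

/-- The order of `2` modulo `2 ^ k + 1` is `2 * k`. -/
theorem two_mul_le_of_dvd_two_pow_sub_one {k c : ℕ} (hk : 1 ≤ k) (hc : 1 ≤ c)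
    (h : 2 ^ k + 1 ∣ 2 ^ c - 1) : 2 * k ≤ c := by
  by_contra hlt
  have hc1 : 1 ≤ 2 ^ c := Nat.one_le_two_pow
  rcases Nat.lt_or_ge k c with hkc | hkc
  · have hpos : 1 ≤ 2 ^ (c - k) := Nat.one_le_two_pow
    have h1 : 2 ^ c - 1 + (2 ^ (c - k) + 1) = 2 ^ (c - k) * (2 ^ k + 1) := by
      rw [mul_add, mul_one, ← pow_add, Nat.sub_add_cancel hkc.le]
      omega
    have h2 : 2 ^ k + 1 ∣ 2 ^ (c - k) + 1 :=
      (Nat.dvd_add_right h).1 (h1 ▸ Dvd.intro_left _ rfl)
    have h3 : 2 ^ (c - k) < 2 ^ k := Nat.pow_lt_pow_right (by norm_num) (by omega)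
    have h4 := Nat.le_of_dvd (by omega) h2
    omega
  · have h3 : 2 ^ c ≤ 2 ^ k := Nat.pow_le_pow_right two_pos hkc
    have h5 : 2 ≤ 2 ^ c := Nat.le_self_pow (by omega) 2
    have h4 := Nat.le_of_dvd (by omega) h
    omega

/-- The fixed points of an automorphism. -/
def fixSubgroup {W : Type w} [Group W] (f : MulAut W) : Subgroup W where
  carrier := {x | f x = x}
  one_mem' := map_one f
  mul_mem' := fun {a b} (ha : f a = a) (hb : f b = b) => by
    show f (a * b) = a * b
    rw [map_mul, ha, hb]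
  inv_mem' := fun {a} (ha : f a = a) => by
    show f a⁻¹ = a⁻¹
    rw [map_inv, ha]

theorem mem_fixSubgroup {W : Type w} [Group W] {f : MulAut W} {x : W} :
    x ∈ fixSubgroup f ↔ f x = x := Iff.rfl

theorem two_mul_eq {W : Type w} [CommGroup W] (h2 : ∀ x : W, x * x = 1) {x y : W} :
    x * y = 1 ↔ x = y := by
  constructor
  · intro h
    calc x = x * (y * y) := by rw [h2, mul_one]
      _ = y := by rw [← mul_assoc, h, one_mul]
  · rintro rfl
    exact h2 x

/-- An automorphism of order `p` without fixed points forces at least `(p - 1) ^ 2` elements. -/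
theorem card_ge_of_fpf {W : Type w} [CommGroup W] [Finite W] [Nontrivial W]
    (h2 : ∀ x : W, x * x = 1) {p k : ℕ} [hp : Fact p.Prime] (hk : 1 ≤ k) (hpk : p = 2 ^ k + 1)
    (ζ : MulAut W) (hζ : ζ ^ p = 1) (hfpf : ∀ x, ζ x = x → x = 1) :
    (p - 1) ^ 2 ≤ Nat.card W := by
  haveI := Fact.mk Nat.prime_two
  have hW : IsPGroup 2 W := fun x => ⟨1, by rw [pow_one, pow_two, h2]⟩
  obtain ⟨c, hc⟩ := IsPGroup.iff_card.1 hW
  have hc1 : 1 ≤ c := by
    rcases Nat.eq_zero_or_pos c with rfl | h
    · rw [pow_zero] at hc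
      exact absurd hc (Finite.one_lt_card (α := W)).ne'
    · exact h
  letI : MulAction (Subgroup.zpowers ζ) W := MulAction.compHom W (Subgroup.zpowers ζ).subtype
  have hord : orderOf ζ ∣ p := orderOf_dvd_of_pow_eq_one hζ
  have hP : IsPGroup p (Subgroup.zpowers ζ) := by
    obtain ⟨j, -, hj⟩ := (Nat.dvd_prime_pow hp.out).1 (show orderOf ζ ∣ p ^ 1 by rwa [pow_one])
    exact IsPGroup.of_card (n := j) (by rw [Nat.card_zpowers, hj])
  have h1 := hP.card_modEq_card_fixedPoints W
  have hfix : MulAction.fixedPoints (Subgroup.zpowers ζ) W = {1} := by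
    ext x
    constructor
    · intro hx
      exact hfpf x (hx ⟨ζ, Subgroup.mem_zpowers ζ⟩)
    · rintro rfl g
      exact map_one (g : MulAut W)
  rw [hfix, Nat.card_eq_fintype_card (α := ({1} : Set W)), Fintype.card_unique, hc] at h1
  have h3 : p ∣ 2 ^ c - 1 := (Nat.modEq_iff_dvd' Nat.one_le_two_pow).1 h1.symm
  have h4 := two_mul_le_of_dvd_two_pow_sub_one hk hc1 (hpk ▸ h3)
  rw [hc, hpk, Nat.add_sub_cancel, ← pow_mul]
  exact Nat.pow_le_pow_right two_pos (by omega)

theorem pow_apply_eq {W : Type w} [Group W] {f : MulAut W} {x : W} (hx : f x = x) (m : ℕ) :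
    (f ^ m) x = x := by
  induction m with
  | zero => simp
  | succ m ih => rw [pow_succ, MulAut.mul_apply, hx, ih]

section Pieces

variable {W : Type w} [CommGroup W]

/-- The product of the first `p` powers of `f` applied to `x`. -/
def orbitProd (p : ℕ) (f : MulAut W) : W →* W where
  toFun x := ∏ j ∈ range p, (f ^ j) x
  map_one' := by simp
  map_mul' x y := by simp [Finset.prod_mul_distrib]

theorem apply_orbitProd {p : ℕ} (hp : 0 < p) (f : MulAut W) (hf : f ^ p = 1) (x : W) :
    f (orbitProd p f x) = orbitProd p f x := by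
  show f (∏ j ∈ range p, (f ^ j) x) = ∏ j ∈ range p, (f ^ j) x
  obtain ⟨p', rfl⟩ : ∃ p', p = p' + 1 := ⟨p - 1, by omega⟩
  rw [map_prod]
  conv_lhs => rw [Finset.prod_range_succ]
  conv_rhs => rw [Finset.prod_range_succ']
  congr 1
  · exact Finset.prod_congr rfl fun j _ => by rw [← MulAut.mul_apply, ← pow_succ']
  · rw [← MulAut.mul_apply, ← pow_succ', hf, pow_zero]

theorem orbitProd_of_fixed {p : ℕ} (h2 : ∀ x : W, x * x = 1) (hodd : Odd p) (f : MulAut W) {x : W}
    (hx : f x = x) : orbitProd p f x = x := by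
  have h : ∀ j : ℕ, (f ^ j) x = x := by
    intro j
    induction j with
    | zero => simp
    | succ j ih => rw [pow_succ, MulAut.mul_apply, hx, ih]
  show ∏ j ∈ range p, (f ^ j) x = x
  rw [Finset.prod_congr rfl fun j _ => h j, Finset.prod_const, card_range]
  obtain ⟨l, rfl⟩ := hodd
  rw [pow_succ, pow_mul, pow_two, h2, one_pow, one_mul]

theorem orbitProd_commute {p : ℕ} (f g g' : MulAut W) (h : g * f = g' * g) (x : W) :
    g (orbitProd p f x) = orbitProd p g' (g x) := by
  show g (∏ j ∈ range p, (f ^ j) x) = ∏ j ∈ range p, (g' ^ j) (g x)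
  rw [map_prod]
  have hj : ∀ j : ℕ, g * f ^ j = g' ^ j * g := by
    intro j
    induction j with
    | zero => simp
    | succ j ih => rw [pow_succ, ← mul_assoc, ih, mul_assoc, h, ← mul_assoc, ← pow_succ]
  refine Finset.prod_congr rfl fun j _ => ?_
  rw [← MulAut.mul_apply, hj, MulAut.mul_apply]

variable {p : ℕ} [hp : Fact p.Prime] (h2 : ∀ x : W, x * x = 1) (hodd : Odd p) {a ζ : MulAut W}
  (hac : Commute ζ a) (ha : a ^ p = 1) (hζ : ζ ^ p = 1) (hfpf : ∀ x, ζ x = x → x = 1)

include hp hac ha hζ in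
theorem mul_pow_eq_one' (i : ℕ) : (ζ ^ i * a) ^ p = 1 := by
  rw [(hac.pow_left i).mul_pow, ha, mul_one, ← pow_mul, mul_comm, pow_mul, hζ, one_pow]

include h2 hp hac ha hζ hfpf hodd in
theorem prod_orbitProd (x : W) : ∏ i ∈ range p, orbitProd p (ζ ^ i * a) x = x := by
  show ∏ i ∈ range p, ∏ j ∈ range p, ((ζ ^ i * a) ^ j) x = x
  rw [Finset.prod_comm]
  have hterm : ∀ j ∈ range p, ∏ i ∈ range p, ((ζ ^ i * a) ^ j) x =
      if j = 0 then x else 1 := by
    intro j hj
    rw [Finset.mem_range] at hj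
    have he : ∀ i, ((ζ ^ i * a) ^ j) x = ((ζ ^ j) ^ i) ((a ^ j) x) := fun i => by
      rw [(hac.pow_left i).mul_pow, ← pow_mul, ← pow_mul, mul_comm i, MulAut.mul_apply]
    rw [Finset.prod_congr rfl fun i _ => he i]
    by_cases hj0 : j = 0
    · subst hj0
      rw [if_pos rfl, Finset.prod_congr rfl fun i _ => show ((ζ ^ 0) ^ i) ((a ^ 0) x) = x by simp,
        Finset.prod_const, card_range]
      obtain ⟨l, rfl⟩ := hodd
      rw [pow_succ, pow_mul, pow_two, h2, one_pow, one_mul]
    · rw [if_neg hj0]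
      have hζj : (ζ ^ j) ^ p = 1 := by rw [← pow_mul, mul_comm, pow_mul, hζ, one_pow]
      have hfix := apply_orbitProd hp.out.pos (ζ ^ j) hζj ((a ^ j) x)
      obtain ⟨m, hm⟩ := exists_pow_eq_self_of_coprime (x := ζ) (n := j)
        ((Nat.coprime_comm.1 ((hp.out.coprime_iff_not_dvd).2
          (fun h => hj0 (Nat.eq_zero_of_dvd_of_lt h hj)))).coprime_dvd_right
            (orderOf_dvd_of_pow_eq_one hζ))
      exact hfpf _ ((congrArg (fun f : MulAut W => f _) hm).symm.trans (pow_apply_eq hfix m))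
  rw [Finset.prod_congr rfl hterm, Finset.prod_ite_eq' (range p) 0 (fun _ => x),
    if_pos (Finset.mem_range.2 hp.out.pos)]

include h2 hp hac ha hζ hfpf hodd in
theorem card_eq_prod [Finite W] :
    Nat.card W = ∏ i : Fin p, Nat.card (fixSubgroup (ζ ^ (i : ℕ) * a)) := by
  rw [← Nat.card_pi]
  refine Nat.card_eq_of_bijective
    (fun x i => ⟨orbitProd p (ζ ^ (i : ℕ) * a) x,
      apply_orbitProd hp.out.pos _ (mul_pow_eq_one' hac ha hζ _) x⟩) ⟨fun x y h => ?_, fun c => ?_⟩
  · rw [← prod_orbitProd h2 hodd hac ha hζ hfpf x, ← prod_orbitProd h2 hodd hac ha hζ hfpf y]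
    exact Finset.prod_congr rfl fun i hi =>
      congrArg Subtype.val (congrFun h ⟨i, Finset.mem_range.1 hi⟩)
  · refine ⟨∏ i, (c i : W), funext fun k => Subtype.ext ?_⟩
    show orbitProd p (ζ ^ (k : ℕ) * a) (∏ i, (c i : W)) = c k
    rw [map_prod, Finset.prod_eq_single k]
    · exact orbitProd_of_fixed h2 hodd _ (c k).2
    · intro i _ hik
      have h1 := prod_orbitProd h2 hodd hac ha hζ hfpf (c i : W)
      -- the components of a fixed vector
      have hci : (ζ ^ (i : ℕ) * a) (c i : W) = (c i : W) := (c i).2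
      have hk : ∀ j : ℕ, ((ζ ^ (k : ℕ) * a) ^ j) (c i : W) =
          ((ζ ^ ((k : ℕ) + (p - (i : ℕ)))) ^ j) (c i : W) := by
        intro j
        induction j with
        | zero => simp
        | succ j ih =>
          have hcz : Commute (ζ ^ ((k : ℕ) + (p - (i : ℕ)))) (ζ ^ (k : ℕ) * a) :=
            ((Commute.refl ζ).pow_pow _ _).mul_right (hac.pow_left _)
          have hb : (ζ ^ (k : ℕ) * a) (c i : W) =
              (ζ ^ ((k : ℕ) + (p - (i : ℕ)))) (c i : W) := by
            conv_rhs => rw [← hci]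
            rw [← MulAut.mul_apply _ (ζ ^ ((k : ℕ) + (p - (i : ℕ)))), ← mul_assoc, ← pow_add,
              show (k : ℕ) + (p - (i : ℕ)) + (i : ℕ) = (k : ℕ) + p by omega, pow_add, hζ, mul_one]
          rw [pow_succ', MulAut.mul_apply, ih, ← MulAut.mul_apply, ← (hcz.pow_left j).eq,
            MulAut.mul_apply, hb, pow_succ, MulAut.mul_apply]
      show ∏ j ∈ range p, ((ζ ^ (k : ℕ) * a) ^ j) (c i : W) = 1
      rw [Finset.prod_congr rfl fun j _ => hk j]
      have hfix := apply_orbitProd hp.out.pos (ζ ^ ((k : ℕ) + (p - (i : ℕ))))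
        (by rw [← pow_mul, mul_comm, pow_mul, hζ, one_pow]) (c i : W)
      have hnd : ¬ p ∣ (k : ℕ) + (p - (i : ℕ)) := by
        intro hd
        apply hik
        have hk' := k.2
        have hi' := i.2
        obtain ⟨t, ht⟩ := hd
        have : t = 1 := by
          rcases t with _ | _ | t
          · omega
          · rfl
          · exfalso
            have : p * (t + 1 + 1) = p * t + 2 * p := by ring
            omega
        subst this
        exact Fin.ext (by omega)
      obtain ⟨m, hm⟩ := exists_pow_eq_self_of_coprime (x := ζ) (n := (k : ℕ) + (p - (i : ℕ)))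
        ((Nat.coprime_comm.1 ((hp.out.coprime_iff_not_dvd).2 hnd)).coprime_dvd_right
          (orderOf_dvd_of_pow_eq_one hζ))
      exact hfpf _ ((congrArg (fun f : MulAut W => f _) hm).symm.trans (pow_apply_eq hfix m))
    · simp

include h2 hp hac ha hζ hfpf hodd in
/-- An automorphism twisting `a` by a non-trivial power of `ζ` permutes the eigenspaces. -/
theorem card_eigen_of_twist [Finite W] {g : MulAut W} {s : ℕ} (hs : ¬ p ∣ s)
    (hga : g * a = ζ ^ s * a * g) (hgζ : Commute g ζ) :
    Nat.card W = Nat.card (fixSubgroup a) ^ p ∧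
      Nat.card (fixSubgroup g) ≤ Nat.card (fixSubgroup a) := by
  have hgi : ∀ i : ℕ, g * (ζ ^ i * a) = (ζ ^ (i + s) * a) * g := fun i => by
    rw [← mul_assoc, (hgζ.pow_right i).eq, mul_assoc, hga, pow_add]
    simp only [mul_assoc]
  have hgm : ∀ m i : ℕ, g ^ m * (ζ ^ i * a) = (ζ ^ (i + m * s) * a) * g ^ m := by
    intro m
    induction m with
    | zero => intro i; simp
    | succ m ih =>
      intro i
      rw [pow_succ', mul_assoc, ih, ← mul_assoc, hgi, mul_assoc,
        show i + (m + 1) * s = i + m * s + s by ring]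
  -- every residue is a multiple of `s`
  have hmul : ∀ i : ℕ, ∃ m : ℕ, ζ ^ (m * s) = ζ ^ i := by
    intro i
    obtain ⟨b, hb⟩ := exists_pow_eq_self_of_coprime (x := ζ) (n := s)
      ((Nat.coprime_comm.1 ((hp.out.coprime_iff_not_dvd).2 hs)).coprime_dvd_right
        (orderOf_dvd_of_pow_eq_one hζ))
    exact ⟨b * i, by rw [mul_comm, ← mul_assoc, pow_mul, pow_mul, hb]⟩
  refine ⟨?_, ?_⟩
  · rw [card_eq_prod h2 hodd hac ha hζ hfpf, Finset.prod_eq_pow_card (b := Nat.card (fixSubgroup a))]
    · simp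
    · intro i _
      obtain ⟨m, hm⟩ := hmul i
      have hkey : g ^ m * a = (ζ ^ (i : ℕ) * a) * g ^ m := by
        have h := hgm m 0
        rw [pow_zero, one_mul, zero_add, hm] at h
        exact h
      refine (Nat.card_eq_of_bijective
        (fun x : fixSubgroup a => (⟨(g ^ m) x, by
          show (ζ ^ (i : ℕ) * a) ((g ^ m) x) = (g ^ m) x
          rw [← MulAut.mul_apply, ← hkey, MulAut.mul_apply, show a (x : W) = x from x.2]⟩ :
            fixSubgroup (ζ ^ (i : ℕ) * a))) ⟨fun x y h => ?_, fun y => ?_⟩).symm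
      · exact Subtype.ext ((g ^ m).injective (congrArg Subtype.val h))
      · refine ⟨⟨(g ^ m).symm y, ?_⟩, Subtype.ext ((g ^ m).apply_symm_apply _)⟩
        show a ((g ^ m).symm y) = (g ^ m).symm y
        apply (g ^ m).injective
        rw [MulEquiv.apply_symm_apply, ← MulAut.mul_apply, hkey, MulAut.mul_apply,
          MulEquiv.apply_symm_apply]
        exact y.2
  · refine Nat.card_le_card_of_injective
      (fun x : fixSubgroup g => (⟨orbitProd p a x, apply_orbitProd hp.out.pos a ha x⟩ :
        fixSubgroup a)) fun x y h => ?_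
    have h' : orbitProd p a (x : W) = orbitProd p a (y : W) := congrArg Subtype.val h
    refine Subtype.ext ?_
    rw [← prod_orbitProd h2 hodd hac ha hζ hfpf (x : W),
      ← prod_orbitProd h2 hodd hac ha hζ hfpf (y : W)]
    refine Finset.prod_congr rfl fun i _ => ?_
    obtain ⟨m, hm⟩ := hmul i
    have hkey : g ^ m * a = (ζ ^ i * a) * g ^ m := by
      have h := hgm m 0
      rw [pow_zero, one_mul, zero_add, hm] at h
      exact h
    have hfx : ∀ z : fixSubgroup g, (g ^ m) (z : W) = z := by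
      intro z
      clear hm hkey
      induction m with
      | zero => simp
      | succ m ih => rw [pow_succ, MulAut.mul_apply, show g (z : W) = z from z.2, ih]
    have h1 := congrArg (g ^ m) h'
    rwa [orbitProd_commute a (g ^ m) (ζ ^ i * a) hkey, hfx,
      orbitProd_commute a (g ^ m) (ζ ^ i * a) hkey, hfx] at h1

end Pieces

/-- An automorphism moves little: the index of its fixed points is at most `(p - 1) ^ 2`, or
`p = 3`, the index is at most `64` and it is a cube in the group. -/
def IsSmallMove {R : Type v} [Group R] {W : Type w} [Group W] (p : ℕ) (ρ : R →* MulAut W)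
    (y : R) : Prop :=
  Nat.card W ≤ (p - 1) ^ 2 * Nat.card (fixSubgroup (ρ y)) ∨
    (p = 3 ∧ Nat.card W ≤ 64 * Nat.card (fixSubgroup (ρ y)) ∧ ∃ x : R, x ^ 3 = y)

theorem card_le_of_restrict {W : Type w} [Group W] [Finite W] (f : MulAut W) (L : Subgroup W)
    (f' : MulAut L) (hf' : ∀ x : L, (f' x : W) = f x) {c : ℕ}
    (h : Nat.card W ≤ c * Nat.card (fixSubgroup f)) :
    Nat.card L ≤ c * Nat.card (fixSubgroup f') := by
  have h1 : Nat.card (fixSubgroup f') = Nat.card ((fixSubgroup f).subgroupOf L) := by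
    refine Nat.card_congr (Equiv.subtypeEquivRight fun x => ?_)
    rw [mem_fixSubgroup, Subgroup.mem_subgroupOf, mem_fixSubgroup, Subtype.ext_iff, hf']
  have h3 := Subgroup.card_mul_index (fixSubgroup f)
  have h4 := Subgroup.card_mul_index ((fixSubgroup f).subgroupOf L)
  have h5 : ((fixSubgroup f).subgroupOf L).index ≤ (fixSubgroup f).index :=
    ((fixSubgroup f).relIndex_le_of_le_right le_top (by
      rw [Subgroup.relIndex_top_right]; exact Subgroup.index_ne_zero_of_finite)).trans_eq
      (Subgroup.relIndex_top_right _)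
  have h6 : (fixSubgroup f).index ≤ c := by
    rw [← h3, mul_comm c] at h
    exact Nat.le_of_mul_le_mul_left h Nat.card_pos
  rw [h1, ← h4, mul_comm c]
  exact Nat.mul_le_mul_left _ (h5.trans h6)

/-- The action on an invariant subgroup. -/
def restrictAct {R : Type v} [Group R] {W : Type w} [Group W] (ρ : R →* MulAut W) (L : Subgroup W)
    (hL : ∀ g, ∀ x ∈ L, ρ g x ∈ L) : R →* MulAut L where
  toFun g :=
    { toFun := fun x => ⟨ρ g x, hL g x x.2⟩
      invFun := fun x => ⟨ρ g⁻¹ x, hL g⁻¹ x x.2⟩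
      left_inv := fun x => Subtype.ext (by simp)
      right_inv := fun x => Subtype.ext (by simp)
      map_mul' := fun x y => Subtype.ext (map_mul _ _ _) }
  map_one' := by ext x; simp
  map_mul' g h := by ext x; simp [MulAut.mul_apply]

theorem coe_restrictAct {R : Type v} [Group R] {W : Type w} [Group W] (ρ : R →* MulAut W)
    (L : Subgroup W) (hL : ∀ g, ∀ x ∈ L, ρ g x ∈ L) (g : R) (x : L) :
    (restrictAct ρ L hL g x : W) = ρ g x := rfl

theorem IsSmallMove.restrict {R : Type v} [Group R] {W : Type w} [Group W] [Finite W] {p : ℕ}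
    {ρ : R →* MulAut W} {y : R} (h : IsSmallMove p ρ y) (L : Subgroup W)
    (hL : ∀ g, ∀ x ∈ L, ρ g x ∈ L) : IsSmallMove p (restrictAct ρ L hL) y := by
  rcases h with h | ⟨h3, h64, hx⟩
  · exact Or.inl (card_le_of_restrict _ L _ (fun x => rfl) h)
  · exact Or.inr ⟨h3, card_le_of_restrict _ L _ (fun x => rfl) h64, hx⟩

set_option maxHeartbeats 1000000 in
/-- Small moves in a common `p`-group commute. -/
theorem commute_of_small_moves {p k : ℕ} [hp : Fact p.Prime] (hk : 1 ≤ k) (hpk : p = 2 ^ k + 1) :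
    ∀ (b : ℕ) {W : Type w} [CommGroup W] [Finite W], Nat.card W ≤ b → (∀ x : W, x * x = 1) →
    ∀ {R : Type v} [Group R] [Finite R], IsPGroup p R → ∀ (ρ : R →* MulAut W) (y y' : R),
      IsSmallMove p ρ y → IsSmallMove p ρ y' → ρ y * ρ y' = ρ y' * ρ y := by
  intro b
  induction b with
  | zero => intro W _ _ hc; exact absurd hc (Nat.not_le.2 Nat.card_pos)
  | succ b ih =>
    intro W _ _ hc h2 R _ _ hR ρ y y' hy hy'
    by_contra hne
    have hodd : Odd p := ⟨2 ^ (k - 1), by
      rw [hpk, ← pow_succ', Nat.sub_add_cancel hk]⟩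
    have hp2 : p ≠ 2 := fun h => by
      rw [h] at hodd
      exact Nat.not_even_iff_odd.2 hodd even_two
    set c := ⁅y, y'⁆ with hcdef
    have hc1 : ρ c ≠ 1 := by
      rw [hcdef, map_commutatorElement, Ne, commutatorElement_eq_one_iff_mul_comm]
      exact hne
    -- proper invariant subgroups are centralised by `c`
    have hsmall : ∀ L : Subgroup W, (∀ g, ∀ x ∈ L, ρ g x ∈ L) → L ≠ ⊤ → ∀ x ∈ L, ρ c x = x := by
      intro L hL hLt x hx
      have hlt : Nat.card L < Nat.card W :=
        lt_of_le_of_ne (Nat.le_of_dvd Nat.card_pos (Subgroup.card_subgroup_dvd_card L))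
          (fun he => hLt (Subgroup.eq_top_of_card_eq L he))
      have h := ih (W := L) (by omega) (fun z => Subtype.ext (h2 (z : W))) hR (restrictAct ρ L hL)
        y y' (hy.restrict L hL) (hy'.restrict L hL)
      have h' : restrictAct ρ L hL c = 1 := by
        rw [hcdef, map_commutatorElement, commutatorElement_eq_one_iff_mul_comm]
        exact h
      exact congrArg (fun f : MulAut L => ((f ⟨x, hx⟩ : L) : W)) h'
    obtain ⟨e, he⟩ := hR c
    have hcpow : ρ c ^ p ^ e = 1 := by rw [← map_pow, he, map_one]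
    obtain ⟨eW, heW⟩ := IsPGroup.iff_card.1 (show IsPGroup 2 W from fun x => ⟨1, by
      rw [pow_one, pow_two, h2]⟩)
    have hcop : ∀ i : ℕ, (p ^ i).Coprime (Nat.card W) := fun i => by
      rw [heW]
      exact ((Nat.coprime_primes hp.out Nat.prime_two).2 hp2).pow i eW
    -- hence `W` has no proper invariant subgroup
    set D := Subgroup.closure {z : W | ∃ g x, z = (ρ g x)⁻¹ * ρ (g * c) x} with hD
    have hDinv : ∀ g, ∀ x ∈ D, ρ g x ∈ D := by
      intro g x hx
      refine (show D ≤ D.comap (ρ g : W →* W) from (Subgroup.closure_le _).2 ?_) hx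
      rintro _ ⟨g', z, rfl⟩
      refine Subgroup.subset_closure ⟨g * g', z, ?_⟩
      show ρ g ((ρ g' z)⁻¹ * ρ (g' * c) z) = _
      rw [map_mul (ρ g), map_inv (ρ g), ← MulAut.mul_apply, ← MulAut.mul_apply, ← map_mul, ← map_mul,
        ← mul_assoc g g' c]
    have hDtop : D = ⊤ := by
      by_contra hDt
      refine hc1 (MulEquiv.ext fun x => ShultGross.eq_of_fixes_twist (p := p ^ e) (ρ c) hcpow
        (hcop e) (fun z hz => hsmall D hDinv hDt z ?_) x)
      refine (show ShultGross.twist (ρ c) ≤ D from (Subgroup.closure_le _).2 ?_) hz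
      rintro _ ⟨u, rfl⟩
      exact Subgroup.subset_closure ⟨1, u, by rw [map_one, MulAut.one_apply, one_mul]⟩
    have hirr : ∀ L : Subgroup W, (∀ g, ∀ x ∈ L, ρ g x ∈ L) → L ≠ ⊤ → L = ⊥ := by
      intro L hL hLt
      rw [Subgroup.eq_bot_iff_forall]
      intro x hx
      set Dn := Subgroup.closure {d : MulAut W | ∃ g, d = ρ (g * c * g⁻¹)} with hDn
      have hfx : ∀ d ∈ Dn, d x = x := by
        intro d hd
        refine (show Dn ≤ (MulAction.stabilizer (MulAut W) x) from (Subgroup.closure_le _).2 ?_) hd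
        rintro _ ⟨g, rfl⟩
        show ρ (g * c * g⁻¹) x = x
        rw [map_mul, map_mul, MulAut.mul_apply, MulAut.mul_apply,
          hsmall L hL hLt _ (hL g⁻¹ x hx), ← MulAut.mul_apply, ← map_mul, mul_inv_cancel, map_one,
          MulAut.one_apply]
      have hDnR : Dn ≤ ρ.range := (Subgroup.closure_le _).2 (by
        rintro _ ⟨g, rfl⟩; exact ⟨_, rfl⟩)
      cases nonempty_fintype Dn
      let Nm : W →* W :=
        { toFun := fun z => ∏ d : Dn, (d : MulAut W) z
          map_one' := by simp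
          map_mul' := fun z z' => by simp [Finset.prod_mul_distrib] }
      have hker : D ≤ Nm.ker := by
        refine (Subgroup.closure_le _).2 ?_
        rintro _ ⟨g, z, rfl⟩
        rw [SetLike.mem_coe, MonoidHom.mem_ker, map_mul, map_inv, inv_mul_eq_one]
        show ∏ d : Dn, (d : MulAut W) (ρ g z) = ∏ d : Dn, (d : MulAut W) (ρ (g * c) z)
        refine (Fintype.prod_equiv (Equiv.mulRight (⟨_, Subgroup.subset_closure ⟨g, rfl⟩⟩ : Dn)) _ _
          fun d => ?_).symm
        show (d : MulAut W) (ρ (g * c) z) = ((d : MulAut W) * ρ (g * c * g⁻¹)) (ρ g z)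
        rw [MulAut.mul_apply, ← MulAut.mul_apply _ (ρ (g * c * g⁻¹)), ← map_mul, inv_mul_cancel_right]
      have h1 : Nm x = 1 := MonoidHom.mem_ker.1 (hker (hDtop ▸ Subgroup.mem_top x))
      have hx2 : Nm x = x ^ Nat.card Dn := by
        show ∏ d : Dn, (d : MulAut W) x = _
        rw [Finset.prod_congr rfl fun (d : Dn) _ => hfx d d.2, Finset.prod_const, card_univ,
          Nat.card_eq_fintype_card]
      rw [hx2] at h1
      obtain ⟨f, hf⟩ := IsPGroup.iff_card.1
        ((hR.of_surjective ρ.rangeRestrict ρ.rangeRestrict_surjective).to_le hDnR)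
      rw [hf] at h1
      rw [← orderOf_eq_one_iff]
      exact Nat.eq_one_of_dvd_coprimes (hcop f) (orderOf_dvd_of_pow_eq_one h1)
        (orderOf_dvd_natCard x)
    haveI : Nontrivial W := by
      rcases subsingleton_or_nontrivial W with h | h
      · exact absurd (MulEquiv.ext fun x => Subsingleton.elim _ _) hc1
      · exact h
    -- the image
    set Rb := ρ.range with hRb
    have hRbp : IsPGroup p Rb := hR.of_surjective ρ.rangeRestrict ρ.rangeRestrict_surjective
    have hZfpf : ∀ z : Rb, z ∈ Subgroup.center Rb → (z : MulAut W) ≠ 1 →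
        ∀ x, (z : MulAut W) x = x → x = 1 := by
      intro z hz hz1 x hx
      have hL : fixSubgroup (z : MulAut W) = ⊥ := by
        refine hirr _ (fun g x hx => ?_) fun h => hz1 (MulEquiv.ext fun x =>
          (show x ∈ fixSubgroup (z : MulAut W) from h ▸ Subgroup.mem_top x))
        have hcm : ρ g * (z : MulAut W) = (z : MulAut W) * ρ g :=
          congrArg Subtype.val (Subgroup.mem_center_iff.1 hz ⟨ρ g, g, rfl⟩)
        show (z : MulAut W) (ρ g x) = ρ g x
        rw [← MulAut.mul_apply, ← hcm, MulAut.mul_apply, show (z : MulAut W) x = x from hx]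
      have hxm : x ∈ fixSubgroup (z : MulAut W) := hx
      rw [hL, Subgroup.mem_bot] at hxm
      exact hxm
    have hnc : ¬ IsCyclic Rb := by
      intro h
      refine hne ?_
      exact congrArg Subtype.val
        (mul_comm' (⟨ρ y, y, rfl⟩ : Rb) ⟨ρ y', y', rfl⟩)
    obtain ⟨A, hAn, ⟨hAc, hAp⟩, hAcard⟩ := Cfsg.Agent.S0126.result hp2 hRbp hnc
    have hA2 := Cfsg.Agent.S0636.le_upper_two hRbp A hAcard
    have hAZ : ¬ A ≤ Subgroup.center Rb := by
      intro hAle
      have hA1 : A ≠ ⊥ := fun h => by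
        rw [h, Subgroup.card_bot] at hAcard
        exact absurd hAcard (Nat.one_lt_pow two_ne_zero hp.out.one_lt).ne
      obtain ⟨z, hz, hz1⟩ : ∃ z : Rb, z ∈ A ∧ z ≠ 1 := by
        obtain ⟨z, hz⟩ := Subgroup.ne_bot_iff_exists_ne_one.1 hA1
        exact ⟨z, z.2, fun h => hz (Subtype.ext h)⟩
      have hlt : Subgroup.zpowers z < A := by
        refine lt_of_le_of_ne (Subgroup.zpowers_le.2 hz) fun h => ?_
        have h1 : Nat.card (Subgroup.zpowers z) ≤ p := by
          rw [Nat.card_zpowers]
          exact Nat.le_of_dvd hp.out.pos (orderOf_dvd_of_pow_eq_one (hAp z hz))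
        rw [h, hAcard, pow_two] at h1
        exact absurd h1 (Nat.not_le.2 (lt_mul_self hp.out.one_lt))
      obtain ⟨z', hz', hz'z⟩ := SetLike.exists_of_lt hlt
      set ζ := (z : MulAut W) with hζdef
      set a := (z' : MulAut W) with hadef
      have hζp : ζ ^ p = 1 := by
        rw [hζdef, ← Subgroup.coe_pow, hAp z hz, Subgroup.coe_one]
      have hap : a ^ p = 1 := by
        rw [hadef, ← Subgroup.coe_pow, hAp z' hz', Subgroup.coe_one]
      have hac : Commute ζ a := congrArg Subtype.val (Subgroup.mem_center_iff.1 (hAle hz') z)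
      have hfpf := hZfpf z (hAle hz) (fun h => hz1 (Subtype.ext h))
      obtain ⟨i, hi⟩ : ∃ i : Fin p, fixSubgroup (ζ ^ (i : ℕ) * a) ≠ ⊥ := by
        by_contra! hbot
        have h := card_eq_prod h2 hodd hac hap hζp hfpf
        simp only [hbot, Subgroup.card_bot, Finset.prod_const_one] at h
        exact (Finite.one_lt_card (α := W)).ne' h
      have hzz : ((z ^ (i : ℕ) * z' : Rb) : MulAut W) ≠ 1 := fun h => hz'z (by
        have h' : z ^ (i : ℕ) * z' = 1 := Subtype.ext h
        rw [eq_inv_of_mul_eq_one_right h']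
        exact inv_mem (pow_mem (Subgroup.mem_zpowers z) _))
      refine hi (Subgroup.eq_bot_iff_forall _ |>.2 fun x hx => hZfpf (z ^ (i : ℕ) * z')
        (mul_mem (pow_mem (hAle hz) _) (hAle hz')) hzz x ?_)
      rw [Subgroup.coe_mul, Subgroup.coe_pow]
      exact hx
    obtain ⟨a', ha'A, ha'Z⟩ := SetLike.not_le_iff_exists.1 hAZ
    set a := (a' : MulAut W) with hadef
    have hap : a ^ p = 1 := by rw [hadef, ← Subgroup.coe_pow, hAp a' ha'A, Subgroup.coe_one]
    -- the commutators with `a`
    have hcomm : ∀ g : Rb, ⁅g, a'⁆ ∈ Subgroup.center Rb ∧ ⁅g, a'⁆ ^ p = 1 := by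
      intro g
      refine ⟨?_, hAp _ (mul_mem (hAn.conj_mem a' ha'A g) (inv_mem ha'A))⟩
      have h1 : a' ∈ Subgroup.upperCentralSeries Rb 2 := hA2 ha'A
      rw [show (2 : ℕ) = 1 + 1 from rfl, Subgroup.mem_upperCentralSeries_succ_iff] at h1
      have h2' := h1 g
      rw [Subgroup.upperCentralSeries_one] at h2'
      have h3 := inv_mem h2'
      rwa [show ⁅g, a'⁆ = (a' * g * a'⁻¹ * g⁻¹)⁻¹ by rw [commutatorElement_def]; group]
    -- an element moving `a` moves a lot
    have hmove : ∀ g : R, ρ g * a ≠ a * ρ g →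
        Nat.card W = Nat.card (fixSubgroup a) ^ p ∧
          Nat.card (fixSubgroup (ρ g)) ≤ Nat.card (fixSubgroup a) ∧
            (p - 1) ^ 2 ≤ Nat.card (fixSubgroup a) := by
      intro g hg
      obtain ⟨hzc, hzp⟩ := hcomm ⟨ρ g, g, rfl⟩
      set z := ⁅(⟨ρ g, g, rfl⟩ : Rb), a'⁆ with hz
      have hzval : (z : MulAut W) = ρ g * a * (ρ g)⁻¹ * a⁻¹ := by
        rw [hz, commutatorElement_def]
        rfl
      have hz1 : (z : MulAut W) ≠ 1 := fun h => hg (by
        rw [hzval, mul_inv_eq_one, mul_inv_eq_iff_eq_mul] at h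
        exact h)
      have hζp : (z : MulAut W) ^ p = 1 := by rw [← Subgroup.coe_pow, hzp, Subgroup.coe_one]
      have hac : Commute (z : MulAut W) a :=
        (congrArg Subtype.val (Subgroup.mem_center_iff.1 hzc a')).symm
      have hgz : Commute (ρ g) (z : MulAut W) :=
        congrArg Subtype.val (Subgroup.mem_center_iff.1 hzc ⟨ρ g, g, rfl⟩)
      have hga : ρ g * a = (z : MulAut W) ^ 1 * a * ρ g := by
        rw [pow_one, hzval]; group
      obtain ⟨h1, h3⟩ := card_eigen_of_twist h2 hodd hac hap hζp (hZfpf z hzc hz1)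
        (fun h => hp.out.ne_one (Nat.dvd_one.1 h)) hga hgz
      refine ⟨h1, h3, ?_⟩
      have hne' : fixSubgroup a ≠ ⊥ := fun h => by
        rw [h, Subgroup.card_bot, one_pow] at h1
        exact (Finite.one_lt_card (α := W)).ne' h1
      haveI : Nontrivial (fixSubgroup a) := (Subgroup.nontrivial_iff_ne_bot _).2 hne'
      have hinv : ∀ x ∈ fixSubgroup a, (z : MulAut W) x ∈ fixSubgroup a := fun x hx => by
        show a ((z : MulAut W) x) = (z : MulAut W) x
        rw [← MulAut.mul_apply, ← hac.eq, MulAut.mul_apply, show a x = x from hx]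
      have hinv' : ∀ h : Subgroup.zpowers (z : MulAut W), ∀ x ∈ fixSubgroup a,
          (h : MulAut W) x ∈ fixSubgroup a := by
        intro h x hx
        obtain ⟨i, hi⟩ := (mem_powers_iff_mem_zpowers).2 h.2
        rw [← hi]
        clear hi
        induction i with
        | zero => simpa using hx
        | succ i ih =>
          show ((z : MulAut W) ^ (i + 1)) x ∈ fixSubgroup a
          rw [pow_succ', MulAut.mul_apply]; exact hinv _ ih
      refine card_ge_of_fpf (fun x => Subtype.ext (h2 (x : W))) hk hpk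
        (restrictAct (Subgroup.zpowers (z : MulAut W)).subtype (fixSubgroup a) hinv'
          ⟨_, Subgroup.mem_zpowers _⟩) ?_ fun x hx => Subtype.ext ?_
      · rw [← map_pow, show (⟨(z : MulAut W), Subgroup.mem_zpowers _⟩ :
            Subgroup.zpowers (z : MulAut W)) ^ p = 1 from Subtype.ext hζp, map_one]
      · exact hZfpf z hzc hz1 x (congrArg Subtype.val hx)
    have hp3 : 3 ≤ p := by
      have := hp.out.two_le
      omega
    have hfixes : ∀ g : R, IsSmallMove p ρ g → ρ g * a = a * ρ g := by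
      intro g hg
      by_contra hga
      obtain ⟨h1, h3, h4⟩ := hmove g hga
      have hC2 : 2 ≤ Nat.card (fixSubgroup a) := by
        have : 2 ^ 2 ≤ (p - 1) ^ 2 := Nat.pow_le_pow_left (by omega) 2
        omega
      rcases hg with h | ⟨hp3', h, x, hx⟩
      · have h5 : Nat.card (fixSubgroup a) ^ p ≤ Nat.card (fixSubgroup a) ^ 2 := by
          calc Nat.card (fixSubgroup a) ^ p = Nat.card W := h1.symm
            _ ≤ (p - 1) ^ 2 * Nat.card (fixSubgroup (ρ g)) := h
            _ ≤ Nat.card (fixSubgroup a) * Nat.card (fixSubgroup a) := Nat.mul_le_mul h4 h3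
            _ = _ := (pow_two _).symm
        have := (Nat.pow_le_pow_iff_right hC2).1 h5
        omega
      · -- a cube commutes with `a`
        apply hga
        obtain ⟨hzc, hzp⟩ := hcomm ⟨ρ x, x, rfl⟩
        set z := ⁅(⟨ρ x, x, rfl⟩ : Rb), a'⁆ with hz
        have hstep : (⟨ρ x, x, rfl⟩ : Rb) * a' = z * a' * ⟨ρ x, x, rfl⟩ := by
          rw [hz, commutatorElement_def]; group
        have hiter : ∀ i : ℕ, (⟨ρ x, x, rfl⟩ : Rb) ^ i * a' = z ^ i * a' * ⟨ρ x, x, rfl⟩ ^ i := by
          intro i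
          induction i with
          | zero => simp
          | succ i ih =>
            calc (⟨ρ x, x, rfl⟩ : Rb) ^ (i + 1) * a'
                = ⟨ρ x, x, rfl⟩ * z ^ i * a' * ⟨ρ x, x, rfl⟩ ^ i := by
                  rw [pow_succ', mul_assoc, ih]; simp only [mul_assoc]
              _ = z ^ i * (⟨ρ x, x, rfl⟩ * a') * ⟨ρ x, x, rfl⟩ ^ i := by
                  rw [Subgroup.mem_center_iff.1 (pow_mem hzc i) (⟨ρ x, x, rfl⟩ : Rb)]
                  simp only [mul_assoc]
              _ = _ := by rw [hstep, pow_succ, pow_succ' (⟨ρ x, x, rfl⟩ : Rb)]; simp only [mul_assoc]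
        have h6 := congrArg Subtype.val (hiter 3)
        rw [← hp3', hzp, one_mul, hp3'] at h6
        simp only [Subgroup.coe_mul, Subgroup.coe_pow] at h6
        rw [← hx, map_pow]
        exact h6
    have hya := hfixes y hy
    have hy'a := hfixes y' hy'
    obtain ⟨g₀, hg₀⟩ : ∃ g : R, ρ g * a ≠ a * ρ g := by
      by_contra! h
      refine ha'Z (Subgroup.mem_center_iff.2 ?_)
      rintro ⟨_, g, rfl⟩
      exact Subtype.ext (h g)
    -- pass to the centraliser of `a`
    let R0 : Subgroup R := (Subgroup.centralizer ({a} : Set (MulAut W))).comap ρ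
    have hR0 : ∀ g, g ∈ R0 ↔ ρ g * a = a * ρ g := fun g => by
      rw [Subgroup.mem_comap, Subgroup.mem_centralizer_singleton_iff]
    obtain ⟨hzc, hzp⟩ := hcomm ⟨ρ g₀, g₀, rfl⟩
    set z := ⁅(⟨ρ g₀, g₀, rfl⟩ : Rb), a'⁆ with hz
    set ζ := (z : MulAut W) with hζdef
    have hζ1 : ζ ≠ 1 := fun h => hg₀ (by
      rw [hζdef, hz, commutatorElement_def] at h
      have h' : ρ g₀ * a * (ρ g₀)⁻¹ * a⁻¹ = 1 := h
      rw [mul_inv_eq_one, mul_inv_eq_iff_eq_mul] at h'
      exact h')
    have hζp : ζ ^ p = 1 := by rw [hζdef, ← Subgroup.coe_pow, hzp, Subgroup.coe_one]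
    have hac : Commute ζ a := (congrArg Subtype.val (Subgroup.mem_center_iff.1 hzc a')).symm
    have hfpf := hZfpf z hzc hζ1
    have hWlt : ∀ i : ℕ, fixSubgroup (ζ ^ i * a) ≠ ⊤ := fun i h => by
      refine ha'Z ?_
      have h1 : ζ ^ i * a = 1 := MulEquiv.ext fun x =>
        (show x ∈ fixSubgroup (ζ ^ i * a) from h ▸ Subgroup.mem_top x)
      have h2' : a' = (z ^ i)⁻¹ := eq_inv_of_mul_eq_one_right (Subtype.ext (by
        rw [Subgroup.coe_mul, Subgroup.coe_pow]; exact h1))
      rw [h2']
      exact inv_mem (pow_mem hzc i)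
    refine hne (MulEquiv.ext fun x => ?_)
    rw [← prod_orbitProd h2 hodd hac hap hζp hfpf x, map_prod, map_prod]
    refine Finset.prod_congr rfl fun i _ => ?_
    set L := fixSubgroup (ζ ^ i * a) with hLdef
    have hLinv : ∀ g : R0, ∀ u ∈ L, (ρ.comp R0.subtype) g u ∈ L := by
      intro g u hu
      have h1 : Commute (ρ (g : R)) ζ :=
        congrArg Subtype.val (Subgroup.mem_center_iff.1 hzc ⟨ρ (g : R), g, rfl⟩)
      have h3 : Commute (ρ (g : R)) (ζ ^ i * a) := (h1.pow_right i).mul_right ((hR0 g).1 g.2)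
      show (ζ ^ i * a) (ρ (g : R) u) = ρ (g : R) u
      rw [← MulAut.mul_apply, ← h3.eq, MulAut.mul_apply, show (ζ ^ i * a) u = u from hu]
    have hlt : Nat.card L < Nat.card W :=
      lt_of_le_of_ne (Nat.le_of_dvd Nat.card_pos (Subgroup.card_subgroup_dvd_card L))
        (fun he => hWlt i (Subgroup.eq_top_of_card_eq L he))
    have hsm : ∀ (g : R) (hg : g ∈ R0), IsSmallMove p ρ g →
        IsSmallMove p (restrictAct (ρ.comp R0.subtype) L hLinv) ⟨g, hg⟩ := by
      intro g hg hgs
      rcases hgs with h | ⟨hp3', h64, x', hx'⟩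
      · exact Or.inl (card_le_of_restrict (ρ g) L _ (fun u => rfl) h)
      by_cases hxa : x' ∈ R0
      · exact Or.inr ⟨hp3', card_le_of_restrict (ρ g) L _ (fun u => rfl) h64, ⟨x', hxa⟩,
          Subtype.ext hx'⟩
      · -- the root permutes the eigenspaces
        left
        rw [hR0] at hxa
        obtain ⟨hzc', hzp'⟩ := hcomm ⟨ρ x', x', rfl⟩
        set z' := ⁅(⟨ρ x', x', rfl⟩ : Rb), a'⁆ with hz'
        set ζ' := (z' : MulAut W) with hζ'def
        have hzval : ζ' = ρ x' * a * (ρ x')⁻¹ * a⁻¹ := by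
          rw [hζ'def, hz', commutatorElement_def]
          rfl
        have hζ'1 : ζ' ≠ 1 := fun h => hxa (by
          rw [hzval, mul_inv_eq_one, mul_inv_eq_iff_eq_mul] at h
          exact h)
        have hζ'p : ζ' ^ p = 1 := by rw [hζ'def, ← Subgroup.coe_pow, hzp', Subgroup.coe_one]
        have hac' : Commute ζ' a :=
          (congrArg Subtype.val (Subgroup.mem_center_iff.1 hzc' a')).symm
        have hfpf' := hZfpf z' hzc' hζ'1
        have hxz : Commute (ρ x') ζ' :=
          congrArg Subtype.val (Subgroup.mem_center_iff.1 hzc' ⟨ρ x', x', rfl⟩)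
        have hxz0 : Commute (ρ x') ζ :=
          congrArg Subtype.val (Subgroup.mem_center_iff.1 hzc ⟨ρ x', x', rfl⟩)
        have hzz : Commute ζ' ζ := congrArg Subtype.val (Subgroup.mem_center_iff.1 hzc z')
        -- work with `b = ζ ^ i * a`
        set a₁ := ζ ^ i * a with ha₁
        have ha₁p : a₁ ^ p = 1 := mul_pow_eq_one' hac hap hζp i
        have hac₁ : Commute ζ' a₁ := (hzz.pow_right i).mul_right hac'
        have hxa₁ : ρ x' * a₁ = ζ' ^ 1 * a₁ * ρ x' := by
          rw [pow_one, ha₁, ← mul_assoc, (hxz0.pow_right i).eq, ← mul_assoc ζ' (ζ ^ i),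
            (hzz.pow_right i).eq, hzval]
          group
        obtain ⟨h1, -⟩ := card_eigen_of_twist h2 hodd hac₁ ha₁p hζ'p hfpf'
          (fun h => hp.out.ne_one (Nat.dvd_one.1 h)) hxa₁ hxz
        -- `g` is fixed on every piece in the same way
        have hg1 : Commute (ρ g) a₁ := by
          rw [ha₁]
          exact ((show Commute (ρ g) ζ from congrArg Subtype.val
            (Subgroup.mem_center_iff.1 hzc ⟨ρ g, g, rfl⟩)).pow_right i).mul_right ((hR0 g).1 hg)
        have hgz' : Commute (ρ g) ζ' := congrArg Subtype.val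
          (Subgroup.mem_center_iff.1 hzc' ⟨ρ g, g, rfl⟩)
        set f := restrictAct (ρ.comp R0.subtype) L hLinv ⟨g, hg⟩ with hfdef
        have hgx : Commute (ρ g) (ρ x') := by
          rw [← hx', map_pow]
          exact (Commute.refl _).pow_left 3
        have hxm : ∀ m : ℕ, ρ x' ^ m * a₁ = (ζ' ^ m * a₁) * ρ x' ^ m := by
          intro m
          induction m with
          | zero => simp
          | succ m ihm =>
            calc ρ x' ^ (m + 1) * a₁ = ρ x' * ζ' ^ m * a₁ * ρ x' ^ m := by
                  rw [pow_succ', mul_assoc, ihm]; simp only [mul_assoc]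
              _ = ζ' ^ m * (ρ x' * a₁) * ρ x' ^ m := by
                  rw [(hxz.pow_right m).eq]; simp only [mul_assoc]
              _ = _ := by rw [hxa₁, pow_one, pow_succ, pow_succ' (ρ x')]; simp only [mul_assoc]
        have hinj : Nat.card (fixSubgroup (ρ g)) ≤ Nat.card (fixSubgroup f) ^ p := by
          rw [← Nat.card_eq_fintype_card.trans (Fintype.card_fin p), ← Nat.card_fun]
          refine Nat.card_le_card_of_injective (fun u m => (⟨⟨orbitProd p a₁
            ((ρ x' ^ (m : ℕ)) u), apply_orbitProd hp.out.pos a₁ ha₁p _⟩, ?_⟩ :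
              fixSubgroup f)) fun u u' h => ?_
          · show f ⟨_, _⟩ = ⟨_, _⟩
            refine Subtype.ext ?_
            show ρ g (orbitProd p a₁ ((ρ x' ^ (m : ℕ)) u)) = _
            rw [orbitProd_commute a₁ (ρ g) a₁ hg1.eq, ← MulAut.mul_apply _ (ρ g),
              (hgx.pow_right _).eq, MulAut.mul_apply, show ρ g (u : W) = u from u.2]
          · refine Subtype.ext ?_
            rw [← prod_orbitProd h2 hodd hac₁ ha₁p hζ'p hfpf' (u : W),
              ← prod_orbitProd h2 hodd hac₁ ha₁p hζ'p hfpf' (u' : W)]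
            refine Finset.prod_congr rfl fun j hj => ?_
            rw [Finset.mem_range] at hj
            obtain ⟨m, hm, hmj⟩ : ∃ m, m < p ∧ ζ' ^ (m + j) = 1 := by
              rcases Nat.eq_zero_or_pos j with rfl | hj0
              · exact ⟨0, hp.out.pos, by simp⟩
              · exact ⟨p - j, by omega, by rw [Nat.sub_add_cancel hj.le, hζ'p]⟩
            have h3 : orbitProd p a₁ ((ρ x' ^ m) (u : W)) = orbitProd p a₁ ((ρ x' ^ m) (u' : W)) :=
              congrArg (fun v : fixSubgroup f => ((v : L) : W)) (congrFun h ⟨m, hm⟩)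
            have hkey : ρ x' ^ m * (ζ' ^ j * a₁) = a₁ * ρ x' ^ m := by
              rw [← mul_assoc, ((hxz.pow_pow m j)).eq, mul_assoc, hxm m, ← mul_assoc, ← mul_assoc,
                ← pow_add, add_comm j, hmj, one_mul]
            apply (ρ x' ^ m).injective
            rw [orbitProd_commute (ζ' ^ j * a₁) _ a₁ hkey,
              orbitProd_commute (ζ' ^ j * a₁) _ a₁ hkey]
            exact h3
        have h5 : Nat.card L ^ 3 ≤ (4 * Nat.card (fixSubgroup f)) ^ 3 := by
          have h6 : Nat.card L ^ p = Nat.card W := h1.symm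
          calc Nat.card L ^ 3 = Nat.card W := by rw [← h6, hp3']
            _ ≤ 64 * Nat.card (fixSubgroup (ρ g)) := h64
            _ ≤ 64 * Nat.card (fixSubgroup f) ^ p := Nat.mul_le_mul_left _ hinj
            _ = _ := by rw [hp3', mul_pow]; norm_num
        have h7 := (Nat.pow_le_pow_iff_left (by norm_num : (3 : ℕ) ≠ 0)).1 h5
        rw [hp3']
        exact h7
    have h := ih (W := L) (by omega) (fun u => Subtype.ext (h2 (u : W)))
      (hR.to_subgroup R0) (restrictAct (ρ.comp R0.subtype) L hLinv) ⟨y, (hR0 y).2 hya⟩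
      ⟨y', (hR0 y').2 hy'a⟩ (hsm y _ hy) (hsm y' _ hy')
    exact congrArg (fun f : MulAut L =>
      ((f ⟨_, apply_orbitProd hp.out.pos _ (mul_pow_eq_one' hac hap hζp i) x⟩ : L) : W)) h

end CfsgLib.HallHigman
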