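import Mathlib
import Cfsg.Agent.HallHigman.SmallMoves
import Cfsg.Agent.HallHigman.LengthSetup
import Cfsg.Agent.ShultGross.Split

/-!
For a Fermat prime `p`: elements `g` of a `p`-group normalising a `2`-group `Q` on a module in
characteristic `p`, with minimal polynomial of degree less than `p ^ m`, have powers
`g ^ p ^ (m - 1)` which commute modulo the centraliser of `Q`.
-/

set_option autoImplicit false
set_option linter.style.haveILetI false

open Finset Module
open scoped commutatorElement

namespace CfsgLib.HallHigman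

universe u v w x

/-- The exceptional equation `p ^ M = 2 ^ e + 1`. -/
theorem pow_eq_two_pow_add_one {p : ℕ} (hp : p.Prime) (hodd : Odd p) {M e : ℕ} (hM : 1 ≤ M)
    (h : p ^ M = 2 ^ e + 1) : M = 1 ∨ (p = 3 ∧ M = 2) := by
  rcases Nat.even_or_odd M with ⟨t, ht⟩ | hMo
  · right
    subst ht
    have h1 : (p ^ t - 1) * (p ^ t + 1) = 2 ^ e := by
      rw [mul_comm, ← Nat.sq_sub_sq, one_pow, ← pow_mul, mul_comm, two_mul, h, Nat.add_sub_cancel]
    obtain ⟨a, -, ha⟩ := (Nat.dvd_prime_pow Nat.prime_two).1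
      (show p ^ t - 1 ∣ 2 ^ e from ⟨_, h1.symm⟩)
    obtain ⟨b, -, hb⟩ := (Nat.dvd_prime_pow Nat.prime_two).1
      (show p ^ t + 1 ∣ 2 ^ e from ⟨_, (h1.symm.trans (mul_comm _ _))⟩)
    have hp3 : 3 ≤ p ^ t := by
      have h3 : 3 ≤ p := by
        rcases hodd with ⟨c, rfl⟩
        have := hp.two_le
        omega
      exact h3.trans (Nat.le_self_pow (by omega) p)
    have hab : a < b := by
      by_contra hab
      have : 2 ^ b ≤ 2 ^ a := Nat.pow_le_pow_right two_pos (by omega)
      omega
    have hdvd : 2 ^ a ∣ 2 := by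
      have h2 : 2 ^ a ∣ 2 ^ b := pow_dvd_pow 2 hab.le
      have h3 : 2 ^ b = 2 ^ a + 2 := by omega
      rw [h3] at h2
      exact (Nat.dvd_add_right dvd_rfl).1 h2
    have ha2 : 2 ^ a ≤ 2 := Nat.le_of_dvd two_pos hdvd
    have hpt : p ^ t = 3 := by omega
    have ht1 : t = 1 := by
      rcases t with _ | _ | t
      · omega
      · rfl
      · exfalso
        have h3 : 3 ≤ p := by
          rcases hodd with ⟨c, rfl⟩
          have := hp.two_le
          omega
        have : 3 ^ 2 ≤ p ^ (t + 1 + 1) :=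
          (Nat.pow_le_pow_left h3 2).trans (Nat.pow_le_pow_right hp.pos (by omega))
        omega
    subst ht1
    rw [pow_one] at hpt
    exact ⟨hpt, rfl⟩
  · left
    by_contra hM1
    -- the sum of an odd number of odd powers is odd and divides a power of two
    have hS : (∑ i ∈ range M, p ^ i) * (p - 1) = 2 ^ e := by
      have := Nat.geomSum_eq hp.two_le M
      have hdvd : p - 1 ∣ p ^ M - 1 := Nat.sub_one_dvd_pow_sub_one p M
      rw [this, Nat.div_mul_cancel hdvd, h, Nat.add_sub_cancel]
    obtain ⟨a, -, ha⟩ := (Nat.dvd_prime_pow Nat.prime_two).1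
      (show (∑ i ∈ range M, p ^ i) ∣ 2 ^ e from ⟨_, hS.symm⟩)
    have hoddS : Odd (∑ i ∈ range M, p ^ i) := by
      rw [Finset.odd_sum_iff_odd_card_odd]
      have : (Finset.filter (fun i => Odd (p ^ i)) (range M)) = range M :=
        Finset.filter_true_of_mem fun i _ => hodd.pow
      rw [this, card_range]
      exact hMo
    rcases Nat.eq_zero_or_pos a with rfl | ha0
    · rw [pow_zero] at ha
      have h2 : p ^ 0 + p ^ 1 ≤ ∑ i ∈ range M, p ^ i := by
        rw [← Finset.sum_range_one (fun i => p ^ i), ← Finset.sum_range_succ (fun i => p ^ i) 1]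
        exact Finset.sum_le_sum_of_subset (Finset.range_mono (by omega))
      have := hp.two_le
      rw [pow_zero, pow_one] at h2
      omega
    · rw [ha] at hoddS
      exact Nat.not_even_iff_odd.2 hoddS (Nat.even_pow.2 ⟨even_two, ha0.ne'⟩)

variable {K : Type u} [Field K] [IsAlgClosed K] {p : ℕ} [hp : Fact p.Prime] [CharP K p]

/-- For a faithful irreducible representation of a group of class two, the index of the centre is
at most the square of the degree. -/
theorem index_center_le {q : ℕ} [hq : Fact q.Prime] (hpq : p ≠ q) {Q : Type w} [Group Q] [Finite Q]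
    (hQ : IsPGroup q Q) {V : Type v} [AddCommGroup V] [Module K V] [FiniteDimensional K V]
    [Nontrivial V] (ψ : Q →* Module.End K V) (hψ : Function.Injective ψ)
    (hirr : ∀ W : Submodule K V, (∀ g, ∀ v ∈ W, ψ g v ∈ W) → W = ⊥ ∨ W = ⊤)
    (hc : commutator Q ≤ Subgroup.center Q) :
    (Subgroup.center Q).index ≤ finrank K V ^ 2 := by
  classical
  obtain ⟨b, hb⟩ := exists_finrank_eq_pow hQ ψ hirr
  have hd : (finrank K V : K) ≠ 0 := by
    rw [Ne, CharP.cast_eq_zero_iff K p, hb]
    exact fun h => hpq ((Nat.prime_dvd_prime_iff_eq hp.out hq.out).1 (hp.out.dvd_of_dvd_pow h))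
  have htr : ∀ g, g ∉ Subgroup.center Q → LinearMap.trace K V (ψ g) = 0 := by
    intro g hg
    rw [Subgroup.mem_center_iff] at hg
    push Not at hg
    obtain ⟨h, hh⟩ := hg
    have hcen : ⁅h, g⁆ ∈ Subgroup.center Q :=
      hc (Subgroup.commutator_mem_commutator (Subgroup.mem_top _) (Subgroup.mem_top _))
    obtain ⟨c, hcs⟩ := exists_eq_smul_one_of_commute (fun x => ψ x) hirr (ψ ⁅h, g⁆) fun x => by
      show ψ _ * ψ x = ψ x * ψ _
      rw [← map_mul, ← map_mul, Subgroup.mem_center_iff.1 hcen x]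
    have hc1 : c ≠ 1 := fun h1 => hh (by
      have h2 : ψ ⁅h, g⁆ = ψ 1 := by rw [hcs, h1, one_smul, map_one]
      exact commutatorElement_eq_one_iff_mul_comm.1 (hψ h2))
    have h1 : ψ h * ψ g * ψ h⁻¹ = c • ψ g := by
      rw [← map_mul, ← map_mul, show h * g * h⁻¹ = ⁅h, g⁆ * g by rw [commutatorElement_def]; group,
        map_mul, hcs, smul_mul_assoc, one_mul]
    have h2 : LinearMap.trace K V (ψ h * ψ g * ψ h⁻¹) = LinearMap.trace K V (ψ g) := by
      rw [LinearMap.trace_mul_comm, ← mul_assoc, ← map_mul, inv_mul_cancel, map_one, one_mul]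
    rw [h1, map_smul, smul_eq_mul] at h2
    by_contra h3
    exact hc1 ((mul_eq_right₀ h3).1 h2)
  let f : Q ⧸ Subgroup.center Q → Module.End K V := fun a => ψ a.out
  have hli : LinearIndependent K f := by
    cases nonempty_fintype (Q ⧸ Subgroup.center Q)
    rw [Fintype.linearIndependent_iff]
    intro c hc0 a
    have h := congrArg (fun T => LinearMap.trace K V (T * ψ (a.out)⁻¹)) hc0
    simp only [Finset.sum_mul, map_sum, smul_mul_assoc, map_smul, smul_eq_mul, zero_mul,
      map_zero] at h
    rw [Finset.sum_eq_single a] at h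
    · simp only [f] at h
      rw [← map_mul, mul_inv_cancel, map_one, LinearMap.trace_one, mul_eq_zero] at h
      exact h.resolve_right hd
    · intro a' _ ha'
      simp only [f]
      rw [← map_mul, htr _ (fun hm => ha' ?_), mul_zero]
      rw [← QuotientGroup.eq_one_iff, QuotientGroup.mk_mul, QuotientGroup.mk_inv,
        mul_inv_eq_one] at hm
      rwa [QuotientGroup.out_eq', QuotientGroup.out_eq'] at hm
    · simp
  cases nonempty_fintype (Q ⧸ Subgroup.center Q)
  have := hli.fintype_card_le_finrank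
  rw [← Nat.card_eq_fintype_card, ← Subgroup.index_eq_card, Module.finrank_linearMap] at this
  rwa [pow_two]

omit [IsAlgClosed K] in
/-- An irreducible invariant subspace on which a given normal subgroup is not trivial. -/
theorem exists_irreducible_of_normal {Q : Type w} [Group Q] [Finite Q] {V : Type v} [AddCommGroup V]
    [Module K V] [FiniteDimensional K V] (N : Subgroup Q) [N.Normal] (hNK : (Nat.card N : K) ≠ 0)
    (ψ : Q →* Module.End K V) (hne : ∃ n ∈ N, ψ n ≠ 1) :
    ∃ S : Submodule K V, S ≠ ⊥ ∧ (∀ g, ∀ v ∈ S, ψ g v ∈ S) ∧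
      (∀ T : Submodule K V, T ≤ S → (∀ g, ∀ v ∈ T, ψ g v ∈ T) → T = ⊥ ∨ T = S) ∧
      ∃ n ∈ N, ∃ v ∈ S, ψ n v ≠ v := by
  cases nonempty_fintype N
  set e : Module.End K V := ∑ n : N, ψ n with he
  have hen : ∀ n : N, e * ψ n = e := fun n => by
    rw [he, Finset.sum_mul]
    exact Fintype.sum_equiv (Equiv.mulRight n) _ _ fun a => (map_mul ψ (a : Q) n).symm
  have hge : ∀ g, e * ψ g = ψ g * e := fun g => by
    rw [he, Finset.sum_mul, Finset.mul_sum]
    refine Fintype.sum_equiv ((MulAut.conjNormal g⁻¹ : MulAut N).toEquiv) _ _ fun a => ?_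
    show ψ (a : Q) * ψ g = ψ g * ψ ((MulAut.conjNormal g⁻¹ a : N) : Q)
    rw [MulAut.conjNormal_apply, ← map_mul, ← map_mul]
    congr 1
    group
  have hker : LinearMap.ker e ≠ ⊥ := by
    intro hbot
    obtain ⟨n, hn, hn1⟩ := hne
    refine hn1 (LinearMap.ext fun v => LinearMap.ker_eq_bot.1 hbot ?_)
    rw [← Module.End.mul_apply, hen ⟨n, hn⟩]
    rfl
  obtain ⟨S, hSle, ⟨hSne, hSinv⟩, hmin⟩ := exists_minimal_le_of_wellFoundedLT
    (fun W : Submodule K V => W ≠ ⊥ ∧ ∀ g, ∀ v ∈ W, ψ g v ∈ W) (LinearMap.ker e)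
    ⟨hker, fun g v hv => by
      rw [LinearMap.mem_ker] at hv ⊢
      rw [← Module.End.mul_apply, hge, Module.End.mul_apply, hv, map_zero]⟩
  refine ⟨S, hSne, hSinv, fun T hT hTi => ?_, ?_⟩
  · by_contra! h
    exact h.2 (le_antisymm hT (hmin ⟨h.1, hTi⟩ hT))
  · by_contra! h
    obtain ⟨v, hv, hv0⟩ := Submodule.exists_mem_ne_zero_of_ne_bot hSne
    have h1 : e v = (Nat.card N : K) • v := by
      rw [he, LinearMap.sum_apply, Finset.sum_congr rfl fun (a : N) _ => h a a.2 v hv,
        Finset.sum_const, card_univ, Nat.card_eq_fintype_card, Nat.cast_smul_eq_nsmul]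
    rw [LinearMap.mem_ker.1 (hSle hv), eq_comm, smul_eq_zero] at h1
    exact h1.elim hNK hv0

theorem comm_of_twist_fixed {Q : Type w} [Group Q] (τ : MulAut Q)
    (hc : commutator Q ≤ Subgroup.center Q) (hZ : ∀ z ∈ Subgroup.center Q, τ z = z) {e : Q}
    (he : τ e = e) {l : Q} (hl : l ∈ ShultGross.twist τ) : l * e = e * l := by
  refine Subgroup.mem_centralizer_singleton_iff.1
    ((show ShultGross.twist τ ≤ Subgroup.centralizer {e} from (Subgroup.closure_le _).2 ?_) hl)
  rintro _ ⟨q, rfl⟩
  rw [SetLike.mem_coe, Subgroup.mem_centralizer_singleton_iff]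
  have hm : ⁅q, e⁆ ∈ Subgroup.center Q :=
    hc (Subgroup.commutator_mem_commutator (Subgroup.mem_top _) (Subgroup.mem_top _))
  have h1 := hZ _ hm
  rw [map_commutatorElement, he, commutatorElement_def, commutatorElement_def, mul_left_inj] at h1
  calc q⁻¹ * τ q * e = q⁻¹ * (τ q * e * (τ q)⁻¹) * τ q := by group
    _ = q⁻¹ * (q * e * q⁻¹) * τ q := by rw [h1]
    _ = e * (q⁻¹ * τ q) := by group

set_option maxHeartbeats 1000000 in
/-- On the central quotient the top power moves little. -/
theorem small_move_of_relation {k : ℕ} (hk : 1 ≤ k) (hpk : p = 2 ^ k + 1) {Q : Type w} [Group Q]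
    [Finite Q] (hQ : IsPGroup 2 Q) {V : Type v} [AddCommGroup V] [Module K V] [FiniteDimensional K V]
    (ψ : Q →* Module.End K V) (hψ : Function.Injective ψ)
    (hc : commutator Q ≤ Subgroup.center Q) (hsq : ∀ x : Q, x * x ∈ Subgroup.center Q)
    (hscal : ∀ z ∈ Subgroup.center Q, ∃ c : K, ψ z = c • 1)
    (α : MulAut Q) (X : Module.End K V) (hα : ∀ x, X * ψ x = ψ (α x) * X) {m : ℕ} (hm : 1 ≤ m)
    (hX : X ^ p ^ m = 1) (hrel : (X - 1) ^ (p ^ m - 1) = 0)
    (hZ : ∀ z ∈ Subgroup.center Q, (α ^ p ^ (m - 1)) z = z) (hne : α ^ p ^ (m - 1) ≠ 1) :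
    ∃ j : ℕ, j < m ∧ ∃ Fw : Subgroup (Q ⧸ Subgroup.center Q),
      (∀ u : Q, (α ^ p ^ (m - 1)) u = u → (u : Q ⧸ Subgroup.center Q) ∈ Fw) ∧
      (∀ a ∈ Fw, ∃ u : Q, (u : Q ⧸ Subgroup.center Q) = a ∧ (α ^ p ^ (m - 1)) u = u) ∧
      (Nat.card (Q ⧸ Subgroup.center Q) ≤ (p - 1) ^ 2 * Nat.card Fw ∨
        (p = 3 ∧ j + 2 = m ∧ Nat.card (Q ⧸ Subgroup.center Q) ≤ 64 * Nat.card Fw)) := by
  haveI := Fact.mk Nat.prime_two
  have hp2 : p ≠ 2 := by
    rw [hpk]
    have : 1 ≤ 2 ^ (k - 1) := Nat.one_le_two_pow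
    have h2 : 2 ^ k = 2 * 2 ^ (k - 1) := by rw [← pow_succ', Nat.sub_add_cancel hk]
    omega
  have hodd : Odd p := hp.out.odd_of_ne_two hp2
  set τ := α ^ p ^ (m - 1) with hτ
  have hαi : ∀ (i : ℕ) g, X ^ i * ψ g = ψ ((α ^ i) g) * X ^ i := by
    intro i
    induction i with
    | zero => intro g; simp
    | succ i ih =>
      intro g
      rw [pow_succ' X, mul_assoc, ih, ← mul_assoc, hα, mul_assoc, pow_succ' α, MulAut.mul_apply]
  have hαM : α ^ p ^ m = 1 := MulEquiv.ext fun g => hψ (by
    have h := hαi (p ^ m) g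
    rw [hX, one_mul, mul_one] at h
    rw [MulAut.one_apply]
    exact h.symm)
  have hτp : τ ^ p = 1 := by rw [hτ, ← pow_mul, ← pow_succ, Nat.sub_add_cancel hm, hαM]
  obtain ⟨eQ, heQ⟩ := IsPGroup.iff_card.1 hQ
  have hcop : p.Coprime (Nat.card Q) := by
    rw [heQ]
    exact ((Nat.coprime_primes hp.out Nat.prime_two).2 hp2).pow_right eQ
  set Z := Subgroup.center Q with hZdef
  set L := ShultGross.twist τ ⊔ Z with hL
  haveI := ShultGross.twist_normal τ
  have hDi : ∀ y ∈ ShultGross.twist τ, α y ∈ ShultGross.twist τ := fun y hy =>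
    ShultGross.twist_invariant α τ (fun z => by
      rw [← MulAut.mul_apply, ← MulAut.mul_apply, hτ, ← pow_succ, ← pow_succ']) hy
  have hLi : ∀ y ∈ L, α y ∈ L := by
    intro y hy
    obtain ⟨a, ha, z, hz, rfl⟩ := Subgroup.mem_sup_of_normal_right.1 hy
    rw [map_mul]
    refine mul_mem (Subgroup.mem_sup_left (hDi a ha)) (Subgroup.mem_sup_right ?_)
    rw [hZdef, ← Subgroup.characteristic_iff_map_eq.1
      (inferInstance : (Subgroup.center Q).Characteristic) α]
    exact ⟨z, hz, rfl⟩
  -- fixed points lift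
  have hlift : ∀ u : Q, u⁻¹ * τ u ∈ Z → τ u = u := by
    intro u hu
    set z := u⁻¹ * τ u with hz
    have hiter : ∀ i : ℕ, (τ ^ i) u = u * z ^ i := by
      intro i
      induction i with
      | zero => simp
      | succ i ih =>
        rw [pow_succ', MulAut.mul_apply, ih, map_mul, map_pow, hZ z hu, pow_succ' z, ← mul_assoc,
          hz, mul_inv_cancel_left]
    have h1 := hiter p
    rw [hτp, MulAut.one_apply, left_eq_mul] at h1
    have h2 : orderOf z = 1 :=
      Nat.eq_one_of_dvd_coprimes hcop (orderOf_dvd_of_pow_eq_one h1) (orderOf_dvd_natCard z)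
    rw [orderOf_eq_one_iff, hz, inv_mul_eq_one] at h2
    exact h2.symm
  -- every element is a product from `L` and the fixed points
  letI : CommGroup (Q ⧸ Z) := { (inferInstance : Group (Q ⧸ Z)) with
    mul_comm := fun a c => by
      induction a using QuotientGroup.induction_on with
      | H a =>
        induction c using QuotientGroup.induction_on with
        | H c =>
          show ((a * c : Q) : Q ⧸ Z) = ((c * a : Q) : Q ⧸ Z)
          rw [QuotientGroup.eq,
            show (a * c)⁻¹ * (c * a) = ⁅c⁻¹, a⁻¹⁆ by rw [commutatorElement_def]; group]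
          exact hc (Subgroup.commutator_mem_commutator (Subgroup.mem_top _) (Subgroup.mem_top _)) }
  have hdec : ∀ x : Q, ∃ l ∈ L, ∃ e, τ e = e ∧ x = l * e := by
    intro x
    let g : ℕ → Q := fun i => (τ ^ i) x
    let y : Q ⧸ Z := ∏ i ∈ range p, ((g i : Q) : Q ⧸ Z)
    obtain ⟨e, he⟩ := QuotientGroup.mk_surjective y
    have heτ : τ e = e := by
      refine hlift e ?_
      rw [← QuotientGroup.eq, he]
      let τW : Q ⧸ Z →* Q ⧸ Z := QuotientGroup.map Z Z (τ : Q →* Q) fun z hz => by
        show τ z ∈ Z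
        rw [hZ z hz]; exact hz
      have h1 : τW y = ((τ e : Q) : Q ⧸ Z) := by rw [← he]; rfl
      rw [← h1]
      show y = τW (∏ i ∈ range p, ((g i : Q) : Q ⧸ Z))
      rw [map_prod]
      obtain ⟨p', hp'⟩ : ∃ p', p = p' + 1 := ⟨p - 1, (Nat.succ_pred_eq_of_pos hp.out.pos).symm⟩
      show ∏ i ∈ range p, ((g i : Q) : Q ⧸ Z) = _
      rw [hp']
      conv_lhs => rw [Finset.prod_range_succ']
      conv_rhs => rw [Finset.prod_range_succ]
      congr 1
      · exact Finset.prod_congr rfl fun i _ => by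
          show _ = ((τ ((τ ^ i) x) : Q) : Q ⧸ Z)
          simp only [g]
          rw [← MulAut.mul_apply, ← pow_succ']
      · show _ = ((τ ((τ ^ p') x) : Q) : Q ⧸ Z)
        simp only [g]
        rw [← MulAut.mul_apply, ← pow_succ', ← hp', hτp, pow_zero]
    refine ⟨x * e⁻¹, ?_, e, heτ, by rw [inv_mul_cancel_right]⟩
    have hxi : ∀ i : ℕ, x⁻¹ * (τ ^ i) x ∈ L := by
      intro i
      induction i with
      | zero => simp
      | succ i ih =>
        have h1 : x⁻¹ * (τ ^ (i + 1)) x =
            (x⁻¹ * (τ ^ i) x) * (((τ ^ i) x)⁻¹ * τ ((τ ^ i) x)) := by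
          rw [pow_succ', MulAut.mul_apply]; group
        rw [h1]
        exact mul_mem ih (Subgroup.mem_sup_left (ShultGross.mem_twist τ _))
    -- modulo `L` the product is `x ^ p = x`
    have hy : (e : Q ⧸ Z)⁻¹ * (x : Q ⧸ Z) ^ p ∈ L.map (QuotientGroup.mk' Z) := by
      have key : ∀ i : ℕ, (∏ j ∈ range i, ((g j : Q) : Q ⧸ Z))⁻¹ * (x : Q ⧸ Z) ^ i ∈
          L.map (QuotientGroup.mk' Z) := by
        intro i
        induction i with
        | zero => simp
        | succ i ih =>
          rw [Finset.prod_range_succ, pow_succ, mul_inv, mul_mul_mul_comm]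
          refine mul_mem ih ⟨((x⁻¹ * (τ ^ i) x))⁻¹, inv_mem (hxi i), ?_⟩
          rw [QuotientGroup.mk'_apply, mul_inv_rev, inv_inv, QuotientGroup.mk_mul,
            QuotientGroup.mk_inv]
      rw [he]
      exact key p
    have hxp : (x : Q ⧸ Z) ^ p = x := by
      obtain ⟨c, hc'⟩ := hodd
      rw [hc', pow_succ, pow_mul, pow_two, ← QuotientGroup.mk_mul,
        (QuotientGroup.eq_one_iff _).2 (hsq x), one_pow, one_mul]
    rw [hxp] at hy
    obtain ⟨l, hl, hle⟩ := hy
    rw [QuotientGroup.mk'_apply, mul_comm, ← QuotientGroup.mk_inv, ← QuotientGroup.mk_mul,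
      QuotientGroup.eq] at hle
    have := mul_mem hl (Subgroup.mem_sup_right (T := Z) (S := ShultGross.twist τ) hle)
    rwa [mul_inv_cancel_left] at this
  -- elements of `L` commute with the fixed points
  have hLC : ∀ l ∈ L, ∀ e, τ e = e → l * e = e * l := by
    intro l hl e he
    obtain ⟨a, ha, z, hz, rfl⟩ := Subgroup.mem_sup_of_normal_right.1 hl
    rw [mul_assoc, ← Subgroup.mem_center_iff.1 hz e, ← mul_assoc,
      comm_of_twist_fixed τ hc hZ he ha, mul_assoc]
  have hcenL : ∀ l : L, l ∈ Subgroup.center L ↔ (l : Q) ∈ Z := by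
    intro l
    constructor
    · intro h
      rw [hZdef, Subgroup.mem_center_iff]
      intro x
      obtain ⟨l', hl', e, he, rfl⟩ := hdec x
      have h1 : l' * (l : Q) = (l : Q) * l' :=
        congrArg Subtype.val (Subgroup.mem_center_iff.1 h ⟨l', hl'⟩)
      rw [mul_assoc, ← hLC l l.2 e he, ← mul_assoc, h1, mul_assoc]
    · intro h
      rw [Subgroup.mem_center_iff]
      exact fun a => Subtype.ext (Subgroup.mem_center_iff.1 h a)
  have hfix : ∀ l : Q, l ∈ L → τ l = l → l ∈ Z := by
    intro l hl hτl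
    rw [hZdef, Subgroup.mem_center_iff]
    intro x
    obtain ⟨l', hl', e, he, rfl⟩ := hdec x
    rw [mul_assoc, ← hLC l hl e he, ← mul_assoc, hLC l' hl' l hτl, mul_assoc]
  obtain ⟨αL, hαL⟩ := exists_restrict_aut α L hLi
  have hτL : ∃ l : L, (αL ^ p ^ (m - 1)) l ≠ l := by
    by_contra! h
    refine hne (MulEquiv.ext fun x => ?_)
    rw [MulAut.one_apply]
    refine ShultGross.eq_of_fixes_twist τ hτp hcop (fun y hy => ?_) x
    have h1 := congrArg Subtype.val (h ⟨y, Subgroup.mem_sup_left hy⟩)
    rwa [hαL] at h1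
  set ψL := ψ.comp L.subtype with hψL
  have hψLinj : Function.Injective ψL := hψ.comp L.subtype_injective
  have hQK : (Nat.card L : K) ≠ 0 := by
    rw [Ne, CharP.cast_eq_zero_iff K p]
    exact fun h => (hp.out.coprime_iff_not_dvd.1 hcop)
      (h.trans (Subgroup.card_subgroup_dvd_card L))
  have hψLne : ∃ l, ψL l ≠ 1 := by
    obtain ⟨l, hl⟩ := hτL
    refine ⟨l, fun h => hl ?_⟩
    rw [show l = 1 from hψLinj (h.trans (map_one ψL).symm), map_one]
  obtain ⟨j, U, hjm, hUne, hUinv, hUirr, hUnt, hUX, hdeg⟩ :=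
    exists_constituent hQK αL ψL X hX
      (fun g => by
        have h := hαL 1 g
        rw [pow_one, pow_one] at h
        show X * ψ (g : Q) = ψ ((αL g : L) : Q) * X
        rw [h]; exact hα _) hψLne
  have ha := hdeg _ hrel
  have hjlt : j < m := by
    rcases Nat.lt_or_eq_of_le hjm with h | h
    · exact h
    · exfalso
      obtain ⟨u, hu, hu0⟩ := Submodule.exists_mem_ne_zero_of_ne_bot hUne
      have := ha u hu
      rw [h, Nat.div_eq_of_lt (Nat.sub_lt (pow_pos hp.out.pos m) one_pos), pow_zero,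
        Module.End.one_apply] at this
      exact hu0 this
  have haeq : (p ^ m - 1) / p ^ j = p ^ (m - j) - 1 := by
    have hpj := pow_pos hp.out.pos j
    have hpmj := pow_pos hp.out.pos (m - j)
    have h1 : p ^ m = p ^ j * p ^ (m - j) := by rw [← pow_add, Nat.add_sub_cancel' hjm]
    refine Nat.div_eq_of_lt_le ?_ ?_
    · rw [h1, Nat.sub_mul, one_mul, mul_comm (p ^ (m - j))]
      omega
    · rw [Nat.sub_add_cancel hpmj, mul_comm, ← h1]
      have := pow_pos hp.out.pos m
      omega
  rw [haeq] at ha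
  haveI : Nontrivial U := Submodule.nontrivial_iff_ne_bot.2 hUne
  set ψU := restrictHom ψL U hUinv with hψU
  -- the constituent is faithful
  have hψUinj : Function.Injective ψU := by
    rw [← MonoidHom.ker_eq_bot_iff, Subgroup.eq_bot_iff_forall]
    have hcenker : ∀ z : L, z ∈ ψU.ker → (z : Q) ∈ Z → z = 1 := by
      intro z hz hzZ
      obtain ⟨c, hcz⟩ := hscal _ hzZ
      obtain ⟨v, hv0⟩ := exists_ne (0 : U)
      have h1 := congrArg Subtype.val (LinearMap.congr_fun (MonoidHom.mem_ker.1 hz) v)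
      rw [hψU, coe_restrictHom] at h1
      change ψ (z : Q) (v : V) = (v : V) at h1
      rw [hcz, LinearMap.smul_apply, Module.End.one_apply] at h1
      have hc1 : c = 1 := by
        by_contra hc1
        have h2 : (c - 1) • (v : V) = 0 := by rw [sub_smul, one_smul, h1, sub_self]
        rw [smul_eq_zero] at h2
        exact h2.elim (sub_ne_zero.2 hc1) (fun h => hv0 (Subtype.ext h))
      exact hψLinj (by
        show ψ (z : Q) = ψL 1
        rw [hcz, hc1, one_smul, map_one])
    intro l hl
    by_cases hlZ : (l : Q) ∈ Z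
    · exact hcenker l hl hlZ
    exfalso
    apply hlZ
    rw [← hcenL, Subgroup.mem_center_iff]
    intro a
    have hmem : ⁅a, l⁆ ∈ ψU.ker :=
      mul_mem ((inferInstance : ψU.ker.Normal).conj_mem l hl a) (inv_mem hl)
    have h1 : ⁅a, l⁆ = 1 := hcenker _ hmem (by
      show ((⁅a, l⁆ : L) : Q) ∈ Z
      rw [show ((⁅a, l⁆ : L) : Q) = ⁅(a : Q), (l : Q)⁆ by simp [commutatorElement_def]]
      exact hc (Subgroup.commutator_mem_commutator (Subgroup.mem_top _) (Subgroup.mem_top _)))
    exact commutatorElement_eq_one_iff_mul_comm.1 h1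
  have hirrU : ∀ W : Submodule K U, (∀ g, ∀ v ∈ W, ψU g v ∈ W) → W = ⊥ ∨ W = ⊤ := by
    intro W hW
    rcases hUirr (W.map U.subtype) (Submodule.map_subtype_le _ _) (by
      rintro g _ ⟨v, hv, rfl⟩
      exact ⟨ψU g v, hW g v hv, rfl⟩) with h | h
    · exact Or.inl (Submodule.map_injective_of_injective U.injective_subtype
        (h.trans (Submodule.map_bot _).symm))
    · exact Or.inr (Submodule.map_injective_of_injective U.injective_subtype
        (h.trans (Submodule.map_subtype_top U).symm))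
  set XU := (X ^ p ^ j).restrict hUX with hXU
  have hXUpow : ∀ (i : ℕ) (v : U), ((XU ^ i) v : V) = (X ^ (p ^ j * i)) v := by
    intro i
    induction i with
    | zero => intro v; simp
    | succ i ih =>
      intro v
      rw [pow_succ', Module.End.mul_apply, show p ^ j * (i + 1) = p ^ j + p ^ j * i by ring,
        pow_add, Module.End.mul_apply, ← ih]
      rfl
  have hXUa : (XU - 1) ^ (p ^ (m - j) - 1) = 0 := by
    have h1 : ∀ (i : ℕ) (v : U), ((((XU - 1) ^ i) v : U) : V) = ((X ^ p ^ j - 1) ^ i) v := by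
      intro i
      induction i with
      | zero => intro v; simp
      | succ i ih =>
        intro v
        rw [pow_succ', Module.End.mul_apply, pow_succ' (X ^ p ^ j - 1), Module.End.mul_apply, ← ih]
        rfl
    exact LinearMap.ext fun v => Subtype.ext ((h1 _ v).trans (ha v v.2))
  have hexp : (αL ^ p ^ j) ^ p ^ (m - j - 1) = αL ^ p ^ (m - 1) := by
    rw [← pow_mul, ← pow_add]
    congr 2
    omega
  have hQp : IsPGroup 2 L := hQ.to_subgroup L
  obtain ⟨-, ⟨e, he1, he⟩, -, hdim⟩ := (degree_of_irreducible hp2 (show 1 ≤ m - j by omega) hQp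
      (αL ^ p ^ j) ψU hψUinj hirrU XU
      (LinearMap.ext fun v => Subtype.ext (by
        rw [hXUpow, ← pow_add, Nat.add_sub_cancel' hjm, hX]
        rfl))
      (fun g => LinearMap.ext fun v => Subtype.ext (by
        have h1 : X ^ p ^ j * ψ (g : Q) = ψ (((αL ^ p ^ j) g : L) : Q) * X ^ p ^ j := by
          rw [hαL]; exact hαi _ _
        exact LinearMap.congr_fun h1 (v : V)))
      (by
        obtain ⟨l, hl⟩ := hτL
        exact ⟨l, by rw [hexp]; exact hl⟩)
      (fun l hl => by
        rw [hexp] at hl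
        rw [hcenL]
        refine hfix l l.2 ?_
        have h1 := congrArg Subtype.val hl
        rwa [hαL] at h1)
      (p ^ (m - j) - 1) hXUa).resolve_left (by
        have := pow_pos hp.out.pos (m - j)
        omega)
  have hcL : commutator L ≤ Subgroup.center L := by
    rw [commutator_def, Subgroup.commutator_le]
    intro a _ c' _
    rw [hcenL, show ((⁅a, c'⁆ : L) : Q) = ⁅(a : Q), (c' : Q)⁆ by simp [commutatorElement_def]]
    exact hc (Subgroup.commutator_mem_commutator (Subgroup.mem_top _) (Subgroup.mem_top _))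
  have hidx : (Subgroup.center L).index ≤ (p ^ (m - j) - 1) ^ 2 := by
    have := index_center_le hp2 hQp ψU hψUinj hirrU hcL
    rwa [hdim] at this
  let Fw : Subgroup (Q ⧸ Z) :=
    { carrier := {a | ∃ u : Q, (u : Q ⧸ Z) = a ∧ τ u = u}
      one_mem' := ⟨1, rfl, map_one τ⟩
      mul_mem' := by
        rintro _ _ ⟨u, rfl, hu⟩ ⟨u', rfl, hu'⟩
        exact ⟨u * u', rfl, by rw [map_mul, hu, hu']⟩
      inv_mem' := by
        rintro _ ⟨u, rfl, hu⟩
        exact ⟨u⁻¹, rfl, by rw [map_inv, hu]⟩ }
  have hcard : Nat.card (Q ⧸ Z) ≤ (Subgroup.center L).index * Nat.card Fw := by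
    rw [Subgroup.index_eq_card, ← Nat.card_prod]
    let F : (L ⧸ Subgroup.center L) × Fw → Q ⧸ Z := fun a => ((a.1.out : L) : Q) * (a.2 : Q ⧸ Z)
    refine Nat.card_le_card_of_surjective F fun x => ?_
    induction x using QuotientGroup.induction_on with
    | H x =>
      obtain ⟨l, hl, e, he, rfl⟩ := hdec x
      refine ⟨(((⟨l, hl⟩ : L) : L ⧸ Subgroup.center L), ⟨(e : Q ⧸ Z), e, rfl, he⟩), ?_⟩
      show (((((⟨l, hl⟩ : L) : L ⧸ Subgroup.center L).out : L) : Q) : Q ⧸ Z) * (e : Q ⧸ Z) = _
      obtain ⟨z, hz⟩ := QuotientGroup.mk_out_eq_mul (Subgroup.center L) ⟨l, hl⟩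
      rw [hz, Subgroup.coe_mul, QuotientGroup.mk_mul,
        (QuotientGroup.eq_one_iff _).2 ((hcenL _).1 z.2), mul_one, QuotientGroup.mk_mul]
  refine ⟨j, hjlt, Fw, fun u hu => ⟨u, rfl, hu⟩, fun a ha => ha, ?_⟩
  rcases pow_eq_two_pow_add_one hp.out hodd (show 1 ≤ m - j by omega)
      (show p ^ (m - j) = 2 ^ e + 1 by
        have := pow_pos hp.out.pos (m - j)
        omega) with h | ⟨h3, h2⟩
  · left
    rw [h, pow_one] at hidx
    exact hcard.trans (Nat.mul_le_mul_right _ hidx)
  · right
    refine ⟨h3, by omega, hcard.trans (Nat.mul_le_mul_right _ ?_)⟩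
    rw [h3, h2] at hidx
    exact hidx.trans (by norm_num)

/-- An abelian invariant subgroup is centralised by the top power. -/
theorem top_fixes_of_comm {q : ℕ} [Fact q.Prime] (hpq : p ≠ q) {Q : Type w} [Group Q] [Finite Q]
    (hQ : IsPGroup q Q) {V : Type v} [AddCommGroup V] [Module K V] [FiniteDimensional K V]
    (ψ : Q →* Module.End K V) (hψ : Function.Injective ψ) (α : MulAut Q) (X : Module.End K V)
    (hα : ∀ x, X * ψ x = ψ (α x) * X) {m : ℕ} (hm : 1 ≤ m) (hX : X ^ p ^ m = 1)
    (hrel : (X - 1) ^ (p ^ m - 1) = 0) (L : Subgroup Q) (hLi : ∀ x ∈ L, α x ∈ L)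
    (hLc : ∀ x ∈ L, ∀ y ∈ L, x * y = y * x) : ∀ x ∈ L, (α ^ p ^ (m - 1)) x = x := by
  intro x hx
  by_contra hne
  obtain ⟨αL, hαL⟩ := exists_restrict_aut α L hLi
  rcases minimal_degree hpq _ (Q := L) (m := m) le_rfl hm (hQ.to_subgroup L) αL (ψ.comp L.subtype)
      (hψ.comp L.subtype_injective) X hX
      (fun g => by
        have h := hαL 1 g
        rw [pow_one, pow_one] at h
        show X * ψ (g : Q) = ψ ((αL g : L) : Q) * X
        rw [h]; exact hα _)
      ⟨⟨x, hx⟩, fun h => hne (by
        have h1 := congrArg Subtype.val h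
        rwa [hαL] at h1)⟩ (p ^ m - 1) hrel with h | ⟨n₀, e, -, -, -, -, h5, -⟩
  · have := pow_pos hp.out.pos m
    omega
  · exact h5 ⟨⟨fun a c => Subtype.ext (hLc a a.2 c c.2)⟩⟩

set_option maxHeartbeats 1000000 in
/-- The top powers of elements with short minimal polynomial commute on `Q`. -/
theorem commute_tops {k : ℕ} (hk : 1 ≤ k) (hpk : p = 2 ^ k + 1) :
    ∀ (b : ℕ) {Q : Type w} [Group Q] [Finite Q] {V : Type v} [AddCommGroup V] [Module K V]
      [FiniteDimensional K V], Nat.card Q + finrank K V ≤ b → IsPGroup 2 Q →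
    ∀ (ψ : Q →* Module.End K V), Function.Injective ψ →
    ∀ {P : Type x} [Group P] [Finite P], IsPGroup p P → ∀ (ρ : P →* MulAut Q)
      (π : P →* Module.End K V), (∀ g u, π g * ψ u = ψ (ρ g u) * π g) →
    ∀ (g g' : P) (m m' : ℕ), 1 ≤ m → 1 ≤ m' → (π g - 1) ^ (p ^ m - 1) = 0 →
      (π g' - 1) ^ (p ^ m' - 1) = 0 →
      ρ (g ^ p ^ (m - 1)) * ρ (g' ^ p ^ (m' - 1)) = ρ (g' ^ p ^ (m' - 1)) * ρ (g ^ p ^ (m - 1)) := by
  intro b
  induction b with
  | zero =>
    intro Q _ _ V _ _ _ hc
    have : 0 < Nat.card Q := Nat.card_pos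
    omega
  | succ b ih =>
    intro Q _ _ V _ _ _ hb hQ ψ hψ P _ _ hP ρ π hπ g g' m m' hm hm' hrel hrel'
    by_contra hne
    haveI := Fact.mk Nat.prime_two
    have hp2 : p ≠ 2 := by
      rw [hpk]
      have : 1 ≤ 2 ^ (k - 1) := Nat.one_le_two_pow
      have h2 : 2 ^ k = 2 * 2 ^ (k - 1) := by rw [← pow_succ', Nat.sub_add_cancel hk]
      omega
    have hodd : Odd p := hp.out.odd_of_ne_two hp2
    haveI : Nontrivial V := by
      rcases subsingleton_or_nontrivial V with h | h
      · haveI : Subsingleton Q := ⟨fun a c => hψ (LinearMap.ext fun v => Subsingleton.elim _ _)⟩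
        exact absurd (MulEquiv.ext fun z => Subsingleton.elim _ _) hne
      · exact h
    haveI : CharP (Module.End K V) p :=
      charP_of_injective_algebraMap (FaithfulSMul.algebraMap_injective K _) p
    have hXpow : ∀ (h : P) (M : ℕ), (π h - 1) ^ (p ^ M - 1) = 0 → π h ^ p ^ M = 1 := by
      intro h M hh
      have h1 : (π h - 1) ^ p ^ M = 0 := pow_eq_zero_of_le (Nat.sub_le _ 1) hh
      rwa [sub_pow_char_pow_of_commute p M (Commute.one_right _), one_pow, sub_eq_zero] at h1
    set y := g ^ p ^ (m - 1) with hy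
    set y' := g' ^ p ^ (m' - 1) with hy'
    set c := ⁅y, y'⁆ with hcdef
    have hc1 : ρ c ≠ 1 := by
      rw [hcdef, map_commutatorElement, Ne, commutatorElement_eq_one_iff_mul_comm]
      exact hne
    have hcomm_of : ∀ {R : Type w} [Group R] (σ : P →* MulAut R),
        σ y * σ y' = σ y' * σ y → σ c = 1 := by
      intro R _ σ h
      rw [hcdef, map_commutatorElement, commutatorElement_eq_one_iff_mul_comm]
      exact h
    obtain ⟨eQ, heQ⟩ := IsPGroup.iff_card.1 hQ
    have hcop : ∀ i : ℕ, (p ^ i).Coprime (Nat.card Q) := fun i => by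
      rw [heQ]
      exact ((Nat.coprime_primes hp.out Nat.prime_two).2 hp2).pow i eQ
    obtain ⟨ec, hec⟩ := hP c
    have hcpow : ρ c ^ p ^ ec = 1 := by rw [← map_pow, hec, map_one]
    -- proper invariant subgroups are centralised by `c`
    have hsmall : ∀ L : Subgroup Q, (∀ h, ∀ u ∈ L, ρ h u ∈ L) → L ≠ ⊤ →
        ∀ u ∈ L, ρ c u = u := by
      intro L hL hLt u hu
      have hlt : Nat.card L < Nat.card Q :=
        lt_of_le_of_ne (Nat.le_of_dvd Nat.card_pos (Subgroup.card_subgroup_dvd_card L))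
          (fun he => hLt (Subgroup.eq_top_of_card_eq L he))
      have h := ih (Q := L) (V := V) (by omega) (hQ.to_subgroup L) (ψ.comp L.subtype)
        (hψ.comp L.subtype_injective) hP (restrictAct ρ L hL) π (fun h v => hπ h v) g g' m m' hm
        hm' hrel hrel'
      exact congrArg (fun f : MulAut L => ((f ⟨u, hu⟩ : L) : Q)) (hcomm_of _ h)
    set D := Subgroup.closure {z : Q | ∃ h u, z = (ρ h u)⁻¹ * ρ (h * c) u} with hD
    have hDinv : ∀ h, ∀ u ∈ D, ρ h u ∈ D := by
      intro h u hu
      refine (show D ≤ D.comap (ρ h : Q →* Q) from (Subgroup.closure_le _).2 ?_) hu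
      rintro _ ⟨h', z, rfl⟩
      refine Subgroup.subset_closure ⟨h * h', z, ?_⟩
      show ρ h ((ρ h' z)⁻¹ * ρ (h' * c) z) = _
      rw [map_mul (ρ h), map_inv (ρ h), ← MulAut.mul_apply, ← MulAut.mul_apply, ← map_mul, ← map_mul,
        ← mul_assoc h h' c]
    have hDtop : D = ⊤ := by
      by_contra hDt
      refine hc1 (MulEquiv.ext fun u => ShultGross.eq_of_fixes_twist (p := p ^ ec) (ρ c) hcpow
        (hcop ec) (fun z hz => hsmall D hDinv hDt z ?_) u)
      refine (show ShultGross.twist (ρ c) ≤ D from (Subgroup.closure_le _).2 ?_) hz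
      rintro _ ⟨v, rfl⟩
      exact Subgroup.subset_closure ⟨1, v, by rw [map_one, MulAut.one_apply, one_mul]⟩
    haveI : Nontrivial Q := by
      rcases subsingleton_or_nontrivial Q with h | h
      · exact absurd (MulEquiv.ext fun z => Subsingleton.elim _ _) hc1
      · exact h
    have hchar : ∀ (L : Subgroup Q) [L.Characteristic] (f : MulAut Q), ∀ u ∈ L, f u ∈ L := by
      intro L _ f u hu
      rw [← Subgroup.characteristic_iff_map_eq.1 (inferInstance : L.Characteristic) f]
      exact ⟨u, hu, rfl⟩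
    have hFne : frattini Q ≠ ⊤ := fun h => bot_ne_top
      (frattini_nongenerating (G := Q) (K := ⊥) (by rw [bot_sup_eq, h]))
    have hFc : frattini Q ≤ Subgroup.center Q := by
      intro z hz
      rw [Subgroup.mem_center_iff]
      intro u
      have hFn : (frattini Q).Normal := inferInstance
      have hfixd : ∀ h, ∀ w ∈ frattini Q, ρ (h * c * h⁻¹) w = w := by
        intro h w hw
        rw [map_mul, map_mul, MulAut.mul_apply, MulAut.mul_apply,
          hsmall _ (fun h' => hchar _ (ρ h')) hFne _ (hchar _ (ρ h⁻¹) w hw), ← MulAut.mul_apply,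
          ← map_mul, mul_inv_cancel, map_one, MulAut.one_apply]
      have : D ≤ Subgroup.centralizer {z} := by
        refine (Subgroup.closure_le _).2 ?_
        rintro _ ⟨h, v, rfl⟩
        rw [SetLike.mem_coe, Subgroup.mem_centralizer_singleton_iff]
        set v' := ρ h v with hv'
        have hd : ρ (h * c) v = ρ (h * c * h⁻¹) v' := by
          rw [hv', ← MulAut.mul_apply, ← map_mul, inv_mul_cancel_right]
        rw [hd]
        set d := ρ (h * c * h⁻¹) with hddef
        have h1 := hfixd h _ (hFn.conj_mem z hz v')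
        rw [← hddef, map_mul, map_mul, map_inv, hfixd h z hz] at h1
        calc v'⁻¹ * d v' * z = v'⁻¹ * (d v' * z * (d v')⁻¹) * d v' := by group
          _ = v'⁻¹ * (v' * z * v'⁻¹) * d v' := by rw [h1]
          _ = z * (v'⁻¹ * d v') := by group
      rw [hDtop] at this
      exact Subgroup.mem_centralizer_singleton_iff.1 (this (Subgroup.mem_top u))
    have hQ'c : commutator Q ≤ Subgroup.center Q :=
      (CfsgLib.Solvable.commutator_le_frattini hQ).trans hFc
    have hsq : ∀ u : Q, u * u ∈ Subgroup.center Q := fun u => by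
      rw [← pow_two]
      exact hFc (CfsgLib.Solvable.pow_mem_frattini hQ u)
    -- the centre
    have hfixZ : ∀ (h : P) (M : ℕ), 1 ≤ M → (π h - 1) ^ (p ^ M - 1) = 0 →
        ∀ z ∈ Subgroup.center Q, ρ (h ^ p ^ (M - 1)) z = z := by
      intro h M hM hh z hz
      rw [map_pow]
      exact top_fixes_of_comm hp2 hQ ψ hψ (ρ h) (π h) (hπ h) hM (hXpow h M hh) hh _
        (hchar (Subgroup.center Q) (ρ h)) (fun a ha w _ => (Subgroup.mem_center_iff.1 ha w).symm) z hz
    have hZne : Subgroup.center Q ≠ ⊤ := by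
      intro htop
      refine hne (MulEquiv.ext fun z => ?_)
      rw [MulAut.mul_apply, MulAut.mul_apply]
      have h1 := hfixZ g m hm hrel
      have h2 := hfixZ g' m' hm' hrel'
      rw [h2 z (htop ▸ Subgroup.mem_top z), h1 z (htop ▸ Subgroup.mem_top z),
        h2 z (htop ▸ Subgroup.mem_top z)]
    have hcZ : ∀ z ∈ Subgroup.center Q, ρ c z = z :=
      hsmall _ (fun h => hchar _ (ρ h)) hZne
    -- a constituent on which `c` is not trivial
    set N := ShultGross.twist (ρ c) with hN
    haveI := ShultGross.twist_normal (ρ c)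
    have hNK : (Nat.card N : K) ≠ 0 := by
      rw [Ne, CharP.cast_eq_zero_iff K p]
      intro h
      exact (hp.out.coprime_iff_not_dvd.1 (by simpa using hcop 1))
        (h.trans (Subgroup.card_subgroup_dvd_card N))
    obtain ⟨S, hSne, hSinv, hSirr, n, hn, v, hv, hnv⟩ :=
      exists_irreducible_of_normal N hNK ψ (by
        by_contra! h
        refine hc1 (MulEquiv.ext fun u => ?_)
        have h1 := hψ ((h _ (ShultGross.mem_twist (ρ c) u)).trans (map_one ψ).symm)
        rw [inv_mul_eq_one] at h1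
        rw [MulAut.one_apply, ← h1])
    haveI : Nontrivial S := Submodule.nontrivial_iff_ne_bot.2 hSne
    set ψS := restrictHom ψ S hSinv with hψS
    have hSirr' : ∀ W : Submodule K S, (∀ u, ∀ v ∈ W, ψS u v ∈ W) → W = ⊥ ∨ W = ⊤ := by
      intro W hW
      rcases hSirr (W.map S.subtype) (Submodule.map_subtype_le _ _) (by
        rintro u _ ⟨v, hv, rfl⟩
        exact ⟨ψS u v, hW u v hv, rfl⟩) with h | h
      · exact Or.inl (Submodule.map_injective_of_injective S.injective_subtype
          (h.trans (Submodule.map_bot _).symm))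
      · exact Or.inr (Submodule.map_injective_of_injective S.injective_subtype
          (h.trans (Submodule.map_subtype_top S).symm))
    -- the central character
    set Z := Subgroup.center Q with hZdef
    have hsc : ∀ z : Z, ∃ a : K, ψS z = a • 1 := fun z =>
      exists_eq_smul_one_of_commute (fun u => ψS u) hSirr' (ψS z) fun u => by
        show ψS _ * ψS u = ψS u * ψS _
        rw [← map_mul, ← map_mul, Subgroup.mem_center_iff.1 z.2 u]
    choose a ha using hsc
    have hinjK : ∀ r r' : K, r • (1 : Module.End K S) = r' • 1 → r = r' := fun r r' h =>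
      smul_left_injective K (one_ne_zero (α := Module.End K S)) h
    let lam : Z →* K :=
      { toFun := a
        map_one' := hinjK _ _ (by rw [← ha, Subgroup.coe_one, map_one, one_smul])
        map_mul' := fun z z' => hinjK _ _ (by
          rw [← ha, Subgroup.coe_mul, map_mul, ha, ha, smul_mul_smul_comm, one_mul]) }
    set Vl := ShultGross.charSpace ψ lam with hVl
    have hSVl : S ≤ Vl := fun w hw z => by
      have h := congrArg Subtype.val (LinearMap.congr_fun (ha z) ⟨w, hw⟩)
      exact h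
    have hZK : (Nat.card Z : K) ≠ 0 := by
      rw [Ne, CharP.cast_eq_zero_iff K p]
      intro h
      exact (hp.out.coprime_iff_not_dvd.1 (by simpa using hcop 1))
        (h.trans (Subgroup.card_subgroup_dvd_card Z))
    have hQinv : ∀ u, ∀ w ∈ Vl, ψ u w ∈ Vl := by
      intro u w hw z
      rw [← Module.End.mul_apply, ← map_mul, ← Subgroup.mem_center_iff.1 z.2 u, map_mul,
        Module.End.mul_apply, hw z, map_smul]
    by_cases hVtop : Vl = ⊤
    swap
    · -- pass to the stabiliser of the character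
      let Pl : Subgroup P :=
        { carrier := {h | ∀ z : Z, lam ⟨ρ h z, hchar Z (ρ h) z z.2⟩ = lam z}
          one_mem' := fun z => by simp
          mul_mem' := fun {h h'} hh hh' z => by
            rw [← hh' z, ← hh ⟨ρ h' z, hchar Z (ρ h') z z.2⟩]
            exact congrArg lam (Subtype.ext (show ρ (h * h') (z : Q) = ρ h (ρ h' z) by
              rw [map_mul, MulAut.mul_apply]))
          inv_mem' := fun {h} hh z => by
            rw [← hh ⟨ρ h⁻¹ z, hchar Z (ρ h⁻¹) z z.2⟩]
            exact congrArg lam (Subtype.ext (by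
              show ρ h (ρ h⁻¹ z) = z
              rw [← MulAut.mul_apply, ← map_mul, mul_inv_cancel, map_one, MulAut.one_apply])) }
      have hPinv : ∀ h ∈ Pl, ∀ w ∈ Vl, π h w ∈ Vl := by
        intro h hh w hw z
        obtain ⟨z', hz'⟩ : ∃ z' : Z, ρ h z' = z :=
          ⟨⟨ρ h⁻¹ z, hchar Z (ρ h⁻¹) z z.2⟩, by
            show ρ h (ρ h⁻¹ z) = z
            rw [← MulAut.mul_apply, ← map_mul, mul_inv_cancel, map_one, MulAut.one_apply]⟩
        rw [← hz', ← Module.End.mul_apply, ← hπ, Module.End.mul_apply, hw z', map_smul, ← hh z']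
        exact congrArg (fun r => r • π h w) (congrArg lam (Subtype.ext hz'))
      have hdeg : ∀ (h : P) (M : ℕ), 1 ≤ M → (π h - 1) ^ (p ^ M - 1) = 0 →
          ∃ j, j < M ∧ h ^ p ^ j ∈ Pl ∧
            ∀ w ∈ Vl, ((π (h ^ p ^ j) - 1) ^ (p ^ (M - j) - 1)) w = 0 := by
        intro h M hM hh
        have hN1 : (ρ h) ^ p ^ M = 1 := MulEquiv.ext fun u => hψ (by
          have h1 := hπ (h ^ p ^ M) u
          rw [map_pow, map_pow, hXpow h M hh, one_mul, mul_one] at h1
          rw [MulAut.one_apply]
          exact h1.symm)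
        obtain ⟨P0, hP0, hP0N, hiff, hsum⟩ := ShultGross.sum_stab (ρ h) Z
          (hchar Z (ρ h)) hZK ψ lam (pow_pos hp.out.pos M) hN1 (π h) (hπ h)
        obtain ⟨j, hj, rfl⟩ := (Nat.dvd_prime_pow hp.out).1 hP0N
        have hjM : j < M := by
          have h1 : p ^ j ∣ p ^ (M - 1) := (hiff _).2 fun z hz => congrArg lam (Subtype.ext (by
            show ((ρ h) ^ p ^ (M - 1)) (z : Q) = z
            rw [← map_pow]; exact hfixZ h M hM hh z z.2))
          have := (Nat.pow_dvd_pow_iff_le_right hp.out.one_lt).1 h1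
          omega
        refine ⟨j, hjM, fun z => ?_, fun w hw => ?_⟩
        · have h1 := (hiff _).1 dvd_rfl z (by
            rw [← map_pow]; exact hchar Z (ρ (h ^ p ^ j)) z z.2)
          rw [← h1]
          exact congrArg lam (Subtype.ext (show ρ (h ^ p ^ j) (z : Q) = (ρ h ^ p ^ j) (z : Q) by
            rw [map_pow]))
        · rw [← geom_sum_eq_sub_one_pow, map_pow]
          have h1 := hsum w hw (by
            rw [geom_sum_eq_sub_one_pow, hh, LinearMap.zero_apply])
          rwa [Nat.pow_div hj hp.out.pos] at h1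
      set ψl := restrictHom ψ Vl hQinv with hψl
      let πl : Pl →* Module.End K Vl :=
        { toFun := fun h => (π (h : P)).restrict (hPinv h h.2)
          map_one' := LinearMap.ext fun w => Subtype.ext (by simp)
          map_mul' := fun h h' => LinearMap.ext fun w => Subtype.ext (by
            simp [Module.End.mul_apply]) }
      have hkerP : ∀ h : Pl, ∀ u ∈ ψl.ker, ρ (h : P) u ∈ ψl.ker := by
        intro h u hu
        rw [MonoidHom.mem_ker] at hu ⊢
        refine LinearMap.ext fun w => Subtype.ext ?_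
        rw [hψl, coe_restrictHom, Module.End.one_apply]
        have hwinv : π (h : P)⁻¹ (w : V) ∈ Vl := hPinv _ (inv_mem h.2) w w.2
        have h1 : π (h : P) (π (h : P)⁻¹ (w : V)) = (w : V) := by
          rw [← Module.End.mul_apply, ← map_mul, mul_inv_cancel, map_one, Module.End.one_apply]
        rw [← h1, ← Module.End.mul_apply, ← hπ, Module.End.mul_apply]
        have h2 : ψ u (π (h : P)⁻¹ (w : V)) = π (h : P)⁻¹ (w : V) :=
          congrArg Subtype.val (LinearMap.congr_fun hu ⟨_, hwinv⟩)
        rw [h2]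
      have hmapker : ∀ h : Pl, ψl.ker.map (ρ (h : P) : Q →* Q) = ψl.ker := fun h =>
        Subgroup.eq_of_le_of_card_ge (by rintro _ ⟨u, hu, rfl⟩; exact hkerP h u hu)
          (Subgroup.card_map_of_injective (f := (ρ (h : P) : Q →* Q)) (ρ (h : P)).injective).ge
      let ρl : Pl →* MulAut (Q ⧸ ψl.ker) :=
        { toFun := fun h => QuotientGroup.congr ψl.ker ψl.ker (ρ (h : P)) (hmapker h)
          map_one' := by
            ext u
            induction u using QuotientGroup.induction_on
            simp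
          map_mul' := fun h h' => by
            ext u
            induction u using QuotientGroup.induction_on
            simp [MulAut.mul_apply] }
      let ψQ : Q ⧸ ψl.ker →* Module.End K Vl := QuotientGroup.lift ψl.ker ψl fun u hu => hu
      have hψQ : Function.Injective ψQ := by
        intro u u' hu
        induction u using QuotientGroup.induction_on with
        | H u =>
          induction u' using QuotientGroup.induction_on with
          | H u' =>
            have h : ψl u = ψl u' := hu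
            rw [QuotientGroup.eq, MonoidHom.mem_ker, map_mul, ← h, ← map_mul, inv_mul_cancel,
              map_one]
      have hlt : finrank K Vl < finrank K V := Submodule.finrank_lt hVtop
      have hle : Nat.card (Q ⧸ ψl.ker) ≤ Nat.card Q :=
        Nat.le_of_dvd Nat.card_pos (Subgroup.card_quotient_dvd_card _)
      obtain ⟨j, hjm, hgj, hrl⟩ := hdeg g m hm hrel
      obtain ⟨j', hjm', hgj', hrl'⟩ := hdeg g' m' hm' hrel'
      have hrestr : ∀ (h : Pl) (M : ℕ), (∀ w ∈ Vl, ((π (h : P) - 1) ^ M) w = 0) →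
          (πl h - 1) ^ M = 0 := by
        intro h M hh
        have h1 : ∀ (i : ℕ) (w : Vl),
            ((((πl h - 1) ^ i) w : Vl) : V) = ((π (h : P) - 1) ^ i) w := by
          intro i
          induction i with
          | zero => intro w; simp
          | succ i ih' =>
            intro w
            rw [pow_succ', Module.End.mul_apply, pow_succ' (π (h : P) - 1), Module.End.mul_apply,
              ← ih']
            rfl
        exact LinearMap.ext fun w => Subtype.ext ((h1 M w).trans (hh w w.2))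
      have hpowj : ∀ (h : P) (M i : ℕ), i < M →
          (h ^ p ^ i) ^ p ^ (M - i - 1) = h ^ p ^ (M - 1) := fun h M i hiM => by
        rw [← pow_mul, ← pow_add]
        congr 2
        omega
      have hIH := ih (Q := Q ⧸ ψl.ker) (V := Vl) (by omega) (hQ.to_quotient _) ψQ hψQ
        (hP.to_subgroup Pl) ρl πl
        (fun h u => by
          induction u using QuotientGroup.induction_on with
          | H u => exact LinearMap.ext fun w => Subtype.ext (LinearMap.congr_fun (hπ (h : P) u) w))
        ⟨_, hgj⟩ ⟨_, hgj'⟩ (m - j) (m' - j') (by omega) (by omega)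
        (hrestr _ _ hrl) (hrestr _ _ hrl')
      have hcl : c ∈ Pl := by
        have h1 : y ∈ Pl := by rw [hy, ← hpowj g m j hjm]; exact pow_mem hgj _
        have h2 : y' ∈ Pl := by rw [hy', ← hpowj g' m' j' hjm']; exact pow_mem hgj' _
        exact mul_mem (mul_mem (mul_mem h1 h2) (inv_mem h1)) (inv_mem h2)
      have hρc : ρl ⟨c, hcl⟩ = 1 := by
        have hy1 : ((⟨_, hgj⟩ : Pl) ^ p ^ (m - j - 1) : Pl) = ⟨y, by
            rw [hy, ← hpowj g m j hjm]; exact pow_mem hgj _⟩ :=
          Subtype.ext (by rw [SubgroupClass.coe_pow]; exact hpowj g m j hjm)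
        have hy2 : ((⟨_, hgj'⟩ : Pl) ^ p ^ (m' - j' - 1) : Pl) = ⟨y', by
            rw [hy', ← hpowj g' m' j' hjm']; exact pow_mem hgj' _⟩ :=
          Subtype.ext (by rw [SubgroupClass.coe_pow]; exact hpowj g' m' j' hjm')
        rw [hy1, hy2, ← commutatorElement_eq_one_iff_mul_comm, ← map_commutatorElement] at hIH
        rw [← hIH]
        exact congrArg ρl (Subtype.ext (by simp [hcdef, commutatorElement_def]))
      -- but `c` is not trivial on `S`
      refine hnv ?_
      have hker : N ≤ ψl.ker := by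
        refine (Subgroup.closure_le _).2 ?_
        rintro _ ⟨u, rfl⟩
        rw [SetLike.mem_coe, ← QuotientGroup.eq_one_iff, QuotientGroup.mk_mul,
          QuotientGroup.mk_inv, inv_mul_eq_one]
        exact (congrArg (fun f : MulAut (Q ⧸ ψl.ker) => f (u : Q ⧸ ψl.ker)) hρc).symm
      exact congrArg Subtype.val
        (LinearMap.congr_fun (MonoidHom.mem_ker.1 (hker hn)) ⟨v, hSVl hv⟩)
    -- the centre is scalar
    have hscal : ∀ z ∈ Z, ∃ r : K, ψ z = r • 1 := fun z hz =>
      ⟨lam ⟨z, hz⟩, LinearMap.ext fun w => (show w ∈ Vl from hVtop ▸ Submodule.mem_top) ⟨z, hz⟩⟩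
    letI : CommGroup (Q ⧸ Z) := { (inferInstance : Group (Q ⧸ Z)) with
      mul_comm := fun a' c' => by
        induction a' using QuotientGroup.induction_on with
        | H a' =>
          induction c' using QuotientGroup.induction_on with
          | H c' =>
            show ((a' * c' : Q) : Q ⧸ Z) = ((c' * a' : Q) : Q ⧸ Z)
            rw [QuotientGroup.eq,
              show (a' * c')⁻¹ * (c' * a') = ⁅c'⁻¹, a'⁻¹⁆ by rw [commutatorElement_def]; group]
            exact hQ'c (Subgroup.commutator_mem_commutator (Subgroup.mem_top _) (Subgroup.mem_top _)) }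
    have hmapZ : ∀ f : MulAut Q, Z.map (f : Q →* Q) = Z := fun f =>
      Subgroup.characteristic_iff_map_eq.1 (inferInstance : (Subgroup.center Q).Characteristic) f
    let ρW : P →* MulAut (Q ⧸ Z) :=
      { toFun := fun h => QuotientGroup.congr Z Z (ρ h) (hmapZ (ρ h))
        map_one' := by
          ext u
          induction u using QuotientGroup.induction_on
          simp
        map_mul' := fun h h' => by
          ext u
          induction u using QuotientGroup.induction_on
          simp [MulAut.mul_apply] }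
    have hρW : ∀ h (u : Q), ρW h (u : Q ⧸ Z) = ((ρ h u : Q) : Q ⧸ Z) := fun h u => rfl
    have hW2 : ∀ u : Q ⧸ Z, u * u = 1 := fun u => by
      induction u using QuotientGroup.induction_on with
      | H u => rw [← QuotientGroup.mk_mul, QuotientGroup.eq_one_iff]; exact hsq u
    have hsm : ∀ (h : P) (M : ℕ), 1 ≤ M → (π h - 1) ^ (p ^ M - 1) = 0 →
        ρ (h ^ p ^ (M - 1)) ≠ 1 → IsSmallMove p ρW (h ^ p ^ (M - 1)) := by
      intro h M hM hh hne1
      obtain ⟨j, hj, Fw, hF1, hF2, hF⟩ := small_move_of_relation hk hpk hQ ψ hψ hQ'c hsq hscal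
        (ρ h) (π h) (hπ h) hM (hXpow h M hh) hh
        (fun z hz => by rw [← map_pow]; exact hfixZ h M hM hh z hz) (by rwa [← map_pow])
      have hle : Nat.card Fw ≤ Nat.card (fixSubgroup (ρW (h ^ p ^ (M - 1)))) := by
        refine Nat.card_le_card_of_injective (fun u => (⟨(u : Q ⧸ Z), ?_⟩ :
          fixSubgroup (ρW (h ^ p ^ (M - 1))))) fun u u' huu => Subtype.ext (congrArg Subtype.val huu :)
        obtain ⟨w, hw, hwfix⟩ := hF2 u u.2
        rw [mem_fixSubgroup, ← hw, hρW, map_pow, hwfix]
      rcases hF with hF | ⟨h3, hjM, hF⟩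
      · exact Or.inl (hF.trans (Nat.mul_le_mul_left _ hle))
      · refine Or.inr ⟨h3, hF.trans (Nat.mul_le_mul_left _ hle), h ^ p ^ j, ?_⟩
        rw [← pow_mul, show M - 1 = j + 1 by omega, pow_succ p j]
        congr 2
        exact h3.symm
    have hy1 : ρ y ≠ 1 := fun h => hne (by rw [h, one_mul, mul_one])
    have hy2 : ρ y' ≠ 1 := fun h => hne (by rw [h, one_mul, mul_one])
    have hW := hcomm_of ρW (commute_of_small_moves hk hpk _ le_rfl hW2 hP ρW y y'
      (hsm g m hm hrel hy1) (hsm g' m' hm' hrel' hy2))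
    refine hc1 (MulEquiv.ext fun u => ?_)
    rw [MulAut.one_apply]
    set z := u⁻¹ * ρ c u with hz
    have hzZ : z ∈ Z := by
      rw [hz, ← QuotientGroup.eq, ← hρW, hW]
      rfl
    have hiter : ∀ i : ℕ, (ρ c ^ i) u = u * z ^ i := by
      intro i
      induction i with
      | zero => simp
      | succ i ih' =>
        rw [pow_succ', MulAut.mul_apply, ih', map_mul, map_pow, hcZ z hzZ, pow_succ' z, ← mul_assoc,
          hz, mul_inv_cancel_left]
    have h1 := hiter (p ^ ec)
    rw [hcpow, MulAut.one_apply, left_eq_mul] at h1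
    have h2 : orderOf z = 1 :=
      Nat.eq_one_of_dvd_coprimes (hcop ec) (orderOf_dvd_of_pow_eq_one h1) (orderOf_dvd_natCard z)
    rw [orderOf_eq_one_iff, hz, inv_mul_eq_one] at h2
    exact h2.symm

end CfsgLib.HallHigman
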