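import Mathlib
import Cfsg.Agent.HallHigman.CommutingTops

/-!
For `p = 3`: if in a `p`-group acting on a module along the derived series the `d`-th derived
subgroup kills the `d`-th term, then that subgroup centralises every `2`-group normalised by the
`p`-group and acting faithfully.
-/

set_option autoImplicit false
set_option linter.style.haveILetI false

open Finset Module
open scoped commutatorElement

namespace CfsgLib.HallHigman

universe u v w x

/-- The commutators with the `j`-th derived subgroup land in the `j`-th term. -/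
theorem sub_one_mem {K : Type u} [Field K] {V : Type v} [AddCommGroup V] [Module K V] {P : Type w}
    [Group P] (π : P →* Module.End K V) {d : ℕ} (M : ℕ → Submodule K V) (h0 : M 0 = ⊤)
    (hstep : ∀ j < d, ∀ x ∈ derivedSeries P j, ∀ v ∈ M j, π x v - v ∈ M (j + 1)) :
    ∀ j ≤ d, ∀ x ∈ derivedSeries P j, ∀ v, π x v - v ∈ M j := by
  intro j
  induction j with
  | zero => intro _ x _ v; rw [h0]; exact Submodule.mem_top
  | succ j ih =>
    intro hj x hx
    let S : Subgroup P :=
      { carrier := {y | ∀ v, π y v - v ∈ M (j + 1)}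
        one_mem' := fun v => by simp
        mul_mem' := fun {a c} ha hc v => by
          have h := add_mem (ha (π c v)) (hc v)
          rwa [sub_add_sub_cancel, ← Module.End.mul_apply, ← map_mul] at h
        inv_mem' := fun {a} ha v => by
          have h := neg_mem (ha (π a⁻¹ v))
          rwa [← Module.End.mul_apply, ← map_mul, mul_inv_cancel, map_one, Module.End.one_apply,
            neg_sub] at h }
    have hle : derivedSeries P (j + 1) ≤ S := by
      rw [derivedSeries_succ, Subgroup.commutator_le]
      intro a ha c hc v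
      obtain ⟨w, rfl⟩ : ∃ w, π (c * a) w = v := ⟨π (c * a)⁻¹ v, by
        rw [← Module.End.mul_apply, ← map_mul, mul_inv_cancel, map_one, Module.End.one_apply]⟩
      rw [← Module.End.mul_apply, ← map_mul, show ⁅a, c⁆ * (c * a) = a * c by
        rw [commutatorElement_def]; group]
      have h1 := hstep j (by omega) a ha _ (ih (by omega) c hc w)
      have h2 := hstep j (by omega) c hc _ (ih (by omega) a ha w)
      convert sub_mem h1 h2 using 1
      simp only [map_sub, map_mul, Module.End.mul_apply]
      abel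
    exact hle hx

section Elementary

variable {W : Type w} [CommGroup W] [Finite W]

/-- The map `x ↦ x * f x`. -/
def moveHom (f : MulAut W) : W →* W where
  toFun x := x * f x
  map_one' := by simp
  map_mul' a c := by rw [map_mul, mul_mul_mul_comm]

omit [Finite W] in
theorem mem_moveHom_ker {f : MulAut W} (h2 : ∀ x : W, x * x = 1) {x : W} :
    x ∈ (moveHom f).ker ↔ f x = x := (two_mul_eq h2).trans eq_comm

omit [Finite W] in
theorem apply_mem_moveHom_range {f g : MulAut W} (hfg : Commute f g) {a : W}
    (ha : a ∈ (moveHom f).range) : g a ∈ (moveHom f).range := by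
  obtain ⟨x, rfl⟩ := ha
  refine ⟨g x, ?_⟩
  show g x * f (g x) = g (x * f x)
  rw [map_mul, ← MulAut.mul_apply, hfg.eq, MulAut.mul_apply]

omit [Finite W] in
theorem eq_one_of_mem_range_of_fixed (h2 : ∀ x : W, x * x = 1) {f : MulAut W} (h3 : f ^ 3 = 1)
    {a : W} (ha : a ∈ (moveHom f).range) (hfa : f a = a) : a = 1 := by
  obtain ⟨x, rfl⟩ := ha
  have h : f x * f (f x) = x * f x := (map_mul f _ _).symm.trans hfa
  have h4 : f (f x) = x := mul_left_cancel (h.trans (mul_comm _ _))
  have h5 : f (f (f x)) = x := congrArg (fun g : MulAut W => g x) h3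
  rw [h4] at h5
  show x * f x = 1
  rw [h5, h2]

/-- An automorphism of order three moving at most four elements. -/
theorem range_moveHom_eq (h2 : ∀ x : W, x * x = 1) {f : MulAut W} (h3 : f ^ 3 = 1)
    (hs : Nat.card W ≤ 4 * Nat.card (fixSubgroup f)) {a : W} (ha : a ∈ (moveHom f).range)
    (ha1 : a ≠ 1) : ∀ c ∈ (moveHom f).range, c = 1 ∨ c = a ∨ c = f a ∨ c = f (f a) := by
  intro c hc
  by_contra! hne
  obtain ⟨hc1, hca, hcf, hcff⟩ := hne
  have hcard : Nat.card (moveHom f).range ≤ 4 := by
    have h1 := Subgroup.card_eq_card_quotient_mul_card_subgroup (moveHom f).ker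
    rw [Nat.card_congr (QuotientGroup.quotientKerEquivRange (moveHom f)).toEquiv] at h1
    have h4 : Nat.card (moveHom f).ker = Nat.card (fixSubgroup f) :=
      Nat.card_congr (Equiv.subtypeEquivRight fun x => (mem_moveHom_ker h2).trans mem_fixSubgroup.symm)
    rw [h4] at h1
    rw [h1] at hs
    exact Nat.le_of_mul_le_mul_right hs Nat.card_pos
  have hfa : f a ≠ a := fun h => ha1 (eq_one_of_mem_range_of_fixed h2 h3 ha h)
  have hffa : f (f a) ≠ a := fun h => hfa (by
    have h5 : f (f (f a)) = a := congrArg (fun g : MulAut W => g a) h3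
    rwa [h] at h5)
  have hffa' : f (f a) ≠ f a := fun h => hfa (f.injective h)
  have hf1 : ∀ y, y ≠ 1 → f y ≠ 1 := fun y hy h => hy (by rwa [map_eq_one_iff f f.injective] at h)
  have hr : ∀ y ∈ (moveHom f).range, f y ∈ (moveHom f).range := fun y hy =>
    apply_mem_moveHom_range (Commute.refl f) hy
  classical
  have h5 : ({1, a, f a, f (f a), c} : Finset W).card ≤ 4 := by
    refine le_trans ?_ hcard
    rw [← Nat.card_eq_finsetCard]
    refine Nat.card_mono (s := (↑({1, a, f a, f (f a), c} : Finset W) : Set W))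
      (t := ((moveHom f).range : Set W)) (Set.toFinite _) ?_
    intro y hy
    simp only [Finset.coe_insert, Finset.coe_singleton, Set.mem_insert_iff,
      Set.mem_singleton_iff] at hy
    rcases hy with rfl | rfl | rfl | rfl | rfl
    exacts [one_mem _, ha, hr _ ha, hr _ (hr _ ha), hc]
  rw [Finset.card_insert_of_notMem, Finset.card_insert_of_notMem, Finset.card_insert_of_notMem,
    Finset.card_insert_of_notMem, Finset.card_singleton] at h5
  · omega
  · simp [Ne.symm hcff]
  · simp [Ne.symm hcf, Ne.symm hffa']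
  · simp [Ne.symm hca, Ne.symm hfa, Ne.symm hffa]
  · simp [Ne.symm hc1, Ne.symm ha1, Ne.symm (hf1 a ha1), Ne.symm (hf1 _ (hf1 a ha1))]

omit [Finite W] in
theorem eq_one_of_sq_apply {f : MulAut W} (h3 : f ^ 3 = 1) {x : W} (h : f (f x) = x) : f x = x := by
  have h5 : f (f (f x)) = x := congrArg (fun g : MulAut W => g x) h3
  rwa [h] at h5

/-- A normal set of commuting automorphisms of order three moving little, inside the commutator
subgroup, is trivial. -/
theorem trivial_of_small {P : Type x} [Group P] (hP : IsPGroup 3 P) (h2 : ∀ x : W, x * x = 1)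
    (σ : P →* MulAut W) (B : Subgroup P) [B.Normal] (hB : B ≤ commutator P)
    (hc : ∀ b ∈ B, ∀ b' ∈ B, Commute (σ b) (σ b')) (h3 : ∀ b ∈ B, σ b ^ 3 = 1)
    (hs : ∀ b ∈ B, Nat.card W ≤ 4 * Nat.card (fixSubgroup (σ b))) :
    ∀ b ∈ B, σ b = 1 := by
  intro b0 hb0
  by_contra hne
  set f := σ b0 with hf
  have hf3 : f ^ 3 = 1 := h3 b0 hb0
  -- an element moved by `f`
  obtain ⟨w, hw⟩ : ∃ w, f w ≠ w := by
    by_contra! h
    exact hne (MulEquiv.ext h)
  set a := moveHom f w with ha
  have haA : a ∈ (moveHom f).range := ⟨w, rfl⟩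
  have ha1 : a ≠ 1 := fun h => hw ((mem_moveHom_ker h2).1 h)
  have hA := range_moveHom_eq h2 hf3 (hs b0 hb0) haA ha1
  -- on the moved part everything commuting with `f` is a power of it
  have hpow : ∀ g : MulAut W, Commute f g → g a = a → ∀ c ∈ (moveHom f).range, g c = c := by
    intro g hg hga c hcA
    have hgf : ∀ y, g (f y) = f (g y) := fun y => (congrArg (fun e : MulAut W => e y) hg.eq).symm
    rcases hA c hcA with rfl | rfl | rfl | rfl
    exacts [map_one g, hga, by rw [hgf, hga], by rw [hgf, hgf, hga]]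
  have hexp : ∀ g : MulAut W, Commute f g → ∃ i : ℕ, (f ^ i * g) a = a := by
    intro g hg
    have hgA : g a ∈ (moveHom f).range := apply_mem_moveHom_range hg haA
    rcases hA _ hgA with h | h | h | h
    · exact absurd ((map_eq_one_iff g g.injective).1 h) ha1
    · exact ⟨0, by rw [pow_zero, one_mul, h]⟩
    · refine ⟨2, ?_⟩
      rw [MulAut.mul_apply, h, ← MulAut.mul_apply, ← pow_succ, hf3, MulAut.one_apply]
    · refine ⟨1, ?_⟩
      rw [pow_one, MulAut.mul_apply, h]
      exact congrArg (fun g : MulAut W => g a) hf3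
  -- elements of `B` act as powers of `f`
  have hfix : ∀ g ∈ B, ∀ c, f c = c → σ g c = c := by
    intro g hg c hfc
    by_contra hgc
    have hfg : Commute f (σ g) := hc _ hb0 _ hg
    obtain ⟨h, hhB, hha, hhc⟩ : ∃ h ∈ B, σ h a ≠ a ∧ σ h c = σ g c := by
      by_cases hga : σ g a = a
      · refine ⟨g * b0, mul_mem hg hb0, ?_, ?_⟩
        · rw [map_mul, MulAut.mul_apply]
          intro h
          have h' : σ g (f a) = σ g a := h.trans hga.symm
          exact ha1 (eq_one_of_mem_range_of_fixed h2 hf3 haA ((σ g).injective h'))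
        · rw [map_mul, MulAut.mul_apply, ← hf, hfc]
      · exact ⟨g, hg, hga, rfl⟩
    set F := σ h with hF
    have hFf : Commute f F := hc _ hb0 _ hhB
    have hFa : F a ∈ (moveHom f).range := apply_mem_moveHom_range hFf haA
    set a' := moveHom F a with ha'
    have ha'A : a' ∈ (moveHom f).range := mul_mem haA hFa
    have ha'1 : a' ≠ 1 := fun h => hha ((mem_moveHom_ker h2).1 h)
    have hall := range_moveHom_eq h2 (h3 h hhB) (hs h hhB) ⟨a, rfl⟩ ha'1 (moveHom F c) ⟨c, rfl⟩
    have hcA : moveHom F c ∈ (moveHom f).range := by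
      rcases hall with e | e | e | e <;> rw [e]
      exacts [one_mem _, ha'A, apply_mem_moveHom_range hFf ha'A,
        apply_mem_moveHom_range hFf (apply_mem_moveHom_range hFf ha'A)]
    have hfix' : f (moveHom F c) = moveHom F c := by
      show f (c * F c) = c * F c
      rw [map_mul, hfc, ← MulAut.mul_apply, hFf.eq, MulAut.mul_apply, hfc]
    have h6 := eq_one_of_mem_range_of_fixed h2 hf3 hcA hfix'
    exact hgc (hhc ▸ ((two_mul_eq h2).1 h6).symm)
  have hBpow : ∀ g ∈ B, ∃ i : ℕ, σ g = f ^ i := by
    intro g hg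
    obtain ⟨i, hi⟩ := hexp (σ g) (hc _ hb0 _ hg)
    set F := f ^ i * σ g with hF
    have hF1 : F = 1 := by
      refine MulEquiv.ext fun y => ?_
      have hmem : b0 ^ i * g ∈ B := mul_mem (pow_mem hb0 i) hg
      have hFσ : F = σ (b0 ^ i * g) := by rw [map_mul, map_pow]
      have hFf : Commute f F := hFσ ▸ hc _ hb0 _ hmem
      have h1 : F (y * f y) = y * f y := hpow F hFf hi _ ⟨y, rfl⟩
      have h4 : y * F y ∈ (moveHom f).ker := by
        show y * F y * f (y * F y) = 1
        have h1' : F y * F (f y) = y * f y := (map_mul F _ _).symm.trans h1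
        rw [map_mul f, show f (F y) = F (f y) from congrArg (fun e : MulAut W => e y) hFf.eq,
          mul_mul_mul_comm, h1', h2]
      have h5 := hfix _ hmem _ ((mem_moveHom_ker h2).1 h4)
      rw [← hFσ, map_mul] at h5
      rw [MulAut.one_apply]
      refine eq_one_of_sq_apply (hFσ ▸ h3 _ hmem) ?_
      rw [mul_comm] at h5
      exact mul_right_cancel h5
    refine ⟨2 * i, ?_⟩
    have h7 : f ^ (2 * i) * (f ^ i * σ g) = σ g := by
      rw [← mul_assoc, ← pow_add, show 2 * i + i = 3 * i by ring, pow_mul, hf3, one_pow, one_mul]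
    rw [← h7, ← hF, hF1, mul_one]
  -- `f` is central
  have hcen : ∀ x : P, Commute f (σ x) := by
    intro x
    obtain ⟨i, hi⟩ := hBpow _ ((inferInstance : B.Normal).conj_mem b0 hb0 x)
    rw [map_mul, map_mul, map_inv, ← hf] at hi
    have hi' : σ x * f = f ^ i * σ x := by rw [← hi, inv_mul_cancel_right]
    rw [← Nat.mod_add_div i 3, pow_add, pow_mul, hf3, one_pow, mul_one] at hi'
    rcases (show i % 3 = 0 ∨ i % 3 = 1 ∨ i % 3 = 2 by omega) with h | h | h <;> rw [h] at hi'
    · exfalso
      rw [pow_zero, one_mul, mul_eq_left] at hi'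
      exact hne hi'
    · rw [pow_one] at hi'
      exact hi'.symm
    · have hsq : Commute f (σ x ^ 2) := by
        show f * σ x ^ 2 = σ x ^ 2 * f
        rw [pow_two (σ x), mul_assoc (σ x) (σ x) f, hi', ← mul_assoc (σ x) (f ^ 2) (σ x),
          pow_two f, ← mul_assoc (σ x) f f, hi', mul_assoc (f ^ 2) (σ x) f, hi']
        rw [← mul_assoc (f ^ 2) (f ^ 2), ← pow_add, show f ^ (2 + 2) = f by
          rw [pow_succ, hf3, one_mul], mul_assoc]
      obtain ⟨k, hk⟩ := hP x
      obtain ⟨t, ht⟩ : Odd (3 ^ k) := (show Odd 3 by decide).pow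
      have hx' : σ x = (σ x ^ 2) ^ (t + 1) := by
        rw [← pow_mul, show 2 * (t + 1) = (2 * t + 1) + 1 by ring, ← ht, pow_succ, ← map_pow, hk,
          map_one, one_mul]
      rw [hx']
      exact hsq.pow_right _
  -- commutators are trivial on the moved part
  let T : Subgroup P :=
    { carrier := {x | σ x a = a}
      one_mem' := by simp
      mul_mem' := fun {x y} hx hy => by
        show σ (x * y) a = a
        rw [map_mul, MulAut.mul_apply, show σ y a = a from hy, show σ x a = a from hx]
      inv_mem' := fun {x} hx => by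
        show σ x⁻¹ a = a
        conv_lhs => rw [← show σ x a = a from hx]
        rw [← MulAut.mul_apply, ← map_mul, inv_mul_cancel, map_one, MulAut.one_apply] }
  have hT : commutator P ≤ T := by
    rw [commutator_def, Subgroup.commutator_le]
    intro x _ y _
    obtain ⟨i, hi⟩ := hexp _ (hcen x)
    obtain ⟨j, hj⟩ := hexp _ (hcen y)
    show σ ⁅x, y⁆ a = a
    have hinv : ∀ (z : P) (i : ℕ), (f ^ i * σ z) a = a → σ z a = (f ^ i)⁻¹ a := fun z i h => by
      rw [← MulAut.inv_apply_self _ (f ^ i) (σ z a)]
      exact congrArg (fun w => ((f ^ i)⁻¹ : MulAut W) w) h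
    have hxa := hinv x i hi
    have hya := hinv y j hj
    have hfi : ∀ (z : P) (i : ℕ) w, σ z ((f ^ i)⁻¹ w) = (f ^ i)⁻¹ (σ z w) := fun z i w =>
      congrArg (fun g : MulAut W => g w) (((hcen z).pow_left i).inv_left).symm.eq
    have hcm : (σ x * σ y) a = (σ y * σ x) a := by
      rw [MulAut.mul_apply, MulAut.mul_apply, hya, hxa, hfi, hfi, hxa, hya, ← MulAut.mul_apply,
        ← MulAut.mul_apply, ((Commute.refl f).pow_pow i j).inv_inv.eq]
    rw [map_commutatorElement, commutatorElement_def,
      show σ x * σ y * (σ x)⁻¹ * (σ y)⁻¹ = σ x * σ y * (σ y * σ x)⁻¹ by group]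
    have hcm2 : ∀ w, w ∈ (moveHom f).range → (σ x * σ y) w = (σ y * σ x) w := by
      intro w hw'
      have hfc : Commute f (σ x * σ y) := (hcen x).mul_right (hcen y)
      have hfc' : Commute f (σ y * σ x) := (hcen y).mul_right (hcen x)
      have hd := hpow ((σ y * σ x)⁻¹ * (σ x * σ y)) (hfc'.inv_right.mul_right hfc) (by
        rw [MulAut.mul_apply, hcm, MulAut.inv_apply_self]) w hw'
      rw [MulAut.mul_apply] at hd
      have := congrArg (σ y * σ x) hd
      rwa [MulAut.apply_inv_self] at this
    rw [MulAut.mul_apply, hcm2 _ (apply_mem_moveHom_range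
      (((hcen y).mul_right (hcen x)).inv_right) haA), MulAut.apply_inv_self]
  exact ha1 (eq_one_of_mem_range_of_fixed h2 hf3 haA (hT (hB hb0)))

end Elementary

section Characters

variable {K : Type u} [Field K] {Q : Type w} [Group Q] [Finite Q] {V : Type v} [AddCommGroup V]
  [Module K V]

/-- A multiple of the projection to the vectors on which the centre acts by `μ`. -/
noncomputable def charProj (ψ : Q →* Module.End K V) (μ : Subgroup.center Q →* K) :
    Module.End K V :=
  letI := Fintype.ofFinite (Subgroup.center Q)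
  (Nat.card (Subgroup.center Q) : K)⁻¹ • ∑ z : Subgroup.center Q, μ z⁻¹ • ψ (z : Q)

theorem ψ_mul_charProj (ψ : Q →* Module.End K V) (μ : Subgroup.center Q →* K)
    (z : Subgroup.center Q) : ψ (z : Q) * charProj ψ μ = μ z • charProj ψ μ := by
  letI := Fintype.ofFinite (Subgroup.center Q)
  rw [charProj, mul_smul_comm, smul_comm (μ z), Finset.mul_sum, Finset.smul_sum (r := μ z)]
  congr 1
  refine Fintype.sum_equiv (Equiv.mulLeft z) _ _ fun x => ?_
  rw [Equiv.coe_mulLeft, mul_smul_comm, smul_smul, ← map_mul μ, ← map_mul ψ, Subgroup.coe_mul,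
    mul_inv_rev, mul_comm' z (x⁻¹ * z⁻¹), inv_mul_cancel_right]

theorem charProj_mul_ψ (ψ : Q →* Module.End K V) (μ : Subgroup.center Q →* K) (u : Q) :
    charProj ψ μ * ψ u = ψ u * charProj ψ μ := by
  letI := Fintype.ofFinite (Subgroup.center Q)
  rw [charProj, mul_smul_comm, smul_mul_assoc, Finset.mul_sum, Finset.sum_mul]
  congr 1
  refine Finset.sum_congr rfl fun x _ => ?_
  rw [smul_mul_assoc, mul_smul_comm, ← map_mul, ← map_mul, Subgroup.mem_center_iff.1 x.2 u]

theorem charProj_apply_of_eigen (ψ : Q →* Module.End K V) (μ : Subgroup.center Q →* K)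
    (hK : (Nat.card (Subgroup.center Q) : K) ≠ 0) {v : V}
    (hv : ∀ z : Subgroup.center Q, ψ (z : Q) v = μ z • v) : charProj ψ μ v = v := by
  letI := Fintype.ofFinite (Subgroup.center Q)
  rw [charProj, LinearMap.smul_apply, LinearMap.sum_apply,
    Finset.sum_congr rfl fun x _ => show (μ x⁻¹ • ψ (x : Q)) v = v by
      rw [LinearMap.smul_apply, hv, smul_smul, ← map_mul, inv_mul_cancel, map_one, one_smul],
    Finset.sum_const, Finset.card_univ, ← Nat.card_eq_fintype_card, ← Nat.cast_smul_eq_nsmul K,
    smul_smul, inv_mul_cancel₀ hK, one_smul]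

theorem charProj_mul_of_ne (ψ : Q →* Module.End K V) {μ ν : Subgroup.center Q →* K} (h : μ ≠ ν) :
    charProj ψ μ * charProj ψ ν = 0 := by
  obtain ⟨z, hz⟩ : ∃ z, μ z ≠ ν z := by
    by_contra! hh
    exact h (MonoidHom.ext hh)
  have h1 : μ z • (charProj ψ μ * charProj ψ ν) = ν z • (charProj ψ μ * charProj ψ ν) := by
    rw [← smul_mul_assoc, ← ψ_mul_charProj, ← charProj_mul_ψ, mul_assoc, ψ_mul_charProj,
      mul_smul_comm]
  rw [← sub_eq_zero, ← sub_smul, smul_eq_zero] at h1
  exact h1.resolve_left (sub_ne_zero.2 hz)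

theorem charProj_mul_self (ψ : Q →* Module.End K V) (μ : Subgroup.center Q →* K)
    (hK : (Nat.card (Subgroup.center Q) : K) ≠ 0) :
    charProj ψ μ * charProj ψ μ = charProj ψ μ :=
  LinearMap.ext fun v => charProj_apply_of_eigen ψ μ hK fun z =>
    LinearMap.congr_fun (ψ_mul_charProj ψ μ z) v

theorem charProj_twist (ψ : Q →* Module.End K V) (α : MulAut Q) (X : Module.End K V)
    (hα : ∀ u, X * ψ u = ψ (α u) * X) (μ μ' : Subgroup.center Q →* K)
    (hμ : ∀ z z' : Subgroup.center Q, (z' : Q) = α z → μ' z' = μ z) :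
    X * charProj ψ μ = charProj ψ μ' * X := by
  letI := Fintype.ofFinite (Subgroup.center Q)
  let α' : Subgroup.center Q → Subgroup.center Q := fun z => ⟨α z, by
    exact (Subgroup.characteristic_iff_map_eq.1
      (inferInstance : (Subgroup.center Q).Characteristic) α).le ⟨_, z.2, rfl⟩⟩
  have hinj : Function.Injective α' := fun a b h =>
    Subtype.ext (α.injective (congrArg Subtype.val h))
  rw [charProj, charProj, mul_smul_comm, smul_mul_assoc, Finset.mul_sum, Finset.sum_mul]
  congr 1
  refine Fintype.sum_equiv (Equiv.ofBijective α' (Finite.injective_iff_bijective.1 hinj)) _ _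
    fun z => ?_
  show X * (μ z⁻¹ • ψ (z : Q)) = μ' (α' z)⁻¹ • ψ ((α' z : Subgroup.center Q) : Q) * X
  rw [mul_smul_comm, hα, smul_mul_assoc, hμ z⁻¹ (α' z)⁻¹ (by
    rw [Subgroup.coe_inv, Subgroup.coe_inv, map_inv])]

end Characters

/-- Passing to the range of an idempotent commuting with the action of a subgroup. -/
theorem kill_restrict {K : Type u} [Field K] {Q : Type w} [Group Q] [Finite Q] {V : Type v}
    [AddCommGroup V] [Module K V] [FiniteDimensional K V] {P : Type x} [Group P] [Finite P]
    (ψ : Q →* Module.End K V) (ρ : P →* MulAut Q) (π : P →* Module.End K V)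
    (hπ : ∀ g u, π g * ψ u = ψ (ρ g u) * π g) (M : ℕ → Submodule K V) (d d' s : ℕ)
    (hd : d' + s = d) (R : Subgroup P)
    (hR : ∀ j, (derivedSeries R j).map R.subtype ≤ derivedSeries P (j + s))
    (hstep : ∀ j < d, ∀ x ∈ derivedSeries P j, ∀ v ∈ M j, π x v - v ∈ M (j + 1))
    (htop : ∀ x ∈ derivedSeries P d, ∀ v ∈ M d, π x v = v)
    (E : Module.End K V) (hE : E * E = E) (hEψ : ∀ u, E * ψ u = ψ u * E)
    (hEπ : ∀ h ∈ R, E * π h = π h * E) (hsurj : ∀ v, ∃ v' ∈ M s, E v' = E v)
    (IH : ∀ (S : Submodule K V), S = LinearMap.range E → ∀ (N : Subgroup Q) [N.Normal]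
      (ψ' : Q ⧸ N →* Module.End K S), Function.Injective ψ' →
      ∀ (ρ' : R →* MulAut (Q ⧸ N)) (π' : R →* Module.End K S),
      (∀ g u, π' g * ψ' u = ψ' (ρ' g u) * π' g) → ∀ M' : ℕ → Submodule K S, M' 0 = ⊤ →
      (∀ j < d', ∀ x ∈ derivedSeries R j, ∀ v ∈ M' j, π' x v - v ∈ M' (j + 1)) →
      (∀ x ∈ derivedSeries R d', ∀ v ∈ M' d', π' x v = v) →
      ∀ x ∈ derivedSeries R d', ρ' x = 1) :
    ∀ x ∈ derivedSeries R d', ∀ u, ψ (u⁻¹ * ρ (x : P) u) * E = E := by
  set S := LinearMap.range E with hS
  have hES : ∀ w ∈ S, E w = w := by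
    rintro _ ⟨w, rfl⟩
    exact LinearMap.congr_fun hE w
  have hSi : ∀ (T : Module.End K V), E * T = T * E → ∀ w ∈ S, T w ∈ S := by
    rintro T hT _ ⟨w, rfl⟩
    exact ⟨T w, LinearMap.congr_fun hT w⟩
  set ψS := restrictHom ψ S (fun u => hSi _ (hEψ u)) with hψS
  let πS : R →* Module.End K S :=
    { toFun := fun h => (π (h : P)).restrict (hSi _ (hEπ h h.2))
      map_one' := LinearMap.ext fun w => Subtype.ext (by simp)
      map_mul' := fun h h' => LinearMap.ext fun w => Subtype.ext (by
        simp [Module.End.mul_apply]) }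
  have hcomp : ∀ (g : R) u, πS g * ψS u = ψS (ρ (g : P) u) * πS g := fun g u =>
    LinearMap.ext fun w => Subtype.ext (LinearMap.congr_fun (hπ (g : P) u) (w : V))
  have hker : ∀ h : R, ∀ u ∈ ψS.ker, ρ (h : P) u ∈ ψS.ker := by
    intro h u hu
    rw [MonoidHom.mem_ker] at hu ⊢
    have h1 := hcomp h u
    rw [hu, mul_one] at h1
    calc ψS (ρ (h : P) u) = ψS (ρ (h : P) u) * (πS h * πS h⁻¹) := by
          rw [← map_mul, mul_inv_cancel, map_one, mul_one]
      _ = 1 := by rw [← mul_assoc, ← h1, ← map_mul, mul_inv_cancel, map_one]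
  have hmapker : ∀ h : R, ψS.ker.map (ρ (h : P) : Q →* Q) = ψS.ker := fun h =>
    Subgroup.eq_of_le_of_card_ge (by rintro _ ⟨u, hu, rfl⟩; exact hker h u hu)
      (Subgroup.card_map_of_injective (f := (ρ (h : P) : Q →* Q)) (ρ (h : P)).injective).ge
  let ρS : R →* MulAut (Q ⧸ ψS.ker) :=
    { toFun := fun h => QuotientGroup.congr ψS.ker ψS.ker (ρ (h : P)) (hmapker h)
      map_one' := by
        ext u
        induction u using QuotientGroup.induction_on
        simp
      map_mul' := fun h h' => by
        ext u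
        induction u using QuotientGroup.induction_on
        simp [MulAut.mul_apply] }
  let ψQ : Q ⧸ ψS.ker →* Module.End K S := QuotientGroup.lift ψS.ker ψS fun u hu => hu
  have hψQ : Function.Injective ψQ := by
    intro u u' hu
    induction u using QuotientGroup.induction_on with
    | H u =>
      induction u' using QuotientGroup.induction_on with
      | H u' =>
        have h : ψS u = ψS u' := hu
        rw [QuotientGroup.eq, MonoidHom.mem_ker, map_mul, ← h, ← map_mul, inv_mul_cancel,
          map_one]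
  let M' : ℕ → Submodule K S := fun j => ((M (j + s)).map E).comap S.subtype
  have hmem : ∀ j, ∀ x ∈ derivedSeries R j, (x : P) ∈ derivedSeries P (j + s) := fun j x hx =>
    hR j ⟨x, hx, rfl⟩
  have h := IH S rfl ψS.ker ψQ hψQ ρS πS (fun g u => by
      induction u using QuotientGroup.induction_on with
      | H u => exact hcomp g u) M'
    (by
      refine eq_top_iff.2 fun w _ => ?_
      obtain ⟨v', hv', he⟩ := hsurj w
      show (w : V) ∈ (M (0 + s)).map E
      rw [zero_add]
      exact ⟨v', hv', he.trans (hES _ w.2)⟩)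
    (fun j hj x hx w hw => by
      obtain ⟨v, hv, hvw⟩ := hw
      refine ⟨π (x : P) v - v, ?_, ?_⟩
      · rw [show j + 1 + s = j + s + 1 by omega]
        exact hstep (j + s) (by omega) _ (hmem j x hx) v hv
      · rw [map_sub, ← Module.End.mul_apply, hEπ _ x.2, Module.End.mul_apply, hvw]
        rfl)
    (fun x hx w hw => by
      obtain ⟨v, hv, hvw⟩ := hw
      refine Subtype.ext ?_
      show π (x : P) (w : V) = (w : V)
      change E v = (w : V) at hvw
      rw [← hvw, ← Module.End.mul_apply, ← hEπ _ x.2, Module.End.mul_apply,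
        htop _ (hd ▸ hmem d' x hx) v (hd ▸ hv)])
  intro x hx u
  have h1 : ψQ ((u⁻¹ * ρ (x : P) u : Q) : Q ⧸ ψS.ker) = 1 := by
    rw [QuotientGroup.mk_mul, QuotientGroup.mk_inv]
    have h2 : ρS x (u : Q ⧸ ψS.ker) = (u : Q ⧸ ψS.ker) := by rw [h x hx, MulAut.one_apply]
    rw [show ((ρ (x : P) u : Q) : Q ⧸ ψS.ker) = (u : Q ⧸ ψS.ker) from h2, inv_mul_cancel, map_one]
  refine LinearMap.ext fun w => ?_
  exact congrArg Subtype.val (LinearMap.congr_fun h1 ⟨E w, ⟨w, rfl⟩⟩)

set_option maxHeartbeats 1000000 in
/-- If the `d`-th derived subgroup kills the `d`-th term, it centralises `Q`. -/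
theorem derived_kill {K : Type u} [Field K] [IsAlgClosed K] [CharP K 3] :
    ∀ (n : ℕ) {Q : Type w} [Group Q] [Finite Q] {V : Type v} [AddCommGroup V] [Module K V]
      [FiniteDimensional K V], IsPGroup 2 Q → ∀ (ψ : Q →* Module.End K V), Function.Injective ψ →
    ∀ {P : Type x} [Group P] [Finite P], IsPGroup 3 P → ∀ (ρ : P →* MulAut Q)
      (π : P →* Module.End K V), (∀ g u, π g * ψ u = ψ (ρ g u) * π g) →
    ∀ (d : ℕ) (M : ℕ → Submodule K V), d + Nat.card Q + finrank K V ≤ n → M 0 = ⊤ →
      (∀ j < d, ∀ x ∈ derivedSeries P j, ∀ v ∈ M j, π x v - v ∈ M (j + 1)) →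
      (∀ x ∈ derivedSeries P d, ∀ v ∈ M d, π x v = v) →
      ∀ x ∈ derivedSeries P d, ρ x = 1 := by
  intro n
  induction n with
  | zero =>
    intro Q _ _ V _ _ _ _ _ _ P _ _ _ _ _ _ d M hb
    have : 0 < Nat.card Q := Nat.card_pos
    omega
  | succ n ih =>
    intro Q _ _ V _ _ _ hQ ψ hψ P _ _ hP ρ π hπ d M hb hM0 hstep htop
    haveI := Fact.mk Nat.prime_two
    haveI hp : Fact (Nat.Prime 3) := Fact.mk Nat.prime_three
    rcases d with _ | d
    · intro x hx
      refine MulEquiv.ext fun u => hψ ?_
      have h1 : π x = 1 := LinearMap.ext fun v => htop x hx v (hM0 ▸ Submodule.mem_top)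
      have h2 := hπ x u
      rw [h1, one_mul, mul_one] at h2
      rw [MulAut.one_apply, ← h2]
    by_contra! hcon
    obtain ⟨b₀, hb₀, hb₀ne⟩ := hcon
    set B := derivedSeries P (d + 1) with hB
    haveI hBn : B.Normal := derivedSeries_normal P _
    have hA := sub_one_mem π M hM0 hstep (d + 1) le_rfl
    have hprod : ∀ x ∈ B, ∀ y ∈ B, (π x - 1) * (π y - 1) = 0 := fun x hx y hy =>
      LinearMap.ext fun v => by
        show π x (π y v - v) - (π y v - v) = 0
        rw [htop x hx _ (hA y hy v), sub_self]
    have hsq : ∀ x ∈ B, (π x - 1) ^ (3 ^ 1 - 1) = 0 := fun x hx => by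
      show (π x - 1) ^ 2 = 0
      rw [pow_two, hprod x hx x hx]
    haveI : Nontrivial V := by
      rcases subsingleton_or_nontrivial V with h | h
      · haveI : Subsingleton Q := ⟨fun a c => hψ (LinearMap.ext fun v => Subsingleton.elim _ _)⟩
        exact absurd (MulEquiv.ext fun z => Subsingleton.elim _ _) hb₀ne
      · exact h
    haveI : CharP (Module.End K V) 3 :=
      charP_of_injective_algebraMap (FaithfulSMul.algebraMap_injective K _) 3
    have hX3 : ∀ x ∈ B, π x ^ 3 ^ 1 = 1 := fun x hx => by
      have h1 : (π x - 1) ^ 3 ^ 1 = 0 := pow_eq_zero_of_le (Nat.sub_le _ 1) (hsq x hx)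
      rwa [sub_pow_char_pow_of_commute 3 1 (Commute.one_right _), one_pow, sub_eq_zero] at h1
    have hρeq : ∀ x y : P, π x = π y → ρ x = ρ y := fun x y h => MulEquiv.ext fun u => hψ (by
      have h1 := hπ x u
      rw [h, hπ y u] at h1
      have h2 := congrArg (fun T => T * π y⁻¹) h1
      simp only [mul_assoc, ← map_mul π, mul_inv_cancel, map_one, mul_one] at h2
      exact h2.symm)
    have hcommπ : ∀ x ∈ B, ∀ y ∈ B, π x * π y = π y * π x := by
      intro x hx y hy
      have h := (hprod x hx y hy).trans (hprod y hy x hx).symm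
      simp only [sub_mul, mul_sub, one_mul, mul_one] at h
      rw [← sub_eq_zero] at h ⊢
      rw [← h]
      abel
    have hcomm : ∀ x ∈ B, ∀ y ∈ B, Commute (ρ x) (ρ y) := fun x hx y hy => by
      show ρ x * ρ y = ρ y * ρ x
      rw [← map_mul, ← map_mul]
      exact hρeq _ _ (by rw [map_mul, map_mul, hcommπ x hx y hy])
    have hρ3 : ∀ x ∈ B, ρ x ^ 3 = 1 := fun x hx => by
      rw [← map_pow, ← map_one ρ]
      exact hρeq _ _ (by rw [map_pow, map_one]; simpa using hX3 x hx)
    have hp2 : (3 : ℕ) ≠ 2 := by norm_num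
    obtain ⟨eQ, heQ⟩ := IsPGroup.iff_card.1 hQ
    have hcop : Nat.Coprime 3 (Nat.card Q) := by
      rw [heQ]
      exact (show Nat.Coprime 3 2 by norm_num).pow_right eQ
    -- proper invariant subgroups are centralised by `B`
    have hsmall : ∀ L : Subgroup Q, (∀ h, ∀ u ∈ L, ρ h u ∈ L) → L ≠ ⊤ →
        ∀ x ∈ B, ∀ u ∈ L, ρ x u = u := by
      intro L hL hLt x hx u hu
      have hlt : Nat.card L < Nat.card Q :=
        lt_of_le_of_ne (Nat.le_of_dvd Nat.card_pos (Subgroup.card_subgroup_dvd_card L))
          (fun he => hLt (Subgroup.eq_top_of_card_eq L he))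
      have h := ih (Q := L) (V := V) (hQ.to_subgroup L) (ψ.comp L.subtype)
        (hψ.comp L.subtype_injective) hP (restrictAct ρ L hL) π (fun h v => hπ h v) (d + 1) M
        (by omega) hM0 hstep htop x hx
      exact congrArg (fun f : MulAut L => ((f ⟨u, hu⟩ : L) : Q)) h
    set D := Subgroup.closure {z : Q | ∃ x ∈ B, ∃ u, z = u⁻¹ * ρ x u} with hD
    have hDinv : ∀ h, ∀ u ∈ D, ρ h u ∈ D := by
      intro h u hu
      refine (show D ≤ D.comap (ρ h : Q →* Q) from (Subgroup.closure_le _).2 ?_) hu
      rintro _ ⟨x, hx, z, rfl⟩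
      refine Subgroup.subset_closure ⟨h * x * h⁻¹, hBn.conj_mem x hx h, ρ h z, ?_⟩
      show ρ h (z⁻¹ * ρ x z) = _
      rw [map_mul (ρ h), map_inv (ρ h), map_mul ρ, map_mul ρ, map_inv, MulAut.mul_apply,
        MulAut.mul_apply, MulAut.inv_apply_self]
    have hDtop : D = ⊤ := by
      by_contra hDt
      refine hb₀ne (MulEquiv.ext fun u => ?_)
      rw [MulAut.one_apply]
      refine ShultGross.eq_of_fixes_twist (p := 3) (ρ b₀) (hρ3 b₀ hb₀) hcop
        (fun z hz => hsmall D hDinv hDt b₀ hb₀ z ?_) u
      refine (show ShultGross.twist (ρ b₀) ≤ D from (Subgroup.closure_le _).2 ?_) hz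
      rintro _ ⟨v, rfl⟩
      exact Subgroup.subset_closure ⟨b₀, hb₀, v, rfl⟩
    haveI : Nontrivial Q := by
      rcases subsingleton_or_nontrivial Q with h | h
      · exact absurd (MulEquiv.ext fun z => Subsingleton.elim _ _) hb₀ne
      · exact h
    have hchar : ∀ (L : Subgroup Q) [L.Characteristic] (f : MulAut Q), ∀ u ∈ L, f u ∈ L := by
      intro L _ f u hu
      rw [← Subgroup.characteristic_iff_map_eq.1 (inferInstance : L.Characteristic) f]
      exact ⟨u, hu, rfl⟩
    have hFne : frattini Q ≠ ⊤ := fun h => bot_ne_top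
      (frattini_nongenerating (G := Q) (K := ⊥) (by rw [bot_sup_eq, h]))
    have hFc : frattini Q ≤ Subgroup.center Q := by
      intro z hz
      rw [Subgroup.mem_center_iff]
      intro u
      have hFn : (frattini Q).Normal := inferInstance
      have : D ≤ Subgroup.centralizer {z} := by
        refine (Subgroup.closure_le _).2 ?_
        rintro _ ⟨x, hx, v, rfl⟩
        rw [SetLike.mem_coe, Subgroup.mem_centralizer_singleton_iff]
        have hf := hsmall _ (fun h => hchar _ (ρ h)) hFne x hx
        have h1 := hf _ (hFn.conj_mem z hz v)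
        rw [map_mul, map_mul, map_inv, hf z hz] at h1
        calc v⁻¹ * ρ x v * z = v⁻¹ * (ρ x v * z * (ρ x v)⁻¹) * ρ x v := by group
          _ = v⁻¹ * (v * z * v⁻¹) * ρ x v := by rw [h1]
          _ = z * (v⁻¹ * ρ x v) := by group
      rw [hDtop] at this
      exact Subgroup.mem_centralizer_singleton_iff.1 (this (Subgroup.mem_top u))
    have hQ'c : commutator Q ≤ Subgroup.center Q :=
      (CfsgLib.Solvable.commutator_le_frattini hQ).trans hFc
    have hsqZ : ∀ u : Q, u * u ∈ Subgroup.center Q := fun u => by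
      rw [← pow_two]
      exact hFc (CfsgLib.Solvable.pow_mem_frattini hQ u)
    set Z := Subgroup.center Q with hZdef
    have hfixZ : ∀ x ∈ B, ∀ z ∈ Z, ρ x z = z := by
      intro x hx z hz
      have h := top_fixes_of_comm (p := 3) hp2 hQ ψ hψ (ρ x) (π x) (hπ x) le_rfl (hX3 x hx)
        (hsq x hx) _ (hchar Z (ρ x)) (fun a ha w _ => (Subgroup.mem_center_iff.1 ha w).symm) z hz
      simpa using h
    -- a constituent on which `b₀` is not trivial
    set N := ShultGross.twist (ρ b₀) with hN
    haveI := ShultGross.twist_normal (ρ b₀)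
    have hNK : (Nat.card N : K) ≠ 0 := by
      rw [Ne, CharP.cast_eq_zero_iff K 3]
      intro h
      exact (hp.out.coprime_iff_not_dvd.1 hcop) (h.trans (Subgroup.card_subgroup_dvd_card N))
    have hZK : (Nat.card Z : K) ≠ 0 := by
      rw [Ne, CharP.cast_eq_zero_iff K 3]
      intro h
      exact (hp.out.coprime_iff_not_dvd.1 hcop) (h.trans (Subgroup.card_subgroup_dvd_card Z))
    obtain ⟨S, hSne, hSinv, hSirr, m, hm, v, hv, hmv⟩ :=
      exists_irreducible_of_normal N hNK ψ (by
        by_contra! h
        refine hb₀ne (MulEquiv.ext fun u => ?_)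
        have h1 := hψ ((h _ (ShultGross.mem_twist (ρ b₀) u)).trans (map_one ψ).symm)
        rw [inv_mul_eq_one] at h1
        rw [MulAut.one_apply, ← h1])
    haveI : Nontrivial S := Submodule.nontrivial_iff_ne_bot.2 hSne
    set ψS := restrictHom ψ S hSinv with hψS
    have hSirr' : ∀ W : Submodule K S, (∀ u, ∀ v ∈ W, ψS u v ∈ W) → W = ⊥ ∨ W = ⊤ := by
      intro W hW
      rcases hSirr (W.map S.subtype) (Submodule.map_subtype_le _ _) (by
        rintro u _ ⟨v, hv, rfl⟩
        exact ⟨ψS u v, hW u v hv, rfl⟩) with h | h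
      · exact Or.inl (Submodule.map_injective_of_injective S.injective_subtype
          (h.trans (Submodule.map_bot _).symm))
      · exact Or.inr (Submodule.map_injective_of_injective S.injective_subtype
          (h.trans (Submodule.map_subtype_top S).symm))
    have hsc : ∀ z : Z, ∃ a : K, ψS z = a • 1 := fun z =>
      exists_eq_smul_one_of_commute (fun u => ψS u) hSirr' (ψS z) fun u => by
        show ψS _ * ψS u = ψS u * ψS _
        rw [← map_mul, ← map_mul, Subgroup.mem_center_iff.1 z.2 u]
    choose a ha using hsc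
    have hinjK : ∀ r r' : K, r • (1 : Module.End K S) = r' • 1 → r = r' := fun r r' h =>
      smul_left_injective K (one_ne_zero (α := Module.End K S)) h
    let lam : Z →* K :=
      { toFun := a
        map_one' := hinjK _ _ (by rw [← ha, Subgroup.coe_one, map_one, one_smul])
        map_mul' := fun z z' => hinjK _ _ (by
          rw [← ha, Subgroup.coe_mul, map_mul, ha, ha, smul_mul_smul_comm, one_mul]) }
    have hvl : ∀ z : Z, ψ (z : Q) v = lam z • v := fun z =>
      congrArg Subtype.val (LinearMap.congr_fun (ha z) ⟨v, hv⟩)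
    -- the contradiction once `N` is killed by an idempotent fixing `v`
    have hfinish : ∀ E : Module.End K V, E v = v → (∀ u, E * ψ u = ψ u * E) →
        (∀ u, ψ (u⁻¹ * ρ b₀ u) * E = E) → False := by
      intro E hEv hEψ hE
      refine hmv ?_
      let T : Subgroup Q :=
        { carrier := {q | ψ q * E = E}
          one_mem' := by rw [Set.mem_setOf_eq, map_one, one_mul]
          mul_mem' := fun {q q'} hq hq' => by
            rw [Set.mem_setOf_eq, map_mul, mul_assoc, show ψ q' * E = E from hq', hq]
          inv_mem' := fun {q} hq => by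
            show ψ q⁻¹ * E = E
            conv_lhs => rw [← show ψ q * E = E from hq]
            rw [← mul_assoc, ← map_mul, inv_mul_cancel, map_one, one_mul] }
      have hmT : m ∈ T := (show N ≤ T from (Subgroup.closure_le _).2 (by
        rintro _ ⟨u, rfl⟩
        exact hE u)) hm
      have h := LinearMap.congr_fun (show ψ m * E = E from hmT) v
      rwa [Module.End.mul_apply, hEv] at h
    let tw : P → (Z →* K) → (Z →* K) := fun h μ =>
      { toFun := fun z => μ ⟨ρ h⁻¹ z, hchar Z (ρ h⁻¹) z z.2⟩
        map_one' := by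
          rw [← map_one μ]
          exact congrArg μ (Subtype.ext (by simp))
        map_mul' := fun z z' => by
          rw [← map_mul μ]
          exact congrArg μ (Subtype.ext (by simp)) }
    have htw1 : ∀ μ, tw 1 μ = μ := fun μ => MonoidHom.ext fun z =>
      congrArg μ (Subtype.ext (by simp))
    have htwmul : ∀ g h μ, tw (g * h) μ = tw g (tw h μ) := fun g h μ => MonoidHom.ext fun z =>
      congrArg μ (Subtype.ext (show ρ (g * h)⁻¹ (z : Q) = ρ h⁻¹ (ρ g⁻¹ z) by
        rw [mul_inv_rev, map_mul, MulAut.mul_apply]))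
    have hproj : ∀ h μ, π h * charProj ψ μ = charProj ψ (tw h μ) * π h := fun h μ =>
      charProj_twist ψ (ρ h) (π h) (hπ h) μ (tw h μ) fun z z' hz =>
        congrArg μ (Subtype.ext (show ρ h⁻¹ (z' : Q) = (z : Q) by
          rw [hz, ← MulAut.mul_apply, ← map_mul, inv_mul_cancel, map_one, MulAut.one_apply]))
    by_cases hfixlam : ∀ h, tw h lam = lam
    · set E := charProj ψ lam with hEdef
      have hEv : E v = v := charProj_apply_of_eigen ψ lam hZK hvl
      by_cases hE1 : E = 1
      · -- the centre acts by scalars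
        have hscal : ∀ z ∈ Z, ∃ r : K, ψ z = r • 1 := fun z hz => ⟨lam ⟨z, hz⟩, by
          have h := ψ_mul_charProj ψ lam ⟨z, hz⟩
          rwa [← hEdef, hE1, mul_one] at h⟩
        letI : CommGroup (Q ⧸ Z) := { (inferInstance : Group (Q ⧸ Z)) with
          mul_comm := fun a' c' => by
            induction a' using QuotientGroup.induction_on with
            | H a' =>
              induction c' using QuotientGroup.induction_on with
              | H c' =>
                show ((a' * c' : Q) : Q ⧸ Z) = ((c' * a' : Q) : Q ⧸ Z)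
                rw [QuotientGroup.eq,
                  show (a' * c')⁻¹ * (c' * a') = ⁅c'⁻¹, a'⁻¹⁆ by rw [commutatorElement_def]; group]
                exact hQ'c
                  (Subgroup.commutator_mem_commutator (Subgroup.mem_top _) (Subgroup.mem_top _)) }
        have hmapZ : ∀ f : MulAut Q, Z.map (f : Q →* Q) = Z := fun f =>
          Subgroup.characteristic_iff_map_eq.1
            (inferInstance : (Subgroup.center Q).Characteristic) f
        let ρW : P →* MulAut (Q ⧸ Z) :=
          { toFun := fun h => QuotientGroup.congr Z Z (ρ h) (hmapZ (ρ h))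
            map_one' := by
              ext u
              induction u using QuotientGroup.induction_on
              simp
            map_mul' := fun h h' => by
              ext u
              induction u using QuotientGroup.induction_on
              simp [MulAut.mul_apply] }
        have hρW : ∀ h (u : Q), ρW h (u : Q ⧸ Z) = ((ρ h u : Q) : Q ⧸ Z) := fun h u => rfl
        have hρWeq : ∀ x y : P, ρ x = ρ y → ρW x = ρW y := fun x y h => MulEquiv.ext fun u => by
          induction u using QuotientGroup.induction_on with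
          | H u => rw [hρW, hρW, h]
        have hW2 : ∀ u : Q ⧸ Z, u * u = 1 := fun u => by
          induction u using QuotientGroup.induction_on with
          | H u => rw [← QuotientGroup.mk_mul, QuotientGroup.eq_one_iff]; exact hsqZ u
        have hs : ∀ x ∈ B, Nat.card (Q ⧸ Z) ≤ 4 * Nat.card (fixSubgroup (ρW x)) := by
          intro x hx
          by_cases hne : ρ x = 1
          · rw [show Nat.card (fixSubgroup (ρW x)) = Nat.card (Q ⧸ Z) by
              rw [show fixSubgroup (ρW x) = ⊤ from eq_top_iff.2 fun u _ => by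
                rw [mem_fixSubgroup, hρWeq x 1 (by rw [hne, map_one]), map_one, MulAut.one_apply],
                Subgroup.card_top]]
            omega
          obtain ⟨j, hj, Fw, -, hF2, hF⟩ := small_move_of_relation (p := 3) (k := 1) le_rfl rfl hQ ψ
            hψ hQ'c hsqZ hscal (ρ x) (π x) (hπ x) le_rfl (hX3 x hx) (hsq x hx)
            (fun z hz => by simpa using hfixZ x hx z hz) (by simpa using hne)
          have hle : Nat.card Fw ≤ Nat.card (fixSubgroup (ρW x)) := by
            refine Nat.card_le_card_of_injective (fun u => (⟨(u : Q ⧸ Z), ?_⟩ :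
              fixSubgroup (ρW x))) fun u u' huu => Subtype.ext (congrArg Subtype.val huu :)
            obtain ⟨w, hw, hwfix⟩ := hF2 u u.2
            rw [mem_fixSubgroup, ← hw, hρW]
            simp only [Nat.sub_self, pow_zero, pow_one] at hwfix
            rw [hwfix]
          rcases hF with hF | ⟨-, hjm, -⟩
          · exact hF.trans (Nat.mul_le_mul_left _ hle)
          · omega
        have hBc : B ≤ commutator P := (derivedSeries_antitone P (show 1 ≤ d + 1 by omega)).trans
          (derivedSeries_one P).le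
        have hW := trivial_of_small hP hW2 ρW B hBc
          (fun x hx y hy => by
            show ρW x * ρW y = ρW y * ρW x
            rw [← map_mul, ← map_mul]
            exact hρWeq _ _ (by rw [map_mul, map_mul, (hcomm x hx y hy).eq]))
          (fun x hx => by
            rw [← map_pow, ← map_one ρW]
            exact hρWeq _ _ (by rw [map_pow, hρ3 x hx, map_one]))
          hs b₀ hb₀
        refine hb₀ne (MulEquiv.ext fun u => ?_)
        rw [MulAut.one_apply]
        set z := u⁻¹ * ρ b₀ u with hz
        have hzZ : z ∈ Z := by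
          rw [hz, ← QuotientGroup.eq, ← hρW, hW]
          rfl
        have hiter : ∀ i : ℕ, (ρ b₀ ^ i) u = u * z ^ i := by
          intro i
          induction i with
          | zero => simp
          | succ i ih' =>
            rw [pow_succ', MulAut.mul_apply, ih', map_mul, map_pow, hfixZ b₀ hb₀ z hzZ,
              pow_succ' z, ← mul_assoc, hz, mul_inv_cancel_left]
        have h1 := hiter 3
        rw [hρ3 b₀ hb₀, MulAut.one_apply, left_eq_mul] at h1
        have h2 : orderOf z = 1 :=
          Nat.eq_one_of_dvd_coprimes hcop (orderOf_dvd_of_pow_eq_one h1) (orderOf_dvd_natCard z)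
        rw [orderOf_eq_one_iff, hz, inv_mul_eq_one] at h2
        exact h2.symm
      · have hE2 : E * E = E := charProj_mul_self ψ lam hZK
        refine hfinish E hEv (charProj_mul_ψ ψ lam) fun u => ?_
        have hlt : finrank K (LinearMap.range E) < finrank K V := by
          refine Submodule.finrank_lt fun h => hE1 (LinearMap.ext fun w => ?_)
          obtain ⟨w', rfl⟩ := (h ▸ Submodule.mem_top : w ∈ LinearMap.range E)
          exact LinearMap.congr_fun hE2 w'
        have hRt : ∀ j, (derivedSeries (⊤ : Subgroup P) j).map (⊤ : Subgroup P).subtype ≤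
            derivedSeries P (j + 0) := fun j => map_derivedSeries_le_derivedSeries _ j
        have hb0' : (⟨b₀, trivial⟩ : (⊤ : Subgroup P)) ∈ derivedSeries (⊤ : Subgroup P) (d + 1) := by
          have h := map_derivedSeries_eq (f := (⊤ : Subgroup P).subtype)
            (fun y => ⟨⟨y, trivial⟩, rfl⟩) (d + 1)
          obtain ⟨y, hy, hye⟩ := h.ge hb₀
          rwa [show y = ⟨b₀, trivial⟩ from Subtype.ext hye] at hy
        refine kill_restrict ψ ρ π hπ M (d + 1) (d + 1) 0 rfl ⊤ hRt hstep htop E hE2
          (charProj_mul_ψ ψ lam) (fun h _ => by rw [hproj h lam, hfixlam h])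
          (fun w => ⟨w, hM0 ▸ Submodule.mem_top, rfl⟩) ?_ _ hb0' u
        rintro _ rfl N' _ ψ' hψ' ρ' π' hπ' M' h1 h2 h3
        refine ih (hQ.to_quotient N') ψ' hψ' (hP.to_subgroup _) ρ' π' hπ' (d + 1) M' ?_ h1 h2 h3
        have := Nat.le_of_dvd Nat.card_pos (Subgroup.card_quotient_dvd_card N')
        omega
    · -- some element moves the character
      push Not at hfixlam
      obtain ⟨g, hg⟩ := hfixlam
      let Pl : Subgroup P :=
        { carrier := {h | tw h lam = lam}
          one_mem' := htw1 lam
          mul_mem' := fun {h h'} hh hh' => by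
            show tw (h * h') lam = lam
            rw [htwmul, show tw h' lam = lam from hh', show tw h lam = lam from hh]
          inv_mem' := fun {h} hh => by
            show tw h⁻¹ lam = lam
            conv_lhs => rw [← show tw h lam = lam from hh]
            rw [← htwmul, inv_mul_cancel, htw1] }
      set P₁ := Pl ⊔ commutator P with hP₁
      have hP₁top : P₁ ≠ ⊤ := fun h => hg (by
        have h1 : Pl ⊔ frattini P = ⊤ := top_le_iff.1 (h ▸ sup_le le_sup_left
          ((CfsgLib.Solvable.commutator_le_frattini hP).trans le_sup_right))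
        have h2 : g ∈ Pl := (frattini_nongenerating h1).symm ▸ Subgroup.mem_top g
        exact h2)
      obtain ⟨x, hx⟩ : ∃ x, x ∉ P₁ := by
        by_contra! h
        exact hP₁top (eq_top_iff.2 fun y _ => h y)
      classical
      letI : Fintype P := Fintype.ofFinite P
      let Λ : Finset (Z →* K) := (Finset.univ.filter (fun h : P => h ∈ P₁)).image (fun h => tw h lam)
      have hmemΛ : ∀ μ, μ ∈ Λ ↔ ∃ h ∈ P₁, tw h lam = μ := fun μ => by simp [Λ]
      set E : Module.End K V := ∑ μ ∈ Λ, charProj ψ μ with hEdef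
      have hEμ : ∀ μ ∈ Λ, E * charProj ψ μ = charProj ψ μ := fun μ hμ => by
        rw [hEdef, Finset.sum_mul, Finset.sum_eq_single μ (fun ν _ hν => charProj_mul_of_ne ψ hν)
          (fun h => absurd hμ h), charProj_mul_self ψ μ hZK]
      have hE2 : E * E = E := by
        conv_lhs => arg 2; rw [hEdef]
        rw [Finset.mul_sum, Finset.sum_congr rfl hEμ]
      have hEψ : ∀ u, E * ψ u = ψ u * E := fun u => by
        rw [hEdef, Finset.sum_mul, Finset.mul_sum]
        exact Finset.sum_congr rfl fun μ _ => charProj_mul_ψ ψ μ u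
      have hEπ : ∀ h ∈ P₁, E * π h = π h * E := fun h hh => by
        rw [hEdef, Finset.sum_mul, Finset.mul_sum]
        refine (Finset.sum_bij (fun μ _ => tw h μ) (fun μ hμ => ?_) (fun μ _ ν _ e => ?_)
          (fun ν hν => ?_) fun μ _ => hproj h μ).symm
        · obtain ⟨h', hh', rfl⟩ := (hmemΛ μ).1 hμ
          exact (hmemΛ _).2 ⟨h * h', mul_mem hh hh', htwmul h h' lam⟩
        · rw [← htw1 μ, ← htw1 ν, ← inv_mul_cancel h, htwmul, htwmul, e]
        · obtain ⟨h', hh', rfl⟩ := (hmemΛ ν).1 hν
          refine ⟨tw (h⁻¹ * h') lam, (hmemΛ _).2 ⟨h⁻¹ * h', mul_mem (inv_mem hh) hh', rfl⟩, ?_⟩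
          rw [← htwmul, mul_inv_cancel_left]
      have hExE : E * π x * E = 0 := by
        rw [mul_assoc, hEdef, Finset.mul_sum, Finset.sum_mul]
        refine Finset.sum_eq_zero fun μ hμ => ?_
        rw [Finset.mul_sum]
        refine Finset.sum_eq_zero fun ν hν => ?_
        rw [hproj x ν, ← mul_assoc, charProj_mul_of_ne ψ, zero_mul]
        intro e
        obtain ⟨h, hh, rfl⟩ := (hmemΛ μ).1 hμ
        obtain ⟨h', hh', rfl⟩ := (hmemΛ ν).1 hν
        refine hx ?_
        have h1 : h⁻¹ * (x * h') ∈ Pl := by
          show tw (h⁻¹ * (x * h')) lam = lam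
          rw [htwmul, htwmul x, ← e, ← htwmul, inv_mul_cancel, htw1]
        have h2 := mul_mem (mul_mem hh (Subgroup.mem_sup_left (T := commutator P) h1)) (inv_mem hh')
        rwa [mul_inv_cancel_left, mul_inv_cancel_right] at h2
      have hEv : E v = v := by
        have h0 : charProj ψ lam v = v := charProj_apply_of_eigen ψ lam hZK hvl
        conv_lhs => rw [← h0]
        rw [← Module.End.mul_apply, hEμ lam ((hmemΛ lam).2 ⟨1, one_mem _, htw1 lam⟩), h0]
      refine hfinish E hEv hEψ fun u => ?_
      have hRc : ∀ j, (derivedSeries (commutator P) j).map (commutator P).subtype ≤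
          derivedSeries P (j + 1) := by
        intro j
        induction j with
        | zero => rw [derivedSeries_zero, ← MonoidHom.range_eq_map, Subgroup.range_subtype,
            derivedSeries_one]
        | succ j ihj =>
          rw [derivedSeries_succ, Subgroup.map_commutator, derivedSeries_succ P (j + 1)]
          exact Subgroup.commutator_mono ihj ihj
      obtain ⟨y, hy, hyb⟩ : b₀ ∈ (derivedSeries (commutator P) d).map (commutator P).subtype := by
        have hge : ∀ j, derivedSeries P (j + 1) ≤
            (derivedSeries (commutator P) j).map (commutator P).subtype := by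
          intro j
          induction j with
          | zero => rw [derivedSeries_zero, ← MonoidHom.range_eq_map, Subgroup.range_subtype,
              derivedSeries_one]
          | succ j ihj =>
            rw [derivedSeries_succ (commutator P) j, Subgroup.map_commutator,
              derivedSeries_succ P (j + 1)]
            exact Subgroup.commutator_mono ihj ihj
        exact hge d hb₀
      have h1 := kill_restrict ψ ρ π hπ M (d + 1) d 1 rfl (commutator P) hRc hstep htop E hE2 hEψ
        (fun h hh => hEπ h (Subgroup.mem_sup_right hh))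
        (fun w => ⟨π x (-(E w)) - (-(E w)), hstep 0 (by omega) x (by simp) _
          (hM0 ▸ Submodule.mem_top), by
          have h0 := LinearMap.congr_fun hExE w
          have h2 := LinearMap.congr_fun hE2 w
          simp only [Module.End.mul_apply, LinearMap.zero_apply] at h0 h2
          rw [map_sub, map_neg, map_neg, map_neg, h0, h2, neg_zero, zero_sub, neg_neg]⟩)
        (by
          rintro _ rfl N' _ ψ' hψ' ρ' π' hπ' M' h1 h2 h3
          refine ih (hQ.to_quotient N') ψ' hψ' (hP.to_subgroup _) ρ' π' hπ' d M' ?_ h1 h2 h3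
          have := Nat.le_of_dvd Nat.card_pos (Subgroup.card_quotient_dvd_card N')
          have := Submodule.finrank_le (LinearMap.range E)
          omega) y hy u
      rwa [show (y : P) = b₀ from hyb] at h1

end CfsgLib.HallHigman
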