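import Mathlib
import Cfsg.Agent.HallHigman.LengthSetup

/-!
The action on the Frattini quotient of `O_p(G)`: if the top power of `g` commutes with those of
the elements of `O_p(G) g`, the minimal polynomial of `g` drops.
-/

set_option autoImplicit false
set_option linter.style.haveILetI false

open Finset Module
open scoped commutatorElement

namespace CfsgLib.HallHigman

universe u v w

/-- An elementary abelian group as a module, remembering product identities. -/
theorem exists_operators_prod {r : ℕ} [Fact r.Prime] (W : Type u) [CommGroup W] [Finite W]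
    (hexp : ∀ w : W, w ^ r = 1) :
    ∃ (m : ℕ) (Φ : MulAut W →* Module.End (AlgebraicClosure (ZMod r))
        (Fin m → AlgebraicClosure (ZMod r))), Function.Injective Φ ∧
      ∀ (N : ℕ) (f f' : ℕ → MulAut W), (∀ w, ∏ i ∈ range N, f i w = ∏ i ∈ range N, f' i w) →
        ∑ i ∈ range N, Φ (f i) = ∑ i ∈ range N, Φ (f' i) := by
  obtain ⟨m, Θ, hΘ⟩ := @CfsgLib.ShultGross.exists_end_embedding r _ (Additive W) _ _
    (AddCommGroup.zmodModule fun v : Additive W => hexp v.toMul)
  let toEnd : MulAut W →* AddMonoid.End (Additive W) :=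
    { toFun := fun f => MonoidHom.toAdditive f.toMonoidHom
      map_one' := AddMonoidHom.ext fun _ => rfl
      map_mul' := fun _ _ => AddMonoidHom.ext fun _ => rfl }
  refine ⟨m, Θ.toMonoidHom.comp toEnd, hΘ.comp fun f g h => ?_, fun N f f' hf => ?_⟩
  · ext x
    exact congrArg (fun k : AddMonoid.End (Additive W) => Additive.toMul (k (Additive.ofMul x))) h
  · show ∑ i ∈ range N, Θ (toEnd (f i)) = ∑ i ∈ range N, Θ (toEnd (f' i))
    rw [← map_sum Θ, ← map_sum Θ]
    refine congrArg Θ (AddMonoidHom.ext fun v => ?_)
    have hev : ∀ g : ℕ → MulAut W, (∑ i ∈ range N, toEnd (g i)) v =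
        ∑ i ∈ range N, Additive.ofMul (g i (Additive.toMul v)) := fun g =>
      map_sum (AddMonoidHom.eval v) (fun i => toEnd (g i)) (range N)
    refine (hev f).trans (Eq.trans ?_ (hev f').symm)
    rw [← ofMul_prod, ← ofMul_prod, hf]

/-- The faithful action on the Frattini quotient, with the drop of the minimal polynomial. -/
theorem exists_frattini_drop {G : Type u} [Group G] [Finite G] {p : ℕ} [hp : Fact p.Prime]
    (hG : Cfsg.IsPSolvable p G) (hO : Cfsg.pPrimeCore p G = ⊥) :
    ∃ (m : ℕ) (ψ : G ⧸ Cfsg.pCore p G →* Module.End (AlgebraicClosure (ZMod p))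
        (Fin m → AlgebraicClosure (ZMod p))), Function.Injective ψ ∧
      ∀ (g : G) (i : ℕ), (∀ u ∈ Cfsg.pCore p G, Commute (g ^ p ^ i) ((u * g) ^ p ^ i)) →
        (ψ (g : G ⧸ Cfsg.pCore p G) - 1) ^ (p ^ i + (p ^ i - 1)) = 0 := by
  set O := Cfsg.pCore p G with hOdef
  have hOp : IsPGroup p O := CfsgLib.PLocal.isPGroup_pCore p G
  set F := frattini O with hF
  haveI hFn : F.Normal := by rw [hF]; infer_instance
  have hQ'F : commutator O ≤ F := CfsgLib.Solvable.commutator_le_frattini hOp
  letI : CommGroup (O ⧸ F) := { (inferInstance : Group (O ⧸ F)) with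
    mul_comm := fun a c => by
      induction a using QuotientGroup.induction_on with
      | H a =>
        induction c using QuotientGroup.induction_on with
        | H c =>
          show ((a * c : O) : O ⧸ F) = ((c * a : O) : O ⧸ F)
          rw [QuotientGroup.eq,
            show (a * c)⁻¹ * (c * a) = ⁅c⁻¹, a⁻¹⁆ by rw [commutatorElement_def]; group]
          exact hQ'F (Subgroup.commutator_mem_commutator (Subgroup.mem_top _) (Subgroup.mem_top _)) }
  have hmapF : ∀ f : MulAut O, F.map (f : O →* O) = F := fun f =>
    Subgroup.characteristic_iff_map_eq.1 (inferInstance : (frattini O).Characteristic) f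
  let bar : MulAut O →* MulAut (O ⧸ F) :=
    { toFun := fun f => QuotientGroup.congr F F f (hmapF f)
      map_one' := by
        ext u
        induction u using QuotientGroup.induction_on
        simp
      map_mul' := fun f f' => by
        ext u
        induction u using QuotientGroup.induction_on
        simp [MulAut.mul_apply] }
  let c : G →* MulAut (O ⧸ F) := bar.comp MulAut.conjNormal
  have hc : ∀ g (u : O), c g (u : O ⧸ F) = ((MulAut.conjNormal g u : O) : O ⧸ F) := fun g u => rfl
  have hker : ∀ g, c g = 1 ↔ g ∈ O := by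
    intro g
    rw [← Cfsg.Agent.S4218.mem_pCore_iff hG hO g]
    constructor
    · intro h x hx
      have h1 : ((MulAut.conjNormal g ⟨x, hx⟩ : O) : O ⧸ F) = ((⟨x, hx⟩ : O) : O ⧸ F) := by
        rw [← hc, h, MulAut.one_apply]
      rw [eq_comm, QuotientGroup.eq] at h1
      exact ⟨_, hFn.conj_mem _ h1 ⟨x, hx⟩, by
        show x * (x⁻¹ * (g * x * g⁻¹)) * x⁻¹ = _
        rw [mul_inv_cancel_left]⟩
    · intro h
      refine MulEquiv.ext fun u => ?_
      induction u using QuotientGroup.induction_on with
      | H u =>
        rw [hc, MulAut.one_apply, eq_comm, QuotientGroup.eq]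
        obtain ⟨z, hz, hze⟩ := h u u.2
        have h2 := hFn.conj_mem z hz u⁻¹
        convert h2 using 1
        refine Subtype.ext ?_
        show (u : G)⁻¹ * (g * (u : G) * g⁻¹) = (u : G)⁻¹ * (O.subtype z) * (u : G)⁻¹⁻¹
        rw [hze]
        group
  obtain ⟨m, Φ, hΦ, hΦprod⟩ := exists_operators_prod (r := p) (O ⧸ F) fun u => by
    induction u using QuotientGroup.induction_on with
    | H u =>
      rw [← QuotientGroup.mk_pow, QuotientGroup.eq_one_iff]
      exact CfsgLib.Solvable.pow_mem_frattini hOp u
  refine ⟨m, QuotientGroup.lift O (Φ.comp c) (fun g hg => by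
    rw [MonoidHom.mem_ker, MonoidHom.comp_apply, (hker g).2 hg, map_one]), ?_, fun g i hcm => ?_⟩
  · intro a b h
    induction a using QuotientGroup.induction_on with
    | H a =>
      induction b using QuotientGroup.induction_on with
      | H b =>
        have h1 : c a = c b := hΦ h
        refine QuotientGroup.eq.2 ((hker _).1 ?_)
        rw [map_mul, map_inv, h1, inv_mul_cancel]
  · show (Φ (c g) - 1) ^ (p ^ i + (p ^ i - 1)) = 0
    rcases Nat.eq_zero_or_pos m with rfl | hm
    · exact LinearMap.ext fun v => Subsingleton.elim _ _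
    haveI : Nonempty (Fin m) := ⟨⟨0, hm⟩⟩
    haveI : CharP (Module.End (AlgebraicClosure (ZMod p)) (Fin m → AlgebraicClosure (ZMod p))) p :=
      charP_of_injective_algebraMap (algebraMap (AlgebraicClosure (ZMod p)) _).injective p
    have hsum := hΦprod (p ^ i) (fun j => c g ^ p ^ i * c g ^ j) (fun j => c g ^ j) fun u => by
      induction u using QuotientGroup.induction_on with
      | H u =>
        have hk : ∀ k : ℕ, ∃ w : O, ((u : G) * g) ^ k = (w : G) * g ^ k ∧
            (w : O ⧸ F) = ∏ j ∈ range k, (c g ^ j) (u : O ⧸ F) := by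
          intro k
          induction k with
          | zero => exact ⟨1, by simp, by simp⟩
          | succ k ih =>
            obtain ⟨w, hw, hwF⟩ := ih
            refine ⟨w * MulAut.conjNormal (g ^ k) u, ?_, ?_⟩
            · rw [pow_succ, hw, Subgroup.coe_mul, MulAut.conjNormal_apply, pow_succ g]
              group
            · rw [QuotientGroup.mk_mul, hwF, Finset.prod_range_succ, ← hc, map_pow]
        obtain ⟨w, hw, hwF⟩ := hk (p ^ i)
        have hcw : MulAut.conjNormal (g ^ p ^ i) w = w := by
          refine Subtype.ext ?_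
          rw [MulAut.conjNormal_apply, mul_inv_eq_iff_eq_mul]
          have h := (hcm u u.2).eq
          rw [hw, ← mul_assoc] at h
          exact mul_right_cancel h
        simp only [MulAut.mul_apply]
        rw [← map_prod, ← hwF, ← map_pow, hc, hcw]
    simp only [map_mul, map_pow] at hsum
    rw [← Finset.mul_sum, geom_sum_eq_sub_one_pow] at hsum
    rw [pow_add, sub_pow_char_pow_of_commute p i (Commute.one_right _), one_pow, sub_mul, one_mul,
      hsum, sub_self]

end CfsgLib.HallHigman
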