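import Mathlib
import Cfsg.Agent.HallHigman.LengthSetup

/-!
The action on the Frattini quotient of `O_p(G)`: the norm of `g` governs its minimal polynomial.
-/

set_option autoImplicit false
set_option linter.style.haveILetI false

open Finset Module
open scoped commutatorElement

namespace CfsgLib.HallHigman

universe u v w

/-- The action on the Frattini quotient of `O_p(G)`, over an algebraically closed field. -/
theorem exists_frattini_norm {G : Type u} [Group G] [Finite G] {p : ℕ} [hp : Fact p.Prime]
    (hG : Cfsg.IsPSolvable p G) (hO : Cfsg.pPrimeCore p G = ⊥) :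
    ∃ (m : ℕ) (ψ : G ⧸ Cfsg.pCore p G →* Module.End (AlgebraicClosure (ZMod p))
        (Fin m → AlgebraicClosure (ZMod p))), Function.Injective ψ ∧
      ∀ (g : G) (e : ℕ), (∀ u ∈ Cfsg.pCore p G, (u * g) ^ p ^ e * (g ^ p ^ e)⁻¹ ∈
          (frattini (Cfsg.pCore p G)).map (Cfsg.pCore p G).subtype) →
        (ψ (g : G ⧸ Cfsg.pCore p G) - 1) ^ (p ^ e - 1) = 0 := by
  set O := Cfsg.pCore p G with hOdef
  have hOp : IsPGroup p O := CfsgLib.PLocal.isPGroup_pCore p G
  set F := frattini O with hF
  haveI hFn : F.Normal := by rw [hF]; infer_instance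
  have hQ'F : commutator O ≤ F := CfsgLib.Solvable.commutator_le_frattini hOp
  letI : CommGroup (O ⧸ F) := { (inferInstance : Group (O ⧸ F)) with
    mul_comm := fun a c => by
      induction a using QuotientGroup.induction_on with
      | H a =>
        induction c using QuotientGroup.induction_on with
        | H c =>
          show ((a * c : O) : O ⧸ F) = ((c * a : O) : O ⧸ F)
          rw [QuotientGroup.eq,
            show (a * c)⁻¹ * (c * a) = ⁅c⁻¹, a⁻¹⁆ by rw [commutatorElement_def]; group]
          exact hQ'F (Subgroup.commutator_mem_commutator (Subgroup.mem_top _) (Subgroup.mem_top _)) }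
  have hmapF : ∀ f : MulAut O, F.map (f : O →* O) = F := fun f =>
    Subgroup.characteristic_iff_map_eq.1 (inferInstance : (frattini O).Characteristic) f
  let bar : MulAut O →* MulAut (O ⧸ F) :=
    { toFun := fun f => QuotientGroup.congr F F f (hmapF f)
      map_one' := by
        ext u
        induction u using QuotientGroup.induction_on
        simp
      map_mul' := fun f f' => by
        ext u
        induction u using QuotientGroup.induction_on
        simp [MulAut.mul_apply] }
  let c : G →* MulAut (O ⧸ F) := bar.comp MulAut.conjNormal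
  have hc : ∀ g (u : O), c g (u : O ⧸ F) = ((MulAut.conjNormal g u : O) : O ⧸ F) := fun g u => rfl
  have hker : ∀ g, c g = 1 ↔ g ∈ O := by
    intro g
    rw [← Cfsg.Agent.S4218.mem_pCore_iff hG hO g]
    constructor
    · intro h x hx
      have h1 : ((MulAut.conjNormal g ⟨x, hx⟩ : O) : O ⧸ F) = ((⟨x, hx⟩ : O) : O ⧸ F) := by
        rw [← hc, h, MulAut.one_apply]
      rw [eq_comm, QuotientGroup.eq] at h1
      exact ⟨_, hFn.conj_mem _ h1 ⟨x, hx⟩, by
        show x * (x⁻¹ * (g * x * g⁻¹)) * x⁻¹ = _
        rw [mul_inv_cancel_left]⟩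
    · intro h
      refine MulEquiv.ext fun u => ?_
      induction u using QuotientGroup.induction_on with
      | H u =>
        rw [hc, MulAut.one_apply, eq_comm, QuotientGroup.eq]
        obtain ⟨z, hz, hze⟩ := h u u.2
        have h2 := hFn.conj_mem z hz u⁻¹
        convert h2 using 1
        refine Subtype.ext ?_
        show (u : G)⁻¹ * (g * (u : G) * g⁻¹) = (u : G)⁻¹ * (O.subtype z) * (u : G)⁻¹⁻¹
        rw [hze]
        group
  obtain ⟨m, Φ, hΦ, hΦsum⟩ := CfsgLib.ShultGross.exists_operators (r := p) (O ⧸ F) fun u => by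
    induction u using QuotientGroup.induction_on with
    | H u =>
      rw [← QuotientGroup.mk_pow, QuotientGroup.eq_one_iff]
      exact CfsgLib.Solvable.pow_mem_frattini hOp u
  refine ⟨m, QuotientGroup.lift O (Φ.comp c) (fun g hg => by
    rw [MonoidHom.mem_ker, MonoidHom.comp_apply, (hker g).2 hg, map_one]), ?_, ?_⟩
  · intro a b h
    induction a using QuotientGroup.induction_on with
    | H a =>
      induction b using QuotientGroup.induction_on with
      | H b =>
        have h1 : c a = c b := hΦ h
        refine QuotientGroup.eq.2 ((hker _).1 ?_)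
        rw [map_mul, map_inv, h1, inv_mul_cancel]
  · intro g e hge
    show (Φ (c g) - 1) ^ (p ^ e - 1) = 0
    have hm : m = 0 ∨ 0 < m := Nat.eq_zero_or_pos m
    rcases hm with rfl | hm
    · exact LinearMap.ext fun v => Subsingleton.elim _ _
    haveI : Nonempty (Fin m) := ⟨⟨0, hm⟩⟩
    haveI : CharP (Module.End (AlgebraicClosure (ZMod p)) (Fin m → AlgebraicClosure (ZMod p))) p :=
      charP_of_injective_algebraMap (algebraMap (AlgebraicClosure (ZMod p)) _).injective p
    rw [← geom_sum_eq_sub_one_pow]
    refine hΦsum (c g) (p ^ e) fun u => ?_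
    induction u using QuotientGroup.induction_on with
    | H u =>
      have hk : ∀ k : ℕ, ∃ w : O, ((u : G) * g) ^ k = (w : G) * g ^ k ∧
          (w : O ⧸ F) = ∏ i ∈ range k, (c g ^ i) (u : O ⧸ F) := by
        intro k
        induction k with
        | zero => exact ⟨1, by simp, by simp⟩
        | succ k ih =>
          obtain ⟨w, hw, hwF⟩ := ih
          refine ⟨w * MulAut.conjNormal (g ^ k) u, ?_, ?_⟩
          · rw [pow_succ, hw, Subgroup.coe_mul, MulAut.conjNormal_apply, pow_succ g]
            group
          · rw [QuotientGroup.mk_mul, hwF, Finset.prod_range_succ, ← hc, map_pow]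
      obtain ⟨w, hw, hwF⟩ := hk (p ^ e)
      obtain ⟨z, hz, hze⟩ := hge u u.2
      rw [hw, mul_inv_cancel_right] at hze
      rw [← hwF, QuotientGroup.eq_one_iff, ← show z = w from Subtype.ext hze]
      exact hz

end CfsgLib.HallHigman
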