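import Mathlib
import Cfsg.Agent.HallHigman.CommutingTops
import Cfsg.Agent.HallHigman.FrattiniAction
import Cfsg.Agent.Coprime.ActionHom

/-!
For a Fermat prime `p` the `p`-length is at most twice the exponent of a Sylow subgroup.
-/

set_option autoImplicit false
set_option linter.style.haveILetI false

open Finset Module
open scoped commutatorElement

namespace CfsgLib.HallHigman

universe u v w

/-- An odd prime other than `2` gives no exception. -/
theorem exception_prime {p q n₀ k : ℕ} (hp : p.Prime) (hp2 : p ≠ 2) (hq : q.Prime) (h1 : 1 ≤ n₀)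
    (hk : 1 ≤ k) (h : p ^ n₀ - 1 = q ^ k) : q = 2 := by
  have hodd : Odd (p ^ n₀) := (hp.odd_of_ne_two hp2).pow
  have heven : Even (q ^ k) := by
    rw [← h]
    obtain ⟨c, hc⟩ := hodd
    exact ⟨c, by omega⟩
  exact hq.even_iff.1 (Nat.even_pow.1 heven).1

/-- In a `p`-soluble group with `O_p = 1` acting with short minimal polynomials, the top powers in
a Sylow subgroup commute. -/
theorem tops_commute {p k : ℕ} [hp : Fact p.Prime] (hk : 1 ≤ k) (hpk : p = 2 ^ k + 1)
    {H : Type u} [Group H] [Finite H] (hsol : Cfsg.IsPSolvable p H) (hOp : Cfsg.pCore p H = ⊥)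
    {K : Type v} [Field K] [IsAlgClosed K] [CharP K p] {V : Type w} [AddCommGroup V] [Module K V]
    [FiniteDimensional K V] (ψ : H →* Module.End K V) (hψ : Function.Injective ψ)
    (P : Sylow p H) {M : ℕ} (hM : 1 ≤ M) {x x' : H} (hx : x ∈ (P : Subgroup H))
    (hx' : x' ∈ (P : Subgroup H)) (hrel : (ψ x - 1) ^ (p ^ M - 1) = 0)
    (hrel' : (ψ x' - 1) ^ (p ^ M - 1) = 0) :
    Commute (x ^ p ^ (M - 1)) (x' ^ p ^ (M - 1)) := by
  haveI := Fact.mk Nat.prime_two
  have hp2 : p ≠ 2 := by
    rw [hpk]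
    have : 1 ≤ 2 ^ (k - 1) := Nat.one_le_two_pow
    have h2 : 2 ^ k = 2 * 2 ^ (k - 1) := by rw [← pow_succ', Nat.sub_add_cancel hk]
    omega
  set N := Cfsg.pPrimeCore p H with hNdef
  haveI hNn : N.Normal := Cfsg.pPrimeCore_normal p H
  have hPp : IsPGroup p (P : Subgroup H) := P.isPGroup'
  haveI := hPp.isNilpotent
  let φ : (P : Subgroup H) →* MulAut N :=
    (MulAut.conjNormal : H →* MulAut N).comp (P : Subgroup H).subtype
  have hNc : (Nat.card N).Coprime p := CfsgLib.PLocal.coprime_card_pPrimeCore p H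
  have hcop : (Nat.card (P : Subgroup H)).Coprime (Nat.card N) := by
    obtain ⟨e, he⟩ := IsPGroup.iff_card.1 hPp
    rw [he]
    exact hNc.symm.pow_left e
  set y : (P : Subgroup H) := ⟨x, hx⟩ ^ p ^ (M - 1) with hy
  set y' : (P : Subgroup H) := ⟨x', hx'⟩ ^ p ^ (M - 1) with hy'
  set c := ⁅y, y'⁆ with hc
  have hfix : ∀ q : ℕ, q.Prime → ∃ T : Sylow q N, ∀ t ∈ (T : Subgroup N),
      φ c t = t := by
    intro q hq
    haveI := Fact.mk hq
    obtain ⟨T, hT⟩ := CfsgLib.Coprime.exists_invariant_sylow_hom φ hcop (Or.inl inferInstance) q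
    refine ⟨T, fun t ht => ?_⟩
    rcases eq_or_ne p q with rfl | hpq
    · have hb : (T : Subgroup N) = ⊥ := by
        rw [← Subgroup.card_eq_one, T.card_eq_multiplicity,
          Nat.factorization_eq_zero_of_not_dvd
            (hp.out.coprime_iff_not_dvd.1 hNc.symm), pow_zero]
      rw [hb, Subgroup.mem_bot] at ht
      rw [ht, map_one]
    let ρ := restrictAct φ (T : Subgroup N) hT
    let ι : (T : Subgroup N) →* H := N.subtype.comp (T : Subgroup N).subtype
    have hι : Function.Injective ι := N.subtype_injective.comp (T : Subgroup N).subtype_injective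
    have hcompat : ∀ (g : (P : Subgroup H)) u,
        (ψ.comp (P : Subgroup H).subtype) g * (ψ.comp ι) u =
          (ψ.comp ι) (ρ g u) * (ψ.comp (P : Subgroup H).subtype) g := by
      intro g u
      show ψ (g : H) * ψ (ι u) = ψ ((g : H) * (ι u) * (g : H)⁻¹) * ψ (g : H)
      rw [← map_mul, ← map_mul, inv_mul_cancel_right]
    have h : ρ c = 1 := by
      rw [hc, map_commutatorElement, commutatorElement_eq_one_iff_mul_comm]
      by_cases hq2 : q = 2
      · subst hq2
        exact commute_tops hk hpk _ le_rfl T.isPGroup' (ψ.comp ι) (hψ.comp hι) hPp ρ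
          (ψ.comp (P : Subgroup H).subtype) hcompat ⟨x, hx⟩ ⟨x', hx'⟩ M M hM hM hrel hrel'
      · have htriv : ∀ (z : (P : Subgroup H)), (ψ (z : H) - 1) ^ (p ^ M - 1) = 0 →
            ρ (z ^ p ^ (M - 1)) = 1 := by
          intro z hz
          by_contra hne
          rw [map_pow] at hne
          have hX : (ψ (z : H)) ^ p ^ M = 1 := by
            rcases subsingleton_or_nontrivial V with h | h
            · exact LinearMap.ext fun v => Subsingleton.elim _ _
            haveI : CharP (Module.End K V) p :=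
              charP_of_injective_algebraMap (FaithfulSMul.algebraMap_injective K _) p
            have h1 : (ψ (z : H) - 1) ^ p ^ M = 0 := pow_eq_zero_of_le (Nat.sub_le _ 1) hz
            rwa [sub_pow_char_pow_of_commute p M (Commute.one_right _), one_pow, sub_eq_zero]
              at h1
          obtain ⟨t', ht'⟩ : ∃ t', (ρ z ^ p ^ (M - 1)) t' ≠ t' := by
            by_contra! h
            exact hne (MulEquiv.ext h)
          rcases minimal_degree hpq _ (Q := (T : Subgroup N)) (m := M) le_rfl hM T.isPGroup' (ρ z)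
              (ψ.comp ι) (hψ.comp hι) (ψ (z : H)) hX (fun u => hcompat z u) ⟨t', ht'⟩
              (p ^ M - 1) hz with h | ⟨n₀, e, h1, -, h3, h4, -, -⟩
          · have := pow_pos hp.out.pos M
            omega
          · exact hq2 (exception_prime hp.out hp2 hq h1 h3 h4)
        rw [hy, hy', htriv ⟨x, hx⟩ hrel, one_mul, mul_one]
    exact congrArg (fun f : MulAut (T : Subgroup N) => ((f ⟨t, ht⟩ : (T : Subgroup N)) : N)) h
  have hS : fixSubgroup (φ c) = ⊤ := by
    refine Subgroup.eq_top_of_le_card _ (Nat.le_of_dvd Nat.card_pos ?_)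
    refine (Nat.factorization_le_iff_dvd Nat.card_pos.ne' Nat.card_pos.ne').mp fun q => ?_
    by_cases hq : q.Prime
    · haveI := Fact.mk hq
      obtain ⟨T, hT⟩ := hfix q hq
      refine (hq.pow_dvd_iff_le_factorization Nat.card_pos.ne').mp ?_
      rw [← T.card_eq_multiplicity]
      exact Subgroup.card_dvd_of_le fun z hz => hT z hz
    · simp [hq]
  have hcC : (c : H) ∈ Subgroup.centralizer (N : Set H) := by
    rw [Subgroup.mem_centralizer_iff]
    intro z hz
    have h1 : φ c ⟨z, hz⟩ = ⟨z, hz⟩ :=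
      (show (⟨z, hz⟩ : N) ∈ fixSubgroup (φ c) from hS ▸ Subgroup.mem_top _)
    have h2 : (c : H) * z * (c : H)⁻¹ = z := congrArg Subtype.val h1
    exact (mul_inv_eq_iff_eq_mul.1 h2).symm
  have hcN := Cfsg.Agent.S3754.centralizer_pPrimeCore_le hsol hOp hcC
  have hc1 : (c : H) = 1 := by
    obtain ⟨i, hi⟩ := hPp c
    have hi' : (c : H) ^ p ^ i = 1 := congrArg Subtype.val hi
    rw [← orderOf_eq_one_iff]
    exact Nat.eq_one_of_dvd_coprimes (hNc.pow_right i) (N.orderOf_dvd_natCard hcN)
      (orderOf_dvd_of_pow_eq_one hi')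
  have h3 : ⁅x ^ p ^ (M - 1), x' ^ p ^ (M - 1)⁆ = 1 := by
    rw [← hc1]
    simp [hc, hy, hy', commutatorElement_def]
  exact commutatorElement_eq_one_iff_mul_comm.1 h3

/-- For a Fermat prime, two layers lower the exponent. -/
theorem pLengthLE_two_mul {p k : ℕ} [hp : Fact p.Prime] (hk : 1 ≤ k) (hpk : p = 2 ^ k + 1) :
    ∀ (b : ℕ) {G : Type u} [Group G] [Finite G], Nat.card G ≤ b → Cfsg.IsPSolvable p G → ∀ e : ℕ,
    (∀ P : Sylow p G, ∀ x ∈ (P : Subgroup G), x ^ p ^ e = 1) → Cfsg.PLengthLE p (2 * e) G := by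
  intro b
  induction b with
  | zero => intro G _ _ hc; exact absurd hc (Nat.not_le.2 Nat.card_pos)
  | succ b ih =>
    intro G _ _ hc hG e hexp
    have hlt : ∀ (N : Subgroup G) [N.Normal], N ≠ ⊥ → Nat.card (G ⧸ N) ≤ b := by
      intro N _ hN
      have h1 := Subgroup.card_eq_card_quotient_mul_card_subgroup N
      have h2 : 1 < Nat.card N := (Subgroup.one_lt_card_iff_ne_bot _).2 hN
      have h3 : 0 < Nat.card (G ⧸ N) := Nat.card_pos
      nlinarith
    by_cases hO : Cfsg.pPrimeCore p G = ⊥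
    swap
    · have h0 : Cfsg.PLengthLE p 0 (Cfsg.pPrimeCore p G) :=
        CfsgLib.PLength.pLengthLE_zero_iff.2 (CfsgLib.PLocal.coprime_card_pPrimeCore p G)
      simpa using CfsgLib.PLength.pLengthLE_extension _ h0
        (ih (hlt _ hO) (CfsgLib.PLocal.isPSolvable_quotient hG _) e (exponent_quotient hexp _))
    rcases e with _ | e
    · rw [CfsgLib.PLength.pLengthLE_zero_iff, Nat.coprime_comm, hp.out.coprime_iff_not_dvd]
      intro hdvd
      obtain ⟨x, hx⟩ := exists_prime_orderOf_dvd_card' p hdvd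
      obtain ⟨P, hP⟩ := (IsPGroup.of_card (n := 1) (show Nat.card (Subgroup.zpowers x) = p ^ 1 by
        rw [Nat.card_zpowers, hx, pow_one])).exists_le_sylow
      have := hexp P x (hP (Subgroup.mem_zpowers x))
      rw [pow_zero, pow_one] at this
      rw [this, orderOf_one] at hx
      exact hp.out.ne_one hx.symm
    rcases subsingleton_or_nontrivial G with hs | hs
    · refine CfsgLib.PLength.pLengthLE_mono (Nat.zero_le _) ?_
      rw [CfsgLib.PLength.pLengthLE_zero_iff, Nat.card_eq_one_iff_unique.2 ⟨hs, inferInstance⟩]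
      exact Nat.coprime_one_left p
    have hOne : Cfsg.pCore p G ≠ ⊥ := by
      rcases CfsgLib.PLocal.pCore_ne_bot_or_of_isPSolvable hG with h | h
      · exact h
      · exact absurd hO h
    set H := G ⧸ Cfsg.pCore p G with hH
    have hHs : Cfsg.IsPSolvable p H := CfsgLib.PLocal.isPSolvable_quotient hG _
    have hH0 : Cfsg.pCore p H = ⊥ := CfsgLib.PLocal.pCore_quotient_pCore_eq_bot p G
    obtain ⟨m, ψ, hψ, hrel⟩ := exists_frattini_module hG hO hexp
    set Hb := H ⧸ Cfsg.pPrimeCore p H with hHb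
    have hHbs : Cfsg.IsPSolvable p Hb := CfsgLib.PLocal.isPSolvable_quotient hHs _
    have hHb0 : Cfsg.pPrimeCore p Hb = ⊥ := CfsgLib.PLocal.pPrimeCore_quotient_pPrimeCore_eq_bot p H
    set H2 := Hb ⧸ Cfsg.pCore p Hb with hH2
    have hH2s : Cfsg.IsPSolvable p H2 := CfsgLib.PLocal.isPSolvable_quotient hHbs _
    have hH20 : Cfsg.pCore p H2 = ⊥ := CfsgLib.PLocal.pCore_quotient_pCore_eq_bot p Hb
    obtain ⟨m2, ψ2, hψ2, hdrop⟩ := exists_frattini_drop hHbs hHb0
    have hexpH := exponent_quotient hexp (Cfsg.pCore p G)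
    have hexp2 : ∀ Q : Sylow p H2, ∀ z ∈ (Q : Subgroup H2), z ^ p ^ e = 1 := by
      intro Q z hz
      obtain ⟨Qb, rfl⟩ := Sylow.mapSurjective_surjective
        (QuotientGroup.mk'_surjective (Cfsg.pCore p Hb)) p Q
      obtain ⟨P, rfl⟩ := Sylow.mapSurjective_surjective
        (QuotientGroup.mk'_surjective (Cfsg.pPrimeCore p H)) p Qb
      obtain ⟨_, ⟨x, hx, rfl⟩, rfl⟩ := hz
      set g := QuotientGroup.mk' (Cfsg.pPrimeCore p H) x with hg
      have hze : (QuotientGroup.mk' (Cfsg.pCore p Hb) g) ^ p ^ (e + 1) = 1 := by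
        rw [hg, ← map_pow, ← map_pow, hexpH P x hx, map_one, map_one]
      obtain ⟨n, hn, hord⟩ := (Nat.dvd_prime_pow hp.out).1 (orderOf_dvd_of_pow_eq_one hze)
      rcases Nat.lt_or_eq_of_le hn with hn' | hn'
      · rw [← orderOf_dvd_iff_pow_eq_one, hord]
        exact pow_dvd_pow p (by omega)
      exfalso
      rw [hn'] at hord
      -- the top powers commute
      have hcm : ∀ u ∈ Cfsg.pCore p Hb, Commute (g ^ p ^ e) ((u * g) ^ p ^ e) := by
        intro u hu
        obtain ⟨u', hu'P, hu'⟩ := CfsgLib.PLocal.pCore_le_sylow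
          (P.mapSurjective (QuotientGroup.mk'_surjective (Cfsg.pPrimeCore p H))) hu
        have h := tops_commute hk hpk hHs hH0 ψ hψ P (M := e + 1) (by omega) hx (mul_mem hu'P hx)
          (hrel x (P.isPGroup'.to_le (Subgroup.zpowers_le.2 hx)))
          (hrel _ (P.isPGroup'.to_le (Subgroup.zpowers_le.2 (mul_mem hu'P hx))))
        have h2 := h.map (QuotientGroup.mk' (Cfsg.pPrimeCore p H))
        rw [map_pow, map_pow, map_mul, hu', ← hg] at h2
        simpa using h2
      have hz1 : (g : H2) ≠ 1 := by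
        intro h
        have h' : QuotientGroup.mk' (Cfsg.pCore p Hb) g = 1 := h
        rw [h', orderOf_one] at hord
        exact (Nat.one_lt_pow (Nat.succ_ne_zero e) hp.out.one_lt).ne hord
      haveI : Nontrivial (Fin m2 → AlgebraicClosure (ZMod p)) := by
        by_contra h
        rw [not_nontrivial_iff_subsingleton] at h
        exact hz1 (hψ2 (LinearMap.ext fun v => Subsingleton.elim _ _))
      have hpe := pow_pos hp.out.pos e
      have hp3 : 3 ≤ p := by
        rw [hpk]
        have : 2 ^ 1 ≤ 2 ^ k := Nat.pow_le_pow_right two_pos hk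
        omega
      rcases degree_bound ψ2 hψ2 hH2s hH20 (g : H2) hord (p ^ e + (p ^ e - 1))
          (hdrop g e hcm) with h | ⟨n₀, q, l, h1, h2, -, -, -, -, h6⟩
      · have h3 : p ^ (e + 1) = p * p ^ e := pow_succ' p e
        have h4 : 3 * p ^ e ≤ p * p ^ e := Nat.mul_le_mul_right _ hp3
        omega
      · have h3 : p ^ (e + 1) = p * p ^ e := pow_succ' p e
        have h4 : 3 * p ^ e ≤ p * p ^ e := Nat.mul_le_mul_right _ hp3
        have h5 : p ^ (e + 1 - n₀) * p ^ n₀ = p ^ (e + 1) := by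
          rw [← pow_add, Nat.sub_add_cancel h2]
        have h7 : p ^ (e + 1 - n₀) ≤ p ^ e := Nat.pow_le_pow_right hp.out.pos (by omega)
        rw [Nat.mul_sub, mul_one, h5] at h6
        omega
    have hH2card : Nat.card H2 ≤ b :=
      ((Nat.le_of_dvd Nat.card_pos (Subgroup.card_quotient_dvd_card _)).trans
        (Nat.le_of_dvd Nat.card_pos (Subgroup.card_quotient_dvd_card _))).trans (hlt _ hOne)
    have h1 := CfsgLib.PLength.pLengthLE_one_of_isPGroup (p := p)
      (CfsgLib.PLocal.isPGroup_pCore p G)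
    have h2 := CfsgLib.PLength.pLengthLE_one_of_isPGroup (p := p)
      (CfsgLib.PLocal.isPGroup_pCore p Hb)
    have h0 : Cfsg.PLengthLE p 0 (Cfsg.pPrimeCore p H) :=
      CfsgLib.PLength.pLengthLE_zero_iff.2 (CfsgLib.PLocal.coprime_card_pPrimeCore p H)
    have hb2 := CfsgLib.PLength.pLengthLE_extension (Cfsg.pCore p Hb) h2
      (ih hH2card hH2s e hexp2)
    exact CfsgLib.PLength.pLengthLE_mono (by omega)
      (CfsgLib.PLength.pLengthLE_extension (Cfsg.pCore p G) h1
        (CfsgLib.PLength.pLengthLE_extension (Cfsg.pPrimeCore p H) h0 hb2))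

end CfsgLib.HallHigman
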