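import Mathlib.GroupTheory.Nilpotent
import Cfsg.Agent.Components.FStar
import Cfsg.Agent.PLocal.Cores

/-!
Primitive subgroups (`M = N_G(N)` for every non-trivial normal subgroup `N` of `M`): they contain no
non-trivial subnormal subgroup.
-/

open Subgroup

namespace CfsgLib.PrimitiveSubgroup

variable {G : Type*} [Group G] [Finite G] {M : Subgroup G}

omit [Finite G] in
/-- A normal subgroup of `G` inside a primitive subgroup is trivial. -/
theorem normal_le_eq_bot (hM : M ≠ ⊤)
    (hprim : ∀ N : Subgroup G, N ≤ M → M ≤ normalizer (N : Set G) → N ≠ ⊥ →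
      normalizer (N : Set G) = M) (K : Subgroup G) [K.Normal] (hK : K ≤ M) : K = ⊥ := by
  by_contra h
  have h1 := hprim K hK le_normalizer_of_normal h
  rw [normalizer_eq_top] at h1
  exact hM h1.symm

/-- A primitive subgroup meets a normal nilpotent subgroup trivially. -/
theorem inf_nilpotent_eq_bot (hM : M ≠ ⊤)
    (hprim : ∀ N : Subgroup G, N ≤ M → M ≤ normalizer (N : Set G) → N ≠ ⊥ →
      normalizer (N : Set G) = M) (F : Subgroup G) [F.Normal] (hF : Group.IsNilpotent F) :
    M ⊓ F = ⊥ := by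
  by_contra h
  have hn : M ≤ normalizer ((M ⊓ F : Subgroup G) : Set G) :=
    (le_inf le_normalizer le_normalizer_of_normal).trans inf_normalizer_le_normalizer_inf
  have hN := hprim _ inf_le_left hn h
  by_cases hFM : F ≤ M
  · exact h (by rw [inf_eq_right.mpr hFM]; exact normal_le_eq_bot hM hprim F hFM)
  have hlt : (M ⊓ F).subgroupOf F < ⊤ := by
    rw [lt_top_iff_ne_top, Ne, subgroupOf_eq_top]
    exact fun h' => hFM (h'.trans inf_le_left)
  obtain ⟨x, hxn, hx⟩ := SetLike.exists_of_lt
    (Group.normalizerCondition_of_isNilpotent (G := ↥F) _ hlt)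
  rw [← subgroupOf_normalizer_eq inf_le_right, mem_subgroupOf, hN] at hxn
  exact hx (mem_subgroupOf.mpr ⟨hxn, x.2⟩)

/-- A primitive subgroup contains no component of `G`. -/
theorem not_component_le (hM : M ≠ ⊤)
    (hprim : ∀ N : Subgroup G, N ≤ M → M ≤ normalizer (N : Set G) → N ≠ ⊥ →
      normalizer (N : Set G) = M) {S : Subgroup G} (hS : Cfsg.IsComponent S) : ¬ S ≤ M := by
  intro hSM
  set T : Set (Subgroup G) := {L | ∃ m ∈ M, L = S.map (MulAut.conj m).toMonoidHom} with hT
  have hTc : ∀ L ∈ T, Cfsg.IsComponent L := by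
    rintro L ⟨m, -, rfl⟩; exact Components.IsComponent.conj hS m
  have hTM : sSup T ≤ M := sSup_le (by
    rintro L ⟨m, hm, rfl⟩ _ ⟨x, hx, rfl⟩
    exact M.mul_mem (M.mul_mem hm (hSM hx)) (M.inv_mem hm))
  have hmap : ∀ (m : G) (L : Subgroup G), m ∈ M → L ∈ T → L.map (MulAut.conj m).toMonoidHom ∈ T := by
    rintro m L hm ⟨k, hk, rfl⟩
    refine ⟨m * k, M.mul_mem hm hk, ?_⟩
    rw [map_map]
    congr 1
    ext x; simp [mul_assoc]
  have hn : M ≤ normalizer ((sSup T : Subgroup G) : Set G) := by
    intro m hm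
    rw [mem_normalizer_iff_map_conj_eq]
    refine eq_of_le_of_card_ge ?_ (by rw [card_map_of_injective (MulAut.conj m).injective])
    rw [sSup_eq_iSup, Subgroup.map_iSup]
    refine iSup_le fun L => ?_
    rw [Subgroup.map_iSup]
    exact iSup_le fun hL => le_iSup₂_of_le _ (hmap m L hm hL) le_rfl
  have hne : sSup T ≠ ⊥ := by
    intro h
    refine Components.IsComponent.ne_bot hS (le_bot_iff.mp (h ▸ le_sSup ?_))
    exact ⟨1, M.one_mem, by rw [map_one]; exact (map_id S).symm⟩
  have hlay : Cfsg.layer G ≤ M :=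
    (Components.layer_le_normalizer_sSup hTc).trans (hprim _ hTM hn hne).le
  haveI : (Cfsg.layer G).Normal := Components.layer_normal
  exact Components.IsComponent.ne_bot hS
    (le_bot_iff.mp ((Components.IsComponent.le_layer hS).trans
      (normal_le_eq_bot hM hprim _ hlay).le))

/-- A primitive subgroup contains no non-trivial subnormal subgroup of `G`. -/
theorem subnormal_le_eq_bot (hM : M ≠ ⊤)
    (hprim : ∀ N : Subgroup G, N ≤ M → M ≤ normalizer (N : Set G) → N ≠ ⊥ →
      normalizer (N : Set G) = M) {L : Subgroup G} (hL : L.IsSubnormal) (hLM : L ≤ M) : L = ⊥ := by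
  by_contra hL1
  obtain ⟨S, hSL, ⟨hSsn, hS1⟩, hmin⟩ := exists_minimal_le_of_wellFoundedLT
    (fun S : Subgroup G => S.IsSubnormal ∧ S ≠ ⊥) L ⟨hL, hL1⟩
  have hSM : S ≤ M := hSL.trans hLM
  have hsimple : ∀ N : Subgroup S, N.Normal → N = ⊥ ∨ N = ⊤ := by
    intro N hN
    by_cases h : N = ⊥
    · exact Or.inl h
    · right
      have h2 := hmin (y := N.map S.subtype)
        ⟨hN.isSubnormal.trans' hSsn, fun e => h ((map_eq_bot_iff_of_injective _ S.subtype_injective).mp e)⟩
        (map_subtype_le N)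
      rw [← map_subtype_inj, ← MonoidHom.range_eq_map, range_subtype]
      exact le_antisymm (map_subtype_le N) h2
  haveI : Nontrivial S := (nontrivial_iff_ne_bot S).mpr hS1
  by_cases hab : IsMulCommutative S
  · obtain ⟨q, hq, hqd⟩ := Nat.exists_prime_and_dvd (n := Nat.card S)
      (fun h => hS1 (card_eq_one.mp h))
    haveI := Fact.mk hq
    obtain ⟨x, hx⟩ := exists_prime_orderOf_dvd_card' (G := ↥S) q hqd
    have hn : (zpowers x).Normal := ⟨fun n hn g => by
      rw [hab.is_comm.comm g n, mul_inv_cancel_right]; exact hn⟩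
    have htop : zpowers x = ⊤ := (hsimple _ hn).resolve_left fun h => by
      rw [zpowers_eq_bot] at h; rw [h, orderOf_one] at hx; exact hq.ne_one hx.symm
    have hp : IsPGroup q S := IsPGroup.of_card (n := 1) (by
      rw [← card_top (G := ↥S), ← htop, Nat.card_zpowers, hx, pow_one])
    have hle := PLocal.le_pCore_of_isSubnormal hSsn hp
    have hbot := inf_nilpotent_eq_bot hM hprim (Cfsg.pCore q G)
      (PLocal.isPGroup_pCore q G).isNilpotent
    exact hS1 (le_bot_iff.mp ((le_inf hSM hle).trans hbot.le))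
  · refine not_component_le hM hprim ⟨hSsn, ?_⟩ hSM
    refine Components.isQuasisimple_of_normal_le_center ?_ fun N hN hne => by
      rw [(hsimple N hN).resolve_right hne]; exact bot_le
    rcases hsimple ⁅(⊤ : Subgroup S), ⊤⁆ inferInstance with h | h
    · exact absurd ((_root_.commutator_eq_bot_iff (G := ↥S)).mp (by rw [_root_.commutator_def]; exact h)) hab
    · exact h

end CfsgLib.PrimitiveSubgroup
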