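import Mathlib.Algebra.BigOperators.Ring.Finset
import Mathlib.Algebra.Module.ZMod
import Mathlib.LinearAlgebra.FreeModule.Finite.Basic
import Mathlib.LinearAlgebra.Dimension.Constructions
import Mathlib.LinearAlgebra.Dimension.Free
import Mathlib.FieldTheory.Finiteness
import Mathlib.Algebra.Field.ZMod
import Mathlib.GroupTheory.PGroup
import Mathlib.GroupTheory.Commutator.Basic

/-!
Sums of signs of quadratic maps on elementary abelian 2-groups, and the resulting criterion for the
existence of involutions outside a central subgroup.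
-/

open scoped commutatorElement

namespace CfsgLib.SquareMap

variable {V : Type*}

/-- A sign-valued quadratic map on an abelian group. -/
structure IsSignQuad [AddCommGroup V] (s : V → ℤ) : Prop where
  sq_one : ∀ x, s x * s x = 1
  polar_add : ∀ x y z, s (x + y + z) * s (x + y) * s z =
    (s (x + z) * s x * s z) * (s (y + z) * s y * s z)

namespace IsSignQuad

variable [AddCommGroup V] {s t : V → ℤ}

theorem one : IsSignQuad (fun _ : V => (1 : ℤ)) := ⟨fun _ => rfl, fun _ _ _ => rfl⟩

theorem mul (hs : IsSignQuad s) (ht : IsSignQuad t) : IsSignQuad (fun x => s x * t x) := by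
  refine ⟨fun x => ?_, fun x y z => ?_⟩
  · rw [mul_mul_mul_comm, hs.sq_one, ht.sq_one, one_mul]
  · calc s (x + y + z) * t (x + y + z) * (s (x + y) * t (x + y)) * (s z * t z)
        = (s (x + y + z) * s (x + y) * s z) * (t (x + y + z) * t (x + y) * t z) := by ring
      _ = _ := by rw [hs.polar_add, ht.polar_add]; ring

theorem prod {ι : Type*} {f : ι → V → ℤ} (hf : ∀ i, IsSignQuad (f i)) (u : Finset ι) :
    IsSignQuad (fun x => ∏ i ∈ u, f i x) := by
  classical
  induction u using Finset.induction_on with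
  | empty => simpa using one
  | @insert a u ha ih => simpa [Finset.prod_insert ha] using (hf a).mul ih

end IsSignQuad

open scoped Classical in
/-- The square of a sign sum: `S² = |V| · Σ_{radical} s`. -/
theorem sum_mul_sum [AddCommGroup V] [Fintype V] {s : V → ℤ} (hs : IsSignQuad s) :
    (∑ x, s x) * (∑ x, s x) = (Fintype.card V : ℤ) *
      ∑ z with (∀ x, s (x + z) * s x * s z = 1), s z := by
  have h1 : (∑ x, s x) * (∑ x, s x) = ∑ z, s z * ∑ x, s (x + z) * s x * s z := by
    calc (∑ x, s x) * (∑ x, s x) = ∑ x, ∑ y, s x * s y := Finset.sum_mul_sum _ _ _ _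
      _ = ∑ x, ∑ z, s x * s (x + z) := by
          refine Finset.sum_congr rfl fun x _ => ?_
          exact (Fintype.sum_equiv (Equiv.addLeft x) _ _ (fun z => rfl)).symm
      _ = ∑ z, ∑ x, s x * s (x + z) := Finset.sum_comm
      _ = _ := by
          refine Finset.sum_congr rfl fun z _ => ?_
          rw [Finset.mul_sum]
          refine Finset.sum_congr rfl fun x _ => ?_
          calc s x * s (x + z) = s x * s (x + z) * (s z * s z) := by rw [hs.sq_one, mul_one]
            _ = s z * (s (x + z) * s x * s z) := by ring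
  rw [h1, Finset.mul_sum, Finset.sum_filter]
  refine Finset.sum_congr rfl fun z _ => ?_
  split_ifs with hz
  · simp only [hz, Finset.sum_const, Finset.card_univ]
    simp [mul_comm]
  · obtain ⟨x₀, hx₀⟩ := not_forall.mp hz
    suffices (∑ x, s (x + z) * s x * s z) = 0 by rw [this, mul_zero]
    have hneg : s (x₀ + z) * s x₀ * s z = -1 := by
      refine (mul_self_eq_one_iff.mp ?_).resolve_left hx₀
      calc _ = (s (x₀ + z) * s (x₀ + z)) * (s x₀ * s x₀) * (s z * s z) := by ring
        _ = 1 := by simp [hs.sq_one]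
    have h2 : (∑ x, s (x + z) * s x * s z) = ∑ x, -(s (x + z) * s x * s z) := by
      refine (Fintype.sum_equiv (Equiv.addRight x₀) _ _ fun x => ?_).symm
      show -(s (x + z) * s x * s z) = s (x + x₀ + z) * s (x + x₀) * s z
      rw [hs.polar_add x x₀ z, hneg]; ring
    rw [Finset.sum_neg_distrib] at h2
    omega

/-- The value of a sign sum: zero, or `± 2^j` with `d ≤ 2 j`. -/
theorem natAbs_sum [AddCommGroup V] [Fintype V] {s : V → ℤ} (hs : IsSignQuad s)
    (h0 : s 0 = 1) {d : ℕ} (hd : Fintype.card V = 2 ^ d) :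
    (∑ x, s x) = 0 ∨ ∃ j, (∑ x, s x).natAbs = 2 ^ j ∧ d ≤ 2 * j ∧ j ≤ d := by
  classical
  obtain ⟨R, hR⟩ : ∃ R : AddSubgroup V, ∀ z, z ∈ R ↔ ∀ x, s (x + z) * s x * s z = 1 := ⟨
    { carrier := {z | ∀ x, s (x + z) * s x * s z = 1}
      zero_mem' := fun x => by rw [add_zero, hs.sq_one, h0, one_mul]
      add_mem' := fun {a b} ha hb x => by
        rw [show x + (a + b) = a + b + x by abel,
          show s (a + b + x) * s x * s (a + b) = s (a + b + x) * s (a + b) * s x by ring,
          hs.polar_add, show a + x = x + a by abel, show b + x = x + b by abel,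
          mul_right_comm _ (s a), ha x, mul_right_comm _ (s b), hb x, one_mul]
      neg_mem' := fun {a} ha x => by
        have h := hs.polar_add a (-a) x
        rw [add_neg_cancel, zero_add, h0, mul_one, hs.sq_one, show a + x = x + a by abel,
          show -a + x = x + -a by abel, mul_right_comm _ (s a), ha x, one_mul,
          mul_right_comm _ (s (-a))] at h
        exact h.symm }, fun _ => Iff.rfl⟩
  have hS := sum_mul_sum hs
  set S := ∑ x, s x
  set T := ∑ z with (∀ x, s (x + z) * s x * s z = 1), s z with hT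
  have hTcases : T = 0 ∨ T = Nat.card R := by
    by_cases hall : ∀ z ∈ R, s z = 1
    · right
      rw [hT]
      refine (Finset.sum_congr rfl (g := fun _ => (1 : ℤ))
        (fun z hz => hall z ((hR z).mpr (Finset.mem_filter.mp hz).2))).trans ?_
      rw [Finset.sum_const, nsmul_one]
      congr 1
      refine (Nat.subtype_card _ fun x => ?_).symm
      rw [Finset.mem_filter]
      rw [hR]
      exact ⟨fun h => h.2, fun h => ⟨Finset.mem_univ _, h⟩⟩
    · left
      push Not at hall
      obtain ⟨z₀, hz₀, hne⟩ := hall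
      have hm : s z₀ = -1 := (mul_self_eq_one_iff.mp (hs.sq_one z₀)).resolve_left hne
      have h2 : T = ∑ z with (∀ x, s (x + z) * s x * s z = 1), -s z := by
        refine (Finset.sum_equiv (Equiv.addRight z₀) ?_ ?_).symm
        · intro z
          simp only [Finset.mem_filter, Finset.mem_univ, true_and, Equiv.coe_addRight]
          rw [← hR, ← hR]
          exact (R.add_mem_cancel_right hz₀).symm
        · intro z hz
          show -s z = s (z + z₀)
          have h := (hR z₀).mp hz₀ z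
          rw [hm] at h
          rcases mul_self_eq_one_iff.mp (hs.sq_one z) with e | e <;> rw [e] at h ⊢ <;> omega
      rw [Finset.sum_neg_distrib, ← hT] at h2
      omega
  rcases hTcases with h | h
  · left
    rw [h, mul_zero] at hS
    exact mul_self_eq_zero.mp hS
  · right
    obtain ⟨r, hrd, hr⟩ : ∃ r, r ≤ d ∧ Nat.card R = 2 ^ r :=
      (Nat.dvd_prime_pow Nat.prime_two).mp (hd ▸ Nat.card_eq_fintype_card (α := V) ▸
        AddSubgroup.card_addSubgroup_dvd_card R)
    rw [h, hd, hr] at hS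
    have habs : S.natAbs * S.natAbs = 2 ^ (d + r) := by
      have := congrArg Int.natAbs hS
      simpa [Int.natAbs_mul, Int.natAbs_pow, pow_add] using this
    obtain ⟨j, -, hj⟩ := (Nat.dvd_prime_pow Nat.prime_two).mp (habs ▸ dvd_mul_right S.natAbs _)
    rw [hj, ← pow_add] at habs
    have := Nat.pow_right_injective le_rfl habs
    exact ⟨j, hj, by omega, by omega⟩

/-- `2^j` divides a sign sum if `2 j ≤ d + 1`. -/
theorem pow_dvd_sum [AddCommGroup V] [Fintype V] {s : V → ℤ} (hs : IsSignQuad s) (h0 : s 0 = 1)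
    {d : ℕ} (hd : Fintype.card V = 2 ^ d) {j : ℕ} (hj : 2 * j ≤ d + 1) :
    (2 ^ j : ℤ) ∣ ∑ x, s x := by
  rcases natAbs_sum hs h0 hd with h | ⟨k, hk, hdk, -⟩
  · rw [h]; exact dvd_zero _
  · have h2 : ((2 ^ j : ℕ) : ℤ) ∣ ∑ x, s x :=
      Int.natCast_dvd.mpr (hk ▸ pow_dvd_pow 2 (by omega))
    simpa using h2

/-- Warning's parity statement for a system of sign quadratic maps. -/
theorem two_dvd_card_zeros [AddCommGroup V] [Fintype V] {ι : Type*} [Fintype ι]
    {f : ι → V → ℤ} (hf : ∀ i, IsSignQuad (f i)) (h0 : ∀ i, f i 0 = 1)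
    {d : ℕ} (hd : Fintype.card V = 2 ^ d) (hlt : 2 * Fintype.card ι < d) :
    2 ∣ Nat.card {x : V // ∀ i, f i x = 1} := by
  classical
  have h2 : ∀ x, (∏ i, (1 + f i x) : ℤ) = if ∀ i, f i x = 1 then (2 : ℤ) ^ Fintype.card ι else 0 := by
    intro x
    split_ifs with h
    · simp [h]
    · obtain ⟨i, hi⟩ := not_forall.mp h
      refine Finset.prod_eq_zero (Finset.mem_univ i) ?_
      rw [(mul_self_eq_one_iff.mp ((hf i).sq_one x)).resolve_left hi]; rfl
  have hsum : (2 ^ (Fintype.card ι + 1) : ℤ) ∣ ∑ x, ∏ i, (1 + f i x) := by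
    simp only [Finset.prod_one_add]
    rw [Finset.sum_comm]
    refine Finset.dvd_sum fun u _ => ?_
    exact pow_dvd_sum (IsSignQuad.prod hf u) (by simp [h0]) hd (by omega)
  simp only [h2] at hsum
  rw [← Finset.sum_filter, Finset.sum_const, nsmul_eq_mul, pow_succ, mul_comm _ (2 : ℤ)] at hsum
  have h3 : (2 : ℤ) ∣ ((Finset.univ.filter fun x : V => ∀ i, f i x = 1).card : ℤ) :=
    (mul_dvd_mul_iff_right (pow_ne_zero _ two_ne_zero)).mp hsum
  rw [Nat.card_eq_fintype_card, Fintype.card_subtype]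
  exact Int.natCast_dvd_natCast.mp (by exact_mod_cast h3)

/-- In a finite group whose squares lie in a subgroup `M` of a central elementary abelian
`2`-subgroup `N`, with `|M|² < |H : N|`, some involution lies outside `N`. -/
theorem exists_sq_eq_one {H : Type*} [Group H] [Finite H] (M N : Subgroup H)
    (hN : N ≤ Subgroup.center H) (hN2 : ∀ x ∈ N, x ^ 2 = 1) (hMN : M ≤ N)
    (hsq : ∀ x : H, x ^ 2 ∈ M) (hlt : Nat.card M ^ 2 < N.index) :
    ∃ x : H, x ∉ N ∧ x ^ 2 = 1 := by
  classical
  have hNn : N.Normal := by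
    refine ⟨fun n hn g => ?_⟩
    rw [Subgroup.mem_center_iff.mp (hN hn) g, mul_inv_cancel_right]; exact hn
  have hQ2 : ∀ v : H ⧸ N, v * v = 1 := fun v => QuotientGroup.induction_on v fun x => by
    rw [← QuotientGroup.mk_mul, QuotientGroup.eq_one_iff, ← sq]; exact hMN (hsq x)
  have hQc : ∀ v w : H ⧸ N, v * w = w * v := by
    intro v w
    have hinv : ∀ u : H ⧸ N, u⁻¹ = u := fun u => inv_eq_of_mul_eq_one_left (hQ2 u)
    calc v * w = (v * w)⁻¹ := (hinv _).symm
      _ = w * v := by rw [mul_inv_rev, hinv, hinv]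
  letI : CommGroup (H ⧸ N) := { (inferInstance : Group (H ⧸ N)) with mul_comm := hQc }
  haveI : Fintype (H ⧸ N) := Fintype.ofFinite _
  obtain ⟨d, hd⟩ : ∃ d, Nat.card (H ⧸ N) = 2 ^ d :=
    IsPGroup.iff_card.mp (fun v => ⟨1, by rw [pow_one, sq]; exact hQ2 v⟩)
  have hMc : ∀ a ∈ M, ∀ g : H, g * a = a * g := fun a ha =>
    Subgroup.mem_center_iff.mp (hN (hMN ha))
  letI : CommGroup ↥M :=
    { (inferInstance : Group ↥M) with mul_comm := fun a b => Subtype.ext (hMc b b.2 a) }
  letI : Module (ZMod 2) (Additive ↥M) := AddCommGroup.zmodModule fun a => by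
    have := hN2 _ (hMN (Additive.toMul a).2)
    exact Additive.toMul.injective (Subtype.ext (by simpa [sq] using this))
  haveI : Fintype ↥M := Fintype.ofFinite _
  let b := Module.finBasis (ZMod 2) (Additive ↥M)
  set a := Module.finrank (ZMod 2) (Additive ↥M) with ha
  have hcard : Nat.card ↥M = 2 ^ a := by
    rw [← Nat.card_congr (Additive.ofMul (α := ↥M)).symm, ha,
      Module.natCard_eq_pow_finrank (K := ZMod 2), Nat.card_zmod]
  let sgn : ZMod 2 → ℤ := fun c => if c = 0 then 1 else -1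
  have hsgn : ∀ c e, sgn (c + e) = sgn c * sgn e := by decide
  let co : Fin a → ↥M → ℤ := fun i m => sgn (b.repr (Additive.ofMul m) i)
  have hco : ∀ i m m', co i (m * m') = co i m * co i m' := fun i m m' => by
    simp only [co, ofMul_mul, map_add, Finsupp.add_apply, hsgn]
  have hsqe : ∀ x y : H, x⁻¹ * y ∈ N → x ^ 2 = y ^ 2 := by
    intro x y h
    obtain ⟨n, hn, rfl⟩ : ∃ n ∈ N, y = x * n := ⟨_, h, (mul_inv_cancel_left x y).symm⟩
    rw [Commute.mul_pow (Subgroup.mem_center_iff.mp (hN hn) x : Commute x n), hN2 n hn, mul_one]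
  let F : H ⧸ N → ↥M := Quotient.lift (fun x => (⟨x ^ 2, hsq x⟩ : ↥M))
    fun x y h => Subtype.ext (hsqe x y (QuotientGroup.leftRel_apply.mp h))
  have hcomm : ∀ x y : H, ⁅y, x⁆ = (y * x) ^ 2 * ((x ^ 2)⁻¹ * (y ^ 2)⁻¹) := by
    intro x y
    calc ⁅y, x⁆ = y * x * y * ((y ^ 2)⁻¹ * x⁻¹) := by rw [commutatorElement_def]; group
      _ = y * x * y * (x⁻¹ * (y ^ 2)⁻¹) := by rw [hMc _ (M.inv_mem (hsq y)) x⁻¹]
      _ = _ := by rw [sq (y * x), sq x]; group
  have hcM : ∀ x y : H, ⁅y, x⁆ ∈ M := fun x y => by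
    rw [hcomm]; exact mul_mem (hsq _) (mul_mem (inv_mem (hsq _)) (inv_mem (hsq _)))
  have hF : ∀ x y : H, (x * y) ^ 2 = x ^ 2 * y ^ 2 * ⁅y, x⁆ := by
    intro x y
    have h1 := hMc _ (hcM x y)
    calc (x * y) ^ 2 = x * ((y * x * y⁻¹ * x⁻¹) * x * y) * y := by rw [sq]; group
      _ = x * (x * y * ⁅y, x⁆) * y := by rw [← commutatorElement_def, mul_assoc ⁅y, x⁆, ← h1]
      _ = x * x * (y * ⁅y, x⁆ * y) := by group
      _ = x ^ 2 * y ^ 2 * ⁅y, x⁆ := by rw [mul_assoc y, ← h1 y, sq, sq]; group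
  have hbil : ∀ x y z : H, ⁅z, x * y⁆ = ⁅z, x⁆ * ⁅z, y⁆ := by
    intro x y z
    rw [commutatorElement_mul_right_eq_mul_conj]
    simp only [mul_assoc]
    rw [← hMc _ (hcM y z) x⁻¹, mul_inv_cancel_left]
  let f : Fin a → Additive (H ⧸ N) → ℤ := fun i v => co i (F (Additive.toMul v))
  have hco1 : ∀ i m, co i m * co i m = 1 := fun i m => by
    rw [← hsgn]; simp [sgn, CharTwo.add_self_eq_zero]
  have hpol : ∀ i (x y : H), co i (F ((x * y : H) : H ⧸ N)) * co i (F (x : H ⧸ N)) *
      co i (F (y : H ⧸ N)) = co i ⟨⁅y, x⁆, hcM x y⟩ := by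
    intro i x y
    have hx : F ((x * y : H) : H ⧸ N) = F (x : H ⧸ N) * F (y : H ⧸ N) * ⟨⁅y, x⁆, hcM x y⟩ :=
      Subtype.ext (hF x y)
    rw [hx, hco, hco]
    calc _ = (co i (F (x : H ⧸ N)) * co i (F (x : H ⧸ N))) *
          (co i (F (y : H ⧸ N)) * co i (F (y : H ⧸ N))) * co i ⟨⁅y, x⁆, hcM x y⟩ := by ring
      _ = _ := by rw [hco1, hco1, one_mul, one_mul]
  have hf : ∀ i, IsSignQuad (f i) := by
    refine fun i => ⟨fun v => hco1 i _, fun u v w => ?_⟩
    obtain ⟨x, hx⟩ := QuotientGroup.mk_surjective (Additive.toMul u)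
    obtain ⟨y, hy⟩ := QuotientGroup.mk_surjective (Additive.toMul v)
    obtain ⟨z, hz⟩ := QuotientGroup.mk_surjective (Additive.toMul w)
    simp only [f, toMul_add, ← hx, ← hy, ← hz, ← QuotientGroup.mk_mul]
    rw [hpol, hpol, hpol, ← hco]
    exact congrArg (co i) (Subtype.ext (hbil x y z))
  have hF1 : F 1 = 1 := Subtype.ext (one_pow 2)
  have h0 : ∀ i, f i 0 = 1 := fun i => by simp [f, hF1, co, sgn]
  haveI : Fintype (Additive (H ⧸ N)) := Fintype.ofFinite _
  have hdV : Fintype.card (Additive (H ⧸ N)) = 2 ^ d := by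
    rw [← Nat.card_eq_fintype_card]; exact hd
  have had : 2 * Fintype.card (Fin a) < d := by
    rw [Fintype.card_fin]
    have h : (2 : ℕ) ^ (a * 2) < 2 ^ d := by
      rw [pow_mul, ← hcard, ← hd]; exact hlt
    have := (Nat.pow_lt_pow_iff_right (by norm_num : 1 < 2)).mp h
    omega
  have heven := two_dvd_card_zeros hf h0 hdV had
  by_contra! hno
  have hone : Nat.card {v : Additive (H ⧸ N) // ∀ i, f i v = 1} = 1 := by
    rw [Nat.card_eq_one_iff_unique]
    refine ⟨⟨fun v w => Subtype.ext ?_⟩, ⟨⟨0, h0⟩⟩⟩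
    suffices key : ∀ v : Additive (H ⧸ N), (∀ i, f i v = 1) → v = 0 from
      (key _ v.2).trans (key _ w.2).symm
    intro v hv
    obtain ⟨x, hx⟩ := QuotientGroup.mk_surjective (Additive.toMul v)
    have hz : b.repr (Additive.ofMul (F (Additive.toMul v))) = 0 := by
      ext i
      have := hv i
      simp only [f, co, sgn] at this
      simpa using this
    have h1 : F (Additive.toMul v) = 1 := by simpa using hz
    rw [← hx] at h1
    have hxN : x ∈ N := by
      by_contra h
      exact hno x h (congrArg Subtype.val h1)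
    apply Additive.toMul.injective
    rw [← hx, (QuotientGroup.eq_one_iff x).mpr hxN]
    rfl
  omega

end CfsgLib.SquareMap
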