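import Mathlib
import Cfsg.Agent.ConjFunctor.Sections

/-!
The regular wreath product `C_p ≀ C_p`, in universe zero, and a criterion for it to be a section.
-/

set_option autoImplicit false
set_option linter.style.haveILetI false

open Finset

namespace CfsgLib.HallHigman

universe u v

variable (p : ℕ) [hp : Fact p.Prime]

/-- The cyclic shift of functions on `ZMod p`. -/
def wreathShift : Multiplicative (ZMod p) →* MulAut (Multiplicative (ZMod p → ZMod p)) where
  toFun q :=
    { toFun := fun f => Multiplicative.ofAdd fun i => f.toAdd (i - q.toAdd)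
      invFun := fun f => Multiplicative.ofAdd fun i => f.toAdd (i + q.toAdd)
      left_inv := fun f => Multiplicative.toAdd.injective (funext fun i =>
        congrArg f.toAdd (add_sub_cancel_right i q.toAdd))
      right_inv := fun f => Multiplicative.toAdd.injective (funext fun i =>
        congrArg f.toAdd (sub_add_cancel i q.toAdd))
      map_mul' := fun _ _ => rfl }
  map_one' := MulEquiv.ext fun f => Multiplicative.toAdd.injective (funext fun i =>
    congrArg f.toAdd (sub_zero i))
  map_mul' q r := MulEquiv.ext fun f => Multiplicative.toAdd.injective (funext fun i =>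
    congrArg f.toAdd (show i - (q.toAdd + r.toAdd) = i - q.toAdd - r.toAdd from sub_add_eq_sub_sub _ _ _))

/-- `C_p ≀ C_p`. -/
abbrev WreathCp : Type := Multiplicative (ZMod p → ZMod p) ⋊[wreathShift p] Multiplicative (ZMod p)

instance : Finite (WreathCp p) := Finite.of_equiv _ SemidirectProduct.equivProd.symm

theorem wreathShift_apply (q : Multiplicative (ZMod p)) (f : Multiplicative (ZMod p → ZMod p))
    (i : ZMod p) : (wreathShift p q f).toAdd i = f.toAdd (i - q.toAdd) := rfl

/-- The defining properties of `C_p ≀ C_p`. -/
theorem wreathCp_spec : ∃ (B : Subgroup (WreathCp p)) (t : WreathCp p), B.Normal ∧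
    IsMulCommutative B ∧ (∀ b ∈ B, b ^ p = 1) ∧ Nat.card B = p ^ p ∧ orderOf t = p ∧ t ∉ B ∧
    Nat.card (WreathCp p) = p ^ (p + 1) ∧
    Nat.card ↥(B ⊓ Subgroup.centralizer ({t} : Set (WreathCp p))) = p := by
  let inl := (SemidirectProduct.inl : Multiplicative (ZMod p → ZMod p) →* WreathCp p)
  have hinl : Function.Injective inl := SemidirectProduct.inl_injective
  set g : Multiplicative (ZMod p) := Multiplicative.ofAdd 1 with hg
  have hfun : Nat.card (Multiplicative (ZMod p → ZMod p)) = p ^ p := by
    rw [Nat.card_congr Multiplicative.toAdd, Nat.card_fun, Nat.card_zmod]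
  refine ⟨inl.range, SemidirectProduct.inr g, ?_, inferInstance, ?_, ?_, ?_, ?_, ?_, ?_⟩
  · rw [SemidirectProduct.range_inl_eq_ker_rightHom]
    infer_instance
  · rintro _ ⟨f, rfl⟩
    rw [← map_pow, show f ^ p = 1 from Multiplicative.toAdd.injective (funext fun i => by simp),
      map_one]
  · rw [← hfun]
    exact Nat.card_congr (MonoidHom.ofInjective hinl).toEquiv.symm
  · rw [orderOf_injective _ SemidirectProduct.inr_injective, hg, orderOf_ofAdd_eq_addOrderOf,
      ZMod.addOrderOf_one]
  · rintro ⟨f, hf⟩
    have h : (1 : Multiplicative (ZMod p)) = g := congrArg SemidirectProduct.right hf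
    rw [hg] at h
    exact zero_ne_one (Multiplicative.ofAdd.injective h)
  · rw [SemidirectProduct.card, hfun, Nat.card_congr Multiplicative.toAdd, Nat.card_zmod, pow_succ]
  · let c : Multiplicative (ZMod p) →* WreathCp p := inl.comp
      { toFun := fun z => Multiplicative.ofAdd fun _ => z.toAdd
        map_one' := rfl
        map_mul' := fun _ _ => rfl }
    have hc : Function.Injective c := fun a b h => Multiplicative.toAdd.injective
      (congrFun (congrArg Multiplicative.toAdd (hinl h)) 0)
    have heq : inl.range ⊓ Subgroup.centralizer ({SemidirectProduct.inr g} : Set (WreathCp p)) =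
        c.range := by
      ext w
      constructor
      · rintro ⟨⟨f, rfl⟩, hw⟩
        replace hw := Subgroup.mem_centralizer_singleton_iff.1 hw
        have h1 : f = wreathShift p g f := by
          simpa [inl] using congrArg SemidirectProduct.left hw
        have h2 : ∀ i, f.toAdd (i + 1) = f.toAdd i := fun i => by
          conv_lhs => rw [h1]
          rw [wreathShift_apply, hg, toAdd_ofAdd, add_sub_cancel_right]
        have h3 : ∀ n : ℕ, f.toAdd n = f.toAdd 0 := by
          intro n
          induction n with
          | zero => rw [Nat.cast_zero]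
          | succ n ih => rw [Nat.cast_succ, h2, ih]
        refine ⟨Multiplicative.ofAdd (f.toAdd 0), congrArg inl ?_⟩
        exact Multiplicative.toAdd.injective (funext fun i => by
          show f.toAdd 0 = f.toAdd i
          rw [← ZMod.natCast_zmod_val i, h3])
      · rintro ⟨z, rfl⟩
        refine ⟨⟨_, rfl⟩, ?_⟩
        refine Subgroup.mem_centralizer_singleton_iff.2 ?_
        refine SemidirectProduct.ext ?_ ?_
        · simp [c, inl]
          exact Multiplicative.toAdd.injective (funext fun i => rfl)
        · simp [c, inl]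
    rw [heq, ← Nat.card_congr (MonoidHom.ofInjective hc).toEquiv, Nat.card_congr Multiplicative.toAdd,
      Nat.card_zmod]

/-- The powers of an element of order dividing `p`, indexed by `ZMod p`. -/
def zmodPow {X : Type u} [Monoid X] (x : X) (hx : x ^ p = 1) : Multiplicative (ZMod p) →* X where
  toFun z := x ^ z.toAdd.val
  map_one' := by simp
  map_mul' a b := by
    rw [← pow_add, toAdd_mul, ZMod.val_add]
    exact (pow_eq_pow_mod _ hx).symm

theorem zmodPow_ofAdd_one {X : Type u} [Monoid X] (x : X) (hx : x ^ p = 1) :
    zmodPow p x hx (Multiplicative.ofAdd 1) = x := by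
  show x ^ (1 : ZMod p).val = x
  rw [ZMod.val_one, pow_one]

/-- If `a` lies in an elementary abelian subgroup normalised by `h`, `h ^ p = 1` and
`(a h) ^ p ≠ 1`, then `a` and `h` generate a copy of `C_p ≀ C_p`. -/
theorem wreathCp_embed {X : Type u} [Group X] (A : Subgroup X) [IsMulCommutative A]
    (hexp : ∀ x ∈ A, x ^ p = 1) (h : X) (hnorm : ∀ x ∈ A, h * x * h⁻¹ ∈ A) (hh : h ^ p = 1)
    {a : X} (ha : a ∈ A) (hne : (a * h) ^ p ≠ 1) :
    ∃ e : WreathCp p →* X, Function.Injective e ∧
      e.range ≤ Subgroup.closure ({a, h} : Set X) := by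
  haveI : NeZero p := ⟨hp.out.ne_zero⟩
  letI : CommGroup A := { (inferInstance : Group A) with mul_comm := fun x y => mul_comm' x y }
  have hnormk : ∀ (k : ℕ), ∀ x ∈ A, h ^ k * x * (h ^ k)⁻¹ ∈ A := by
    intro k
    induction k with
    | zero => intro x hx; simpa using hx
    | succ k ih =>
      intro x hx
      have h1 := hnorm _ (ih x hx)
      convert h1 using 1
      rw [pow_succ']
      group
  let b : ZMod p → A := fun i => ⟨h ^ i.val * a * (h ^ i.val)⁻¹, hnormk _ a ha⟩
  have hb : ∀ i, b i ^ p = 1 := fun i => Subtype.ext (by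
    rw [Subgroup.coe_pow, Subgroup.coe_one]; exact hexp _ (b i).2)
  let fn : Multiplicative (ZMod p → ZMod p) →* A :=
    { toFun := fun f => ∏ i, zmodPow p (b i) (hb i) (Multiplicative.ofAdd (f.toAdd i))
      map_one' := Finset.prod_eq_one fun i _ => map_one _
      map_mul' := fun f f' => by
        rw [← Finset.prod_mul_distrib]
        exact Finset.prod_congr rfl fun i _ => map_mul _ _ _ }
  let fg := zmodPow p h hh
  let cj : Multiplicative (ZMod p) → A →* A := fun q =>
    { toFun := fun x => ⟨fg q * x * (fg q)⁻¹, hnormk q.toAdd.val _ x.2⟩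
      map_one' := by simp
      map_mul' := fun x y => Subtype.ext (by
        show fg q * ((x : X) * y) * (fg q)⁻¹ = fg q * x * (fg q)⁻¹ * (fg q * y * (fg q)⁻¹)
        group) }
  have hcjb : ∀ q i, cj q (b i) = b (i + q.toAdd) := by
    intro q i
    refine Subtype.ext ?_
    show h ^ q.toAdd.val * (h ^ i.val * a * (h ^ i.val)⁻¹) * (h ^ q.toAdd.val)⁻¹ =
      h ^ (i + q.toAdd).val * a * (h ^ (i + q.toAdd).val)⁻¹
    have h1 : h ^ (i + q.toAdd).val = h ^ q.toAdd.val * h ^ i.val := by
      rw [← pow_add, ZMod.val_add, ← pow_eq_pow_mod _ hh, add_comm]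
    rw [h1]
    group
  have hcompat : ∀ q, (A.subtype.comp fn).comp (wreathShift p q).toMonoidHom =
      (MulAut.conj (fg q)).toMonoidHom.comp (A.subtype.comp fn) := by
    intro q
    refine MonoidHom.ext fun f => ?_
    show ((fn (wreathShift p q f) : A) : X) = ((cj q (fn f) : A) : X)
    refine congrArg Subtype.val ?_
    show ∏ i, zmodPow p (b i) (hb i) (Multiplicative.ofAdd ((wreathShift p q f).toAdd i)) =
      cj q (∏ i, zmodPow p (b i) (hb i) (Multiplicative.ofAdd (f.toAdd i)))
    rw [map_prod]
    refine Fintype.prod_equiv (Equiv.subRight q.toAdd) _ _ fun i => ?_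
    rw [wreathShift_apply, Equiv.subRight_apply]
    show b i ^ _ = cj q (b (i - q.toAdd) ^ _)
    rw [map_pow, hcjb, sub_add_cancel]
  let e : WreathCp p →* X := SemidirectProduct.lift (A.subtype.comp fn) fg hcompat
  let δ : ℕ → Multiplicative (ZMod p → ZMod p) := fun k =>
    Multiplicative.ofAdd fun i => if i.val < k then 1 else 0
  let g1 : Multiplicative (ZMod p) := Multiplicative.ofAdd 1
  have hfn1 : fn (δ 1) = b 0 := by
    show ∏ i, zmodPow p (b i) (hb i) (Multiplicative.ofAdd ((δ 1).toAdd i)) = b 0
    rw [Finset.prod_eq_single (0 : ZMod p)]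
    · simp [δ, zmodPow_ofAdd_one]
    · intro i _ hi
      have h1 : ¬ i.val < 1 := fun h1 => hi ((ZMod.val_eq_zero _).1 (by omega))
      rw [show (δ 1).toAdd i = 0 from if_neg h1, ofAdd_zero, map_one]
    · simp
  have hea : e (SemidirectProduct.inl (δ 1)) = a := by
    rw [SemidirectProduct.lift_inl, MonoidHom.comp_apply, hfn1]
    simp [b]
  have heh : e (SemidirectProduct.inr g1) = h := by
    rw [SemidirectProduct.lift_inr]
    exact zmodPow_ofAdd_one p h hh
  -- the `p`-th power of the product of the generators is the norm
  have hk : ∀ k : ℕ, k ≤ p → (SemidirectProduct.inl (δ 1) * SemidirectProduct.inr g1 : WreathCp p) ^ k =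
      SemidirectProduct.inl (δ k) * SemidirectProduct.inr (g1 ^ k) := by
    intro k
    induction k with
    | zero =>
      intro _
      rw [pow_zero, pow_zero, map_one, mul_one, show δ 0 = 1 from
        Multiplicative.toAdd.injective (funext fun i => by simp [δ]), map_one]
    | succ k ih =>
      intro hkp
      rw [pow_succ, ih (by omega), pow_succ g1]
      refine SemidirectProduct.ext ?_ ?_
      · simp only [SemidirectProduct.mul_left, SemidirectProduct.left_inl,
          SemidirectProduct.right_inl, SemidirectProduct.left_inr, SemidirectProduct.right_inr,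
          SemidirectProduct.mul_right, map_one, mul_one, one_mul]
        refine Multiplicative.toAdd.injective (funext fun i => ?_)
        rw [toAdd_mul, Pi.add_apply, wreathShift_apply]
        have hkk : ((g1 ^ k).toAdd : ZMod p) = k := by simp [g1]
        show (if i.val < k then (1 : ZMod p) else 0) + (if (i - (g1 ^ k).toAdd).val < 1 then 1 else 0) =
          if i.val < k + 1 then 1 else 0
        have h2 : (i - (g1 ^ k).toAdd).val < 1 ↔ i.val = k := by
          rw [hkk, Nat.lt_one_iff, ZMod.val_eq_zero, sub_eq_zero]
          exact ⟨fun h => by rw [h, ZMod.val_cast_of_lt (by omega)],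
            fun h => by rw [← h, ZMod.natCast_zmod_val]⟩
        simp only [h2]
        split_ifs <;> first | omega | simp
      · simp
  set one' : Multiplicative (ZMod p → ZMod p) := Multiplicative.ofAdd fun _ => (1 : ZMod p) with hone
  have hδp : δ p = one' := by
    refine Multiplicative.toAdd.injective (funext fun i => ?_)
    exact if_pos (ZMod.val_lt i)
  have hN : fn one' ≠ 1 := by
    intro h0
    apply hne
    have hpow := congrArg e (hk p le_rfl)
    rw [map_pow, map_mul, hea, heh, map_mul, hδp,
      show g1 ^ p = 1 from Multiplicative.toAdd.injective (by simp [g1])] at hpow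
    rw [hpow, map_one, map_one, mul_one, SemidirectProduct.lift_inl, MonoidHom.comp_apply, h0,
      map_one]
  refine ⟨e, ?_, ?_⟩
  · rw [injective_iff_map_eq_one]
    intro w hw
    have hw' : (fn w.left : X) * fg w.right = 1 := hw
    have hright : w.right = 1 := by
      by_contra hq
      have hq0 : w.right.toAdd ≠ 0 := fun h0 => hq (Multiplicative.toAdd.injective (by simpa using h0))
      have hqA : fg w.right ∈ A := by
        rw [show fg w.right = (fn w.left : X)⁻¹ from eq_inv_of_mul_eq_one_right hw']
        exact inv_mem (fn w.left).2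
      have hcomm : Commute h a := by
        have hd : ¬ p ∣ w.right.toAdd.val := fun hd =>
          hq0 ((ZMod.val_eq_zero _).1 (Nat.eq_zero_of_dvd_of_lt hd (ZMod.val_lt _)))
        have h1 : Commute (h ^ w.right.toAdd.val) a := congrArg Subtype.val
          (mul_comm' (⟨fg w.right, hqA⟩ : A) ⟨a, ha⟩)
        obtain ⟨c, hc⟩ : ∃ c, (h ^ w.right.toAdd.val) ^ c = h := by
          refine ⟨(w.right.toAdd⁻¹).val, ?_⟩
          rw [← pow_mul, pow_eq_pow_mod _ hh, ← ZMod.val_mul, mul_inv_cancel₀ hq0, ZMod.val_one,
            pow_one]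
        rw [← hc]
        exact h1.pow_left c
      refine hne ?_
      rw [hcomm.symm.mul_pow, hh, hexp a ha, mul_one]
    have hleft : fn w.left = 1 := Subtype.ext (by
      rw [hright, map_one, mul_one] at hw'
      rw [hw', Subgroup.coe_one])
    refine SemidirectProduct.ext ?_ hright
    by_contra hf
    -- iterate differences down to a constant
    let S : Module.End (ZMod p) (ZMod p → ZMod p) :=
      { toFun := fun f i => f (i - 1)
        map_add' := fun _ _ => rfl
        map_smul' := fun _ _ => rfl }
    haveI : CharP (Module.End (ZMod p) (ZMod p → ZMod p)) p :=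
      charP_of_injective_algebraMap (algebraMap (ZMod p) _).injective p
    have hSk : ∀ (k : ℕ) (f : ZMod p → ZMod p) i, (S ^ k) f i = f (i - k) := by
      intro k
      induction k with
      | zero => intro f i; simp
      | succ k ih =>
        intro f i
        rw [pow_succ', Module.End.mul_apply]
        show (S ^ k) f (i - 1) = _
        rw [ih, Nat.cast_succ, sub_sub, add_comm (1 : ZMod p)]
    let D : Module.End (ZMod p) (ZMod p → ZMod p) := S - 1
    have hDapp : ∀ f i, D f i = f (i - 1) - f i := fun f i => rfl
    have hDp : D ^ p = 0 := by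
      show (S - 1) ^ p = 0
      rw [sub_pow_char_of_commute p (Commute.one_right _), one_pow, sub_eq_zero]
      refine LinearMap.ext fun f => funext fun i => ?_
      rw [hSk, ZMod.natCast_self, sub_zero, Module.End.one_apply]
    have hcl : ∀ (k : ℕ), fn (Multiplicative.ofAdd ((D ^ k) w.left.toAdd)) = 1 := by
      intro k
      induction k with
      | zero => simpa using hleft
      | succ k ih =>
        set f := (D ^ k) w.left.toAdd with hf'
        have h1 : Multiplicative.ofAdd ((D ^ (k + 1)) w.left.toAdd) =
            wreathShift p g1 (Multiplicative.ofAdd f) * (Multiplicative.ofAdd f)⁻¹ := by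
          rw [pow_succ', Module.End.mul_apply]
          refine Multiplicative.toAdd.injective (funext fun i => ?_)
          rw [toAdd_mul, toAdd_inv, Pi.add_apply, wreathShift_apply]
          exact (hDapp _ _).trans (sub_eq_add_neg _ _)
        rw [h1, map_mul, map_inv, ih, inv_one, mul_one]
        have h2 := DFunLike.congr_fun (hcompat g1) (Multiplicative.ofAdd f)
        refine Subtype.ext (h2.trans ?_)
        show MulAut.conj (fg g1) ((fn (Multiplicative.ofAdd f) : A) : X) = _
        rw [ih, Subgroup.coe_one, map_one]
    classical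
    have hex : ∃ k, (D ^ k) w.left.toAdd = 0 := ⟨p, by rw [hDp]; rfl⟩
    obtain ⟨k, hk'⟩ : ∃ k, Nat.find hex = k + 1 := by
      refine Nat.exists_eq_succ_of_ne_zero fun h0 => hf ?_
      have h1 := Nat.find_spec hex
      rw [h0, pow_zero, Module.End.one_apply] at h1
      exact Multiplicative.toAdd.injective h1
    set d := (D ^ k) w.left.toAdd with hd
    have hd0 : d ≠ 0 := Nat.find_min hex (by omega)
    have hfix : ∀ i, d (i - 1) = d i := fun i => by
      have h1 := Nat.find_spec hex
      rw [hk', pow_succ', Module.End.mul_apply] at h1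
      have h2 := congrFun h1 i
      rw [hDapp] at h2
      exact sub_eq_zero.1 h2
    have hconst : ∀ n : ℕ, d n = d 0 := by
      intro n
      induction n with
      | zero => rw [Nat.cast_zero]
      | succ n ih => rw [← hfix, Nat.cast_succ, add_sub_cancel_right, ih]
    have hd00 : d 0 ≠ 0 := fun h0 => hd0 (funext fun i => by
      rw [← ZMod.natCast_zmod_val i, hconst, h0]; rfl)
    apply hN
    have h3 : one' = Multiplicative.ofAdd d ^ ((d 0)⁻¹).val := by
      refine Multiplicative.toAdd.injective (funext fun i => ?_)
      show (1 : ZMod p) = (((d 0)⁻¹).val • d) i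
      rw [Pi.smul_apply, nsmul_eq_mul, ZMod.natCast_zmod_val, ← ZMod.natCast_zmod_val i, hconst,
        inv_mul_cancel₀ hd00]
    rw [h3, map_pow, hd, hcl, one_pow]
  · rintro _ ⟨w, rfl⟩
    have hA : a ∈ Subgroup.closure ({a, h} : Set X) := Subgroup.subset_closure (Or.inl rfl)
    have hH : h ∈ Subgroup.closure ({a, h} : Set X) := Subgroup.subset_closure (Or.inr rfl)
    show ((fn w.left : A) : X) * fg w.right ∈ _
    refine mul_mem ?_ (pow_mem hH _)
    show ((∏ i, zmodPow p (b i) (hb i) (Multiplicative.ofAdd (w.left.toAdd i)) : A) : X) ∈ _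
    have hcl : ∀ i, zmodPow p (b i) (hb i) (Multiplicative.ofAdd (w.left.toAdd i)) ∈
        (Subgroup.closure ({a, h} : Set X)).subgroupOf A := fun i => by
      rw [Subgroup.mem_subgroupOf]
      show ((b i ^ _ : A) : X) ∈ _
      rw [Subgroup.coe_pow]
      exact pow_mem (mul_mem (mul_mem (pow_mem hH _) hA) (inv_mem (pow_mem hH _))) _
    exact Subgroup.mem_subgroupOf.1 (prod_mem (t := Finset.univ) fun i _ => hcl i)

end CfsgLib.HallHigman
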